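import Cfsg.Agent.H78.Zass.Core
import Cfsg.Agent.Cores.Constrained
import Cfsg.Agent.H33.QuaternionAut
import Mathlib.GroupTheory.SpecificGroups.Alternating
import Mathlib.GroupTheory.SpecificGroups.KleinFour

/-!
# Solvable `PQGroup`s
-/

set_option autoImplicit false
set_option linter.unusedSectionVars false
set_option linter.style.haveILetI false

namespace Cfsg.Agent.H78.Zass

open Subgroup
open scoped commutatorElement Pointwise

/-- Quaternion pairs do not embed in abelian-by-odd groups. -/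
theorem not_hasQPair_of_map_cyclic {G : Type*} [Group G] [Finite G] {Q : Type*} [Group Q]
    (f : G →* Q) (hker : Odd (Nat.card f.ker)) {N : Subgroup G} (hN : IsCyclic (N.map f)) :
    ¬ HasQPair N := by
  rintro ⟨i, hi, j, hj, hij⟩
  letI : CommGroup (N.map f) := IsCyclic.commGroup
  have hc : f j * f i = f i * f j :=
    congrArg Subtype.val (mul_comm (⟨f j, mem_map_of_mem f hj⟩ : N.map f) ⟨f i, mem_map_of_mem f hi⟩)
  have hmem : j * i * j⁻¹ * i⁻¹ ∈ f.ker := by
    rw [MonoidHom.mem_ker, map_mul, map_mul, map_mul, map_inv, map_inv, hc]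
    group
  rw [hij.2.1, ← mul_inv_rev, ← pow_two] at hmem
  have h2 : orderOf (i ^ 2)⁻¹ = 2 := by
    rw [orderOf_inv, orderOf_pow_of_dvd two_ne_zero (by rw [hij.1]; norm_num), hij.1]
  have h1 := hker.of_dvd_nat (Subgroup.orderOf_dvd_natCard _ hmem)
  rw [h2] at h1
  exact absurd h1 (by decide)

theorem q8_pairs_card : (Finset.univ.filter fun p : QuaternionGroup 2 × QuaternionGroup 2 =>
    p.1 * p.1 ≠ 1 ∧ p.2 * p.2 ≠ 1 ∧ p.2 ≠ p.1 ∧ p.2 * p.1 ≠ 1).card = 24 := by decide

theorem q8_central : ∀ g : QuaternionGroup 2, (∀ h : QuaternionGroup 2, g * h = h * g) → g * g = 1 := by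
  decide

theorem card_mulAut_q8 : Nat.card (MulAut (QuaternionGroup 2)) ≤ 24 := by
  classical
  rw [← q8_pairs_card, ← Nat.card_eq_finsetCard]
  have hne : (QuaternionGroup.a 1 * QuaternionGroup.a 1 : QuaternionGroup 2) ≠ 1 ∧
      (QuaternionGroup.xa 0 * QuaternionGroup.xa 0 : QuaternionGroup 2) ≠ 1 ∧
      (QuaternionGroup.xa 0 : QuaternionGroup 2) ≠ QuaternionGroup.a 1 ∧
      (QuaternionGroup.xa 0 * QuaternionGroup.a 1 : QuaternionGroup 2) ≠ 1 := by decide
  refine Nat.card_le_card_of_injective (fun α => (⟨(α (QuaternionGroup.a 1), α (QuaternionGroup.xa 0)),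
    Finset.mem_filter.2 ⟨Finset.mem_univ _, ?_⟩⟩ : {x // x ∈ Finset.univ.filter fun p :
      QuaternionGroup 2 × QuaternionGroup 2 =>
        p.1 * p.1 ≠ 1 ∧ p.2 * p.2 ≠ 1 ∧ p.2 ≠ p.1 ∧ p.2 * p.1 ≠ 1})) ?_
  · obtain ⟨h1, h2, h3, h4⟩ := hne
    refine ⟨?_, ?_, α.injective.ne h3, ?_⟩
    · rw [← map_mul]; exact fun h => h1 (α.injective (h.trans (map_one α).symm))
    · rw [← map_mul]; exact fun h => h2 (α.injective (h.trans (map_one α).symm))
    · rw [← map_mul]; exact fun h => h4 (α.injective (h.trans (map_one α).symm))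
  · intro α β h
    exact H33.QuatAut.aut_ext (congrArg (fun x => x.1.1) h) (congrArg (fun x => x.1.2) h)

variable {G : Type*} [Group G] [Finite G]

namespace PQGroup

variable (hG : PQGroup G)
include hG

theorem commute_two_group_odd' {T : Subgroup G} (hT : IsPGroup 2 T)
    (h3 : ¬ HasQPair T ∨ 8 < Nat.card T) :
    ∀ n : ℕ, ∀ g : G, orderOf g = n → Odd n → (∀ t ∈ T, g * t * g⁻¹ ∈ T) → ∀ t ∈ T, Commute g t := by
  intro n
  induction n using Nat.strong_induction_on with
  | _ n ih =>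
    intro g hg hodd hn t ht
    by_cases h1 : n = 1
    · rw [h1, orderOf_eq_one_iff] at hg
      rw [hg]; exact Commute.one_left t
    have hp := Nat.minFac_prime h1
    have hp2 : n.minFac ≠ 2 := fun h => by
      have h2 := hodd.of_dvd_nat (h ▸ Nat.minFac_dvd n)
      exact absurd h2 (by decide)
    have hn0 : n ≠ 0 := fun h => by rw [h] at hodd; exact absurd hodd (by decide)
    obtain ⟨e, N, hN, hnN⟩ := Nat.exists_eq_pow_mul_and_not_dvd hn0 n.minFac hp.ne_one
    have hNpos : 0 < N := Nat.pos_of_ne_zero fun h => hN (h ▸ dvd_zero _)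
    have he : e ≠ 0 := fun h => hN <| by
      rw [h, pow_zero, one_mul] at hnN
      exact hnN ▸ Nat.minFac_dvd n
    have hpos : 0 < n.minFac ^ e := pow_pos hp.pos e
    have hpw : ∀ m : ℕ, ∀ t ∈ T, g ^ m * t * (g ^ m)⁻¹ ∈ T := by
      intro m
      induction m with
      | zero => intro t ht; simpa using ht
      | succ m ihm =>
        intro t ht
        rw [pow_succ', show g * g ^ m * t * (g * g ^ m)⁻¹ = g * (g ^ m * t * (g ^ m)⁻¹) * g⁻¹ by
          group]
        exact hn _ (ihm t ht)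
    have hdN : N ∣ orderOf g := by rw [hg]; exact ⟨_, hnN.trans (mul_comm _ _)⟩
    have hdp : n.minFac ^ e ∣ orderOf g := by rw [hg]; exact ⟨_, hnN⟩
    refine commute_of_parts ((hp.coprime_iff_not_dvd.2 hN).pow_left e) ?_ ?_
    · have hoN : orderOf (g ^ n.minFac ^ e) = N := by
        rw [orderOf_pow_of_dvd hpos.ne' hdp, hg]
        exact Nat.div_eq_of_eq_mul_right hpos hnN
      have hlt : N < n := by
        conv_rhs => rw [hnN]
        exact lt_mul_of_one_lt_left hNpos (Nat.one_lt_pow he hp.one_lt)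
      exact ih N hlt _ hoN (hodd.of_dvd_nat (hg ▸ hdN)) (hpw _) t ht
    · refine hG.commute_two_group' (m₀ := e) hT hp hp2 ?_ (hpw _) (Or.inr h3) t ht
      rw [orderOf_pow_of_dvd hNpos.ne' hdN, hg]
      exact Nat.div_eq_of_eq_mul_left hNpos hnN

end PQGroup

/-- The possible top quotients of a solvable `PQGroup`. -/
def HasZQuotient (G : Type*) [Group G] (N : Subgroup G) : Prop :=
  N.Normal ∧ IsZGroup N ∧
    ((∃ f : G →* DihedralGroup 2, Function.Surjective f ∧ f.ker = N) ∨
      ∃ f : G →* Equiv.Perm (Fin 4), f.ker = N ∧ alternatingGroup (Fin 4) ≤ f.range)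

set_option maxHeartbeats 1600000 in
theorem exists_zQuotient (hG : PQGroup G) [Group.IsSolvable G] (hnz : ¬ IsZGroup G) :
    ∃ N : Subgroup G, HasZQuotient G N := by
  haveI : Fact (Nat.Prime 2) := ⟨Nat.prime_two⟩
  obtain ⟨P⟩ : Nonempty (Sylow 2 G) := inferInstance
  have hnc : ¬ IsCyclic (P : Subgroup G) := by
    intro hc
    refine hnz ⟨fun p hp Q => ?_⟩
    haveI := Fact.mk hp
    by_cases hp2 : p = 2
    · subst hp2
      exact (Q.equiv P).isCyclic.2 hc
    · exact hG.isCyclic_odd Q.2 hp2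
  obtain ⟨a, x, k, hq⟩ := hG.exists_quat P.2 hnc
  set O : Subgroup G := Cfsg.pPrimeCore 2 G with hO
  haveI : O.Normal := inferInstance
  set π := QuotientGroup.mk' O with hπ
  have hOodd : Odd (Nat.card π.ker) := by
    rw [QuotientGroup.ker_mk']
    exact Nat.coprime_two_right.1 Cores.coprime_card_pPrimeCore
  have hinj : ∀ T : Subgroup G, IsPGroup 2 T → ∀ u ∈ T, π u = 1 → u = 1 := by
    intro T hT u hu h1
    rw [← orderOf_eq_one_iff]
    obtain ⟨n, hn⟩ := IsPGroup.iff_orderOf.1 hT ⟨u, hu⟩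
    rw [← orderOf_coe] at hn
    have h2 : orderOf u ∣ Nat.card π.ker := Subgroup.orderOf_dvd_natCard _ (MonoidHom.mem_ker.2 h1)
    exact Nat.eq_one_of_dvd_coprimes ((Nat.coprime_two_left.2 hOodd).pow_left n)
      (dvd_of_eq hn) h2
  have hcardmap : ∀ T : Subgroup G, IsPGroup 2 T → Nat.card (T.map π) = Nat.card T := by
    intro T hT
    refine (Nat.card_eq_of_bijective (fun u : T => (⟨π u, mem_map_of_mem π u.2⟩ : T.map π))
      ⟨?_, ?_⟩).symm
    · intro u v huv
      have h1 : π u = π v := congrArg Subtype.val huv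
      refine Subtype.ext (eq_of_mul_inv_eq_one (hinj T hT _ (mul_mem u.2 (inv_mem v.2)) ?_))
      rw [map_mul, map_inv, h1, mul_inv_cancel]
    · rintro ⟨_, u, hu, rfl⟩
      exact ⟨⟨u, hu⟩, rfl⟩
  by_cases h2 : IsPGroup 2 (G ⧸ O)
  · -- a normal 2-complement
    have hPtop : (P : Subgroup G).map π = ⊤ := by
      have hmax := (P.mapSurjective (QuotientGroup.mk'_surjective O))
      have h1 : ((P.mapSurjective (QuotientGroup.mk'_surjective O) : Sylow 2 (G ⧸ O)) :
          Subgroup (G ⧸ O)) = ⊤ :=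
        ((P.mapSurjective (QuotientGroup.mk'_surjective O)).3
          (Q := ⊤) (h2.to_subgroup ⊤) le_top).symm
      simpa using h1
    set A : Subgroup (G ⧸ O) := zpowers (π a ^ 2) with hA
    haveI hAn : A.Normal := by
      constructor
      intro w hw g
      obtain ⟨y, hy, rfl⟩ : g ∈ (P : Subgroup G).map π := hPtop ▸ mem_top g
      obtain ⟨j, rfl⟩ := mem_zpowers_iff.1 hw
      rw [← conj_zpow, ← map_pow, ← map_inv, ← map_mul, ← map_mul]
      refine zpow_mem ?_ j
      by_cases hya : y ∈ zpowers a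
      · obtain ⟨l, rfl⟩ := mem_zpowers_iff.1 hya
        rw [((Commute.refl a).zpow_left l |>.pow_right 2).eq, mul_inv_cancel_right, map_pow]
        exact mem_zpowers _
      · rw [← conj_pow, hq.conj y hy hya, inv_pow, map_inv, map_pow]
        exact inv_mem (mem_zpowers _)
    have hcA : Nat.card A = 2 ^ (k + 1) := by
      rw [hA, ← map_pow, ← MonoidHom.map_zpowers, hcardmap _ (hq.isPGroup.to_le
        (zpowers_le.2 (pow_mem hq.a_mem 2))), Nat.card_zpowers,
        orderOf_pow_of_dvd two_ne_zero (hq.ord ▸ dvd_pow_self 2 (by omega)), hq.ord, pow_succ _ (k + 1),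
        Nat.mul_div_cancel _ two_pos]
    have hcQ : Nat.card ((G ⧸ O) ⧸ A) = 4 := by
      have h1 := Subgroup.card_eq_card_quotient_mul_card_subgroup A
      rw [← Subgroup.card_top (G := G ⧸ O), ← hPtop, hcardmap _ P.2, hq.card, hcA,
        show (2 : ℕ) ^ (k + 3) = 4 * 2 ^ (k + 1) by ring] at h1
      exact (Nat.eq_of_mul_eq_mul_right (by positivity) h1).symm
    have hsq : ∀ w : (G ⧸ O) ⧸ A, w ^ 2 = 1 := by
      intro w
      obtain ⟨g, rfl⟩ := QuotientGroup.mk'_surjective A w
      obtain ⟨y, hy, rfl⟩ : g ∈ (P : Subgroup G).map π := hPtop ▸ mem_top g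
      rw [← map_pow, QuotientGroup.mk'_apply, QuotientGroup.eq_one_iff, ← map_pow]
      by_cases hya : y ∈ zpowers a
      · obtain ⟨l, rfl⟩ := mem_zpowers_iff.1 hya
        refine ⟨l, ?_⟩
        show (π a ^ 2) ^ l = π ((a ^ l) ^ 2)
        rw [map_pow, map_zpow, ← zpow_natCast, ← zpow_natCast, ← zpow_mul, ← zpow_mul, mul_comm]
      · rw [hq.sq y hy hya, pow_succ', pow_mul, map_pow, map_pow]
        exact pow_mem (mem_zpowers _) _
    haveI : IsKleinFour ((G ⧸ O) ⧸ A) := by
      refine ⟨hcQ, ?_⟩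
      haveI : Nontrivial ((G ⧸ O) ⧸ A) := Finite.one_lt_card_iff_nontrivial.1 (by omega)
      refine ((Nat.dvd_prime Nat.prime_two).1 (Monoid.exponent_dvd_of_forall_pow_eq_one hsq)).resolve_left
        fun h => ?_
      haveI := Monoid.exp_eq_one_iff.1 h
      exact not_subsingleton ((G ⧸ O) ⧸ A) inferInstance
    obtain ⟨e⟩ := IsKleinFour.nonempty_mulEquiv (G₁ := (G ⧸ O) ⧸ A) (G₂ := DihedralGroup 2)
    set ψ : G →* (G ⧸ O) ⧸ A := (QuotientGroup.mk' A).comp π with hψ
    have hker : ψ.ker = A.comap π := by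
      rw [hψ, ← MonoidHom.comap_ker, QuotientGroup.ker_mk']
    refine ⟨A.comap π, hAn.comap π, hG.isZGroup_of_not_hasQPair (not_hasQPair_of_map_cyclic π hOodd ?_),
      Or.inl ⟨e.toMonoidHom.comp ψ, e.surjective.comp
        ((QuotientGroup.mk'_surjective A).comp (QuotientGroup.mk'_surjective O)), ?_⟩⟩
    · rw [map_comap_eq_self_of_surjective (QuotientGroup.mk'_surjective O), hA]
      infer_instance
    · rw [← MonoidHom.comap_ker, MonoidHom.ker_eq_bot_iff _ |>.2 e.injective, MonoidHom.comap_bot, hker]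
  -- the quotient by the odd core is not a 2-group
  set Tbar : Subgroup (G ⧸ O) := Cfsg.pCore 2 (G ⧸ O) with hTbar
  haveI : Tbar.Normal := inferInstance
  have hsolQ : Group.IsSolvable (G ⧸ O) :=
    Group.isSolvable_of_surjective (QuotientGroup.mk'_surjective O)
  have hCle : centralizer (Tbar : Set (G ⧸ O)) ≤ Tbar :=
    Cores.centralizer_pCore_le (Cores.isPSolvable_of_isSolvable (G := G ⧸ O))
      Cores.pPrimeCore_quotient_pPrimeCore
  obtain ⟨P₀⟩ : Nonempty (Sylow 2 (Cfsg.pPrimePCore 2 G)) := inferInstance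
  set T : Subgroup G := (P₀ : Subgroup _).map (Cfsg.pPrimePCore 2 G).subtype with hT
  have hTp : IsPGroup 2 T := P₀.2.map _
  have hTmap : T.map π = Tbar := Cores.map_sylow_pPrimePCore P₀
  have hlift : ∀ g : G ⧸ O, ∃ n : G, (∀ t ∈ T, n * t * n⁻¹ ∈ T) ∧ π n = g := by
    intro g
    obtain ⟨g, rfl⟩ := QuotientGroup.mk'_surjective O g
    have h1 := Sylow.normalizer_sup_eq_top P₀
    rw [← hT] at h1
    have hg : g ∈ normalizer (T : Set G) ⊔ Cfsg.pPrimePCore 2 G := h1 ▸ mem_top g
    obtain ⟨n, hn, m, hm, rfl⟩ := mem_sup_of_normal_right.1 hg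
    obtain ⟨t, ht, htm⟩ : π m ∈ T.map π := by
      rw [hTmap, hTbar]
      show π m ∈ Cfsg.pCore 2 (G ⧸ Cfsg.pPrimeCore 2 G)
      rw [← Cores.map_pPrimePCore]
      exact mem_map_of_mem _ hm
    refine ⟨n * t, fun u hu => ?_, by rw [map_mul, map_mul, htm]⟩
    rw [show n * t * u * (n * t)⁻¹ = n * (t * u * t⁻¹) * n⁻¹ by group]
    exact (mem_normalizer_iff.1 hn _).1 (mul_mem (mul_mem ht hu) (inv_mem ht))
  have hodd_lift : ∀ g : G ⧸ O, Odd (orderOf g) →
      ∃ o : G, (∀ t ∈ T, o * t * o⁻¹ ∈ T) ∧ Odd (orderOf o) ∧ π o = g := by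
    intro g hg
    obtain ⟨n, hn, rfl⟩ := hlift g
    obtain ⟨o, ho, h, hh, hoh, hoo, e, he⟩ := exists_parts n
    refine ⟨o, fun t ht => ?_, hoo, ?_⟩
    · have hle : zpowers n ≤ normalizer (T : Set G) := by
        rw [zpowers_le]
        have hmap : T.map (MulAut.conj n).toMonoidHom = T := by
          refine eq_of_le_of_card_ge ?_
            (Subgroup.card_map_of_injective (MulAut.conj n).injective).ge
          rintro _ ⟨w, hw, rfl⟩
          exact hn w hw
        rw [mem_normalizer_iff]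
        intro u
        refine ⟨hn u, fun hu => ?_⟩
        rw [← hmap] at hu
        obtain ⟨w, hw, he'⟩ := hu
        exact (MulAut.conj n).injective he' ▸ hw
      exact (mem_normalizer_iff.1 (hle ho) t).1 ht
    · have h1 : π h = 1 := by
        rw [← orderOf_eq_one_iff]
        refine Nat.eq_one_of_dvd_coprimes ((Nat.coprime_two_left.2 hg).pow_left e)
          (he ▸ orderOf_map_dvd π h) ?_
        obtain ⟨j, rfl⟩ := mem_zpowers_iff.1 hh
        rw [map_zpow]
        exact orderOf_dvd_of_mem_zpowers (zpow_mem (mem_zpowers _) j)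
      rw [← hoh, map_mul, h1, mul_one]
  have htriv : ∀ g : G ⧸ O, Odd (orderOf g) → (∀ o : G, π o = g → Odd (orderOf o) →
      (∀ t ∈ T, o * t * o⁻¹ ∈ T) → ∀ t ∈ T, Commute o t) → g = 1 := by
    intro g hg hcomm
    obtain ⟨o, ho, hoo, hog⟩ := hodd_lift g hg
    have hgC : g ∈ centralizer (Tbar : Set (G ⧸ O)) := by
      rw [mem_centralizer_iff]
      intro w hw
      rw [SetLike.mem_coe, ← hTmap] at hw
      obtain ⟨t, ht, rfl⟩ := hw
      rw [← hog, ← map_mul, ← map_mul, (hcomm o hog hoo ho t ht).eq]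
    rw [← orderOf_eq_one_iff]
    obtain ⟨n, hn⟩ := IsPGroup.iff_orderOf.1 (Cores.pCore_isPGroup (p := 2) (G := G ⧸ O))
      ⟨g, hCle hgC⟩
    rw [← orderOf_coe] at hn
    exact Nat.eq_one_of_dvd_coprimes ((Nat.coprime_two_left.2 hg).pow_left n) (dvd_of_eq hn) dvd_rfl
  have hQ8 : HasQPair T ∧ Nat.card T = 8 := by
    by_contra hno
    refine h2 fun g => ?_
    obtain ⟨o, ho, h, hh, hoh, hoo, e, he⟩ := exists_parts g
    have h3 : ¬ HasQPair T ∨ 8 < Nat.card T := by
      by_cases hqT : HasQPair T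
      · refine Or.inr (lt_of_le_of_ne ?_ fun h => hno ⟨hqT, h.symm⟩)
        obtain ⟨i, hi, j, hj, hij⟩ := hqT
        obtain ⟨n, hn⟩ := IsPGroup.iff_card.1 hTp
        have h4 : 4 ∣ 2 ^ n := hn ▸ hij.1 ▸ Subgroup.orderOf_dvd_natCard _ hi
        rw [hn]
        rcases n with _ | _ | _ | n
        · norm_num at h4
        · norm_num at h4
        · exfalso
          have he' : zpowers i = T := eq_of_le_of_card_ge (zpowers_le.2 hi)
            (by rw [hn, Nat.card_zpowers, hij.1]; norm_num)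
          exact hij.not_isCyclic hi hj (he' ▸ inferInstance)
        · exact Nat.le_of_dvd (by positivity) (pow_dvd_pow 2 (show 3 ≤ n + 3 by omega))
      · exact Or.inl hqT
    have ho1 : o = 1 := htriv o hoo fun o' _ ho' hn' =>
      hG.commute_two_group_odd' hTp h3 _ o' rfl ho' hn'
    rw [ho1, one_mul] at hoh
    exact ⟨e, by rw [← hoh, ← he, pow_orderOf_eq_one]⟩
  obtain ⟨hTq, hT8⟩ := hQ8
  obtain ⟨eT⟩ : Nonempty (T ≃* QuaternionGroup 2) := by
    rcases hG.cyclic_or_quaternion hTp with hc | ⟨-, m, ⟨e⟩⟩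
    · obtain ⟨i, hi, j, hj, hij⟩ := hTq
      exact absurd hc (hij.not_isCyclic hi hj)
    · have h8 : 4 * 2 ^ m = 8 := by
        rw [← QuaternionGroup.card, ← Nat.card_eq_fintype_card, ← Nat.card_congr e.toEquiv, hT8]
      have hm : m = 1 := Nat.pow_right_injective le_rfl (show 2 ^ m = 2 ^ 1 by omega)
      subst hm
      exact ⟨e⟩
  have hTbar8 : Nat.card Tbar = 8 := by rw [← hTmap, hcardmap T hTp, hT8]
  obtain ⟨eB⟩ : Nonempty (Tbar ≃* QuaternionGroup 2) := by
    let φ : T →* Tbar := (π.comp T.subtype).codRestrict Tbar fun t => hTmap ▸ mem_map_of_mem π t.2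
    have hφ : Function.Injective φ := by
      intro u v huv
      have h1 : π u = π v := congrArg Subtype.val huv
      refine Subtype.ext (eq_of_mul_inv_eq_one (hinj T hTp _ (mul_mem u.2 (inv_mem v.2)) ?_))
      rw [map_mul, map_inv, h1, mul_inv_cancel]
    have hb := (Nat.bijective_iff_injective_and_card φ).2 ⟨hφ, hT8.trans hTbar8.symm⟩
    exact ⟨(MulEquiv.ofBijective φ hb).symm.trans eT⟩
  -- the centralizer of `Tbar`
  let act : G ⧸ O →* MulAut Tbar := MulAut.conjNormal
  have hactker : act.ker = centralizer (Tbar : Set (G ⧸ O)) := by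
    ext g
    rw [MonoidHom.mem_ker, mem_centralizer_iff]
    constructor
    · intro h w hw
      have h1 := congrArg Subtype.val (DFunLike.congr_fun h (⟨w, hw⟩ : Tbar))
      rw [MulAut.conjNormal_apply] at h1
      change g * w * g⁻¹ = w at h1
      exact (mul_inv_eq_iff_eq_mul.1 h1).symm
    · intro h
      refine MulEquiv.ext fun w => Subtype.ext ?_
      rw [MulAut.conjNormal_apply]
      show g * w * g⁻¹ = w
      rw [← h w w.2, mul_inv_cancel_right]
  obtain ⟨i, hi, j, hj, hij⟩ := hTq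
  set z : G := i ^ 2 with hz
  have hz2 : orderOf z = 2 := by
    rw [hz, orderOf_pow_of_dvd two_ne_zero (by rw [hij.1]; norm_num), hij.1]
  have hzbar : orderOf (π z) = 2 := by
    refine (orderOf_map_dvd π z).trans (dvd_of_eq hz2) |> (Nat.dvd_prime Nat.prime_two).1 |>.resolve_left fun h => ?_
    rw [orderOf_eq_one_iff] at h
    rw [hinj T hTp z (pow_mem hi 2) h, orderOf_one] at hz2
    omega
  have hzc : ∀ g : G ⧸ O, Commute g (π z) := fun g => by
    obtain ⟨g, rfl⟩ := QuotientGroup.mk'_surjective O g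
    exact (hG.commute_involution hz2 g).map π
  have hCz : centralizer (Tbar : Set (G ⧸ O)) = zpowers (π z) := by
    refine (eq_of_le_of_card_ge (zpowers_le.2 ?_) ?_).symm
    · exact mem_centralizer_iff.2 fun w _ => hzc w
    · rw [Nat.card_zpowers, hzbar]
      -- every element of the centre squares to one
      have hsq : ∀ c ∈ centralizer (Tbar : Set (G ⧸ O)), c = 1 ∨ c = π z := by
        intro c hc
        have hcT := hCle hc
        have h1 : c * c = 1 := by
          have h := q8_central (eB ⟨c, hcT⟩) fun w => by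
            obtain ⟨v, rfl⟩ := eB.surjective w
            rw [← map_mul, ← map_mul]
            exact congrArg eB (Subtype.ext (mem_centralizer_iff.1 hc v v.2).symm)
          rw [← map_mul, MulEquiv.map_eq_one_iff] at h
          exact congrArg Subtype.val h
        rw [← hTmap] at hcT
        obtain ⟨t, ht, rfl⟩ := hcT
        have ht2 : t ^ 2 = 1 := hinj T hTp _ (pow_mem ht 2) (by rw [map_pow, pow_two, h1])
        rcases hG.eq_one_or_eq_of_sq hz2 ht2 with rfl | rfl
        · exact Or.inl (map_one π)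
        · exact Or.inr rfl
      rw [← SetLike.coe_sort_coe, Nat.card_coe_set_eq]
      refine le_trans (Set.ncard_le_ncard (t := ({1, π z} : Set (G ⧸ O))) (fun c hc => hsq c hc)
        (Set.toFinite _)) ((Set.ncard_insert_le _ _).trans (by simp))
  have hcard48 : Nat.card (G ⧸ O) ≤ 48 := by
    have h1 := act.ker.card_mul_index
    rw [index_ker, hactker, hCz, Nat.card_zpowers, hzbar] at h1
    have h2 : Nat.card act.range ≤ 24 := by
      refine (Subgroup.card_le_card_group _).trans (le_trans (le_of_eq ?_) card_mulAut_q8)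
      exact Nat.card_congr (MulAut.congr eB).toEquiv
    omega
  have h8dvd : 8 ∣ Nat.card (G ⧸ O) := hTbar8 ▸ Subgroup.card_subgroup_dvd_card Tbar
  have h5dvd : ¬ 5 ∣ Nat.card (G ⧸ O) := by
    intro h5
    haveI : Fact (Nat.Prime 5) := ⟨by norm_num⟩
    obtain ⟨g, hg⟩ := exists_prime_orderOf_dvd_card' (G := G ⧸ O) 5 h5
    have hodd : Odd (orderOf g) := by rw [hg]; decide
    obtain ⟨o, ho, hoo, hog⟩ := hodd_lift g hodd
    -- the 5-part of `o`
    obtain ⟨e, N, hN, hoN⟩ := Nat.exists_eq_pow_mul_and_not_dvd (orderOf_pos o).ne' 5 (by norm_num)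
    have hNpos : 0 < N := Nat.pos_of_ne_zero fun h => hN (h ▸ dvd_zero _)
    have ho5 : orderOf (o ^ N) = 5 ^ e := by
      rw [orderOf_pow_of_dvd hNpos.ne' ⟨_, hoN.trans (mul_comm _ _)⟩]
      exact Nat.div_eq_of_eq_mul_left hNpos hoN
    have hn' : ∀ t ∈ T, o ^ N * t * (o ^ N)⁻¹ ∈ T := by
      intro t ht
      clear ho5 hoN hN hNpos
      induction N with
      | zero => simpa using ht
      | succ m ihm =>
        rw [pow_succ', show o * o ^ m * t * (o * o ^ m)⁻¹ = o * (o ^ m * t * (o ^ m)⁻¹) * o⁻¹ by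
          group]
        exact ho _ ihm
    have hgN : orderOf (g ^ N) = 5 := by
      rw [Nat.Coprime.orderOf_pow (by rw [hg]; exact ((Nat.Prime.coprime_iff_not_dvd (by norm_num)).2 hN)), hg]
    have hgN1 : g ^ N = 1 := by
      refine (orderOf_eq_one_iff).1 ?_
      have hgC : g ^ N ∈ centralizer (Tbar : Set (G ⧸ O)) := by
        rw [mem_centralizer_iff]
        intro w hw
        rw [SetLike.mem_coe, ← hTmap] at hw
        obtain ⟨t, ht, rfl⟩ := hw
        rw [← hog, ← map_pow, ← map_mul, ← map_mul,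
          (hG.commute_two_group' hTp (by norm_num) (by norm_num) ho5 hn' (Or.inl le_rfl) t ht).eq]
      rw [hCz] at hgC
      have h1 := Subgroup.orderOf_dvd_natCard _ hgC
      rw [Nat.card_zpowers, hzbar, hgN] at h1
      norm_num at h1
    rw [hgN1, orderOf_one] at hgN
    norm_num at hgN
  have h3dvd : 3 ∣ Nat.card (G ⧸ O) := by
    by_contra h3
    refine h2 (IsPGroup.iff_card.2 ?_)
    obtain ⟨c, hc⟩ := h8dvd
    rw [hc] at h3 h5dvd hcard48 ⊢
    have hcpos : 0 < c := by
      have := Nat.card_pos (α := G ⧸ O)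
      omega
    have : c ≤ 6 := by omega
    have : c = 1 ∨ c = 2 ∨ c = 4 := by
      rcases Nat.lt_or_ge c 4 with h | h
      · interval_cases c <;> omega
      · interval_cases c <;> omega
    rcases this with rfl | rfl | rfl
    · exact ⟨3, rfl⟩
    · exact ⟨4, rfl⟩
    · exact ⟨5, rfl⟩
  haveI : Fact (Nat.Prime 3) := ⟨Nat.prime_three⟩
  have hcard : Nat.card (G ⧸ O) = 24 ∨ Nat.card (G ⧸ O) = 48 := by
    have := Nat.card_pos (α := G ⧸ O)
    omega
  obtain ⟨Y⟩ : Nonempty (Sylow 3 (G ⧸ O)) := inferInstance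
  have hY3 : Nat.card (Y : Subgroup (G ⧸ O)) = 3 := by
    rw [Y.card_eq_multiplicity]
    rcases hcard with h | h <;> rw [h]
    · rw [show (24 : ℕ) = 3 ^ 1 * 8 by norm_num, Nat.factorization_mul (by norm_num) (by norm_num),
        Finsupp.add_apply, Nat.prime_three.factorization_pow, Finsupp.single_eq_same,
        Nat.factorization_eq_zero_of_not_dvd (by norm_num)]
      norm_num
    · rw [show (48 : ℕ) = 3 ^ 1 * 16 by norm_num, Nat.factorization_mul (by norm_num) (by norm_num),
        Finsupp.add_apply, Nat.prime_three.factorization_pow, Finsupp.single_eq_same,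
        Nat.factorization_eq_zero_of_not_dvd (by norm_num)]
      norm_num
  have hn4 : Nat.card (Sylow 3 (G ⧸ O)) = 4 := by
    have hmod := card_sylow_modEq_one 3 (G ⧸ O)
    have h2N : 6 ∣ Nat.card (normalizer ((Y : Subgroup (G ⧸ O)) : Set (G ⧸ O))) := by
      refine Nat.Coprime.mul_dvd_of_dvd_of_dvd (by norm_num : Nat.Coprime 2 3) ?_
        (hY3.symm.dvd.trans (Subgroup.card_dvd_of_le le_normalizer))
      rw [← hzbar]
      refine Subgroup.orderOf_dvd_natCard _ (mem_normalizer_iff.2 fun y => ?_)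
      rw [← (hzc y).eq, mul_inv_cancel_right]
    have hidx := Subgroup.card_mul_index (normalizer ((Y : Subgroup (G ⧸ O)) : Set (G ⧸ O)))
    rw [show (normalizer ((Y : Subgroup (G ⧸ O)) : Set (G ⧸ O))).index = Nat.card (Sylow 3 (G ⧸ O)) from
      Y.card_eq_index_normalizer.symm] at hidx
    have hne1 : Nat.card (Sylow 3 (G ⧸ O)) ≠ 1 := by
      intro h1
      haveI : Subsingleton (Sylow 3 (G ⧸ O)) := (Nat.card_eq_one_iff_unique.mp h1).1
      haveI := Y.normal_of_subsingleton
      have hle : (Y : Subgroup (G ⧸ O)) ≤ Cfsg.pPrimeCore 2 (G ⧸ O) :=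
        Cores.le_pPrimeCore (by rw [hY3]; norm_num)
      rw [Cores.pPrimeCore_quotient_pPrimeCore, le_bot_iff] at hle
      rw [hle, Subgroup.card_bot] at hY3
      omega
    obtain ⟨c, hc⟩ := h2N
    rw [hc, mul_assoc] at hidx
    have hd : Nat.card (Sylow 3 (G ⧸ O)) ∣ 8 := by
      rcases hcard with h | h <;> rw [h] at hidx
      · exact (show Nat.card (Sylow 3 (G ⧸ O)) ∣ 4 from ⟨c, by rw [mul_comm]; omega⟩).trans (by norm_num)
      · exact ⟨c, by rw [mul_comm]; omega⟩
    have hle := Nat.le_of_dvd (by norm_num) hd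
    generalize hN : Nat.card (Sylow 3 (G ⧸ O)) = N at *
    change N % 3 = 1 % 3 at hmod
    interval_cases N <;> omega
  obtain ⟨σ⟩ : Nonempty (Sylow 3 (G ⧸ O) ≃ Fin 4) :=
    ⟨(Nat.equivFinOfCardPos (by rw [hn4]; norm_num)).trans (finCongr hn4)⟩
  let f₀ : G ⧸ O →* Equiv.Perm (Fin 4) :=
    σ.permCongrHom.toMonoidHom.comp (MulAction.toPermHom (G ⧸ O) (Sylow 3 (G ⧸ O)))
  have hf₀ : ∀ g, g ∈ f₀.ker ↔ ∀ Q : Sylow 3 (G ⧸ O), g • Q = Q := by
    intro g
    rw [MonoidHom.mem_ker, show f₀ g = σ.permCongrHom (MulAction.toPermHom (G ⧸ O) _ g) from rfl,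
      EmbeddingLike.map_eq_one_iff, Equiv.ext_iff]
    exact Iff.rfl
  have hKnorm : ∀ g ∈ f₀.ker, ∀ Q : Sylow 3 (G ⧸ O),
      g ∈ normalizer ((Q : Subgroup (G ⧸ O)) : Set (G ⧸ O)) := fun g hg Q => by
    have h : g ∈ MulAction.stabilizer (G ⧸ O) Q := (hf₀ g).1 hg Q
    rw [Sylow.stabilizer_eq_normalizer Q] at h
    exact h
  have hK2 : IsPGroup 2 f₀.ker := by
    have h3K : ¬ 3 ∣ Nat.card f₀.ker := by
      intro h3
      obtain ⟨⟨y, hy⟩, hyo⟩ := exists_prime_orderOf_dvd_card' (G := f₀.ker) 3 h3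
      rw [← orderOf_coe] at hyo
      change orderOf y = 3 at hyo
      have hall : ∀ Q : Sylow 3 (G ⧸ O), zpowers y = (Q : Subgroup (G ⧸ O)) := by
        intro Q
        have hle : zpowers y ≤ normalizer ((Q : Subgroup (G ⧸ O)) : Set (G ⧸ O)) :=
          zpowers_le.2 (hKnorm y hy Q)
        have hp : IsPGroup 3 ↥(zpowers y ⊔ (Q : Subgroup (G ⧸ O))) :=
          IsPGroup.to_sup_of_normal_right' (IsPGroup.of_card (n := 1)
            (by rw [Nat.card_zpowers, hyo, pow_one])) Q.2 hle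
        have heq := Q.3 hp le_sup_right
        refine eq_of_le_of_card_ge (le_sup_left.trans heq.le) ?_
        rw [Nat.card_zpowers, hyo, Nat.card_congr (Q.equiv Y).toEquiv, hY3]
      haveI : Subsingleton (Sylow 3 (G ⧸ O)) :=
        ⟨fun Q Q' => Sylow.ext ((hall Q).symm.trans (hall Q'))⟩
      have := Finite.card_le_one_iff_subsingleton.2 ‹Subsingleton (Sylow 3 (G ⧸ O))›
      omega
    refine IsPGroup.iff_card.2 ?_
    have hd : Nat.card f₀.ker ∣ Nat.card (G ⧸ O) := Subgroup.card_subgroup_dvd_card _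
    have h48 : Nat.card f₀.ker ∣ 2 ^ 4 * 3 := by
      rcases hcard with h | h <;> rw [h] at hd
      · exact hd.trans (by norm_num)
      · exact hd
    have h16 := (Nat.Coprime.symm (Nat.prime_three.coprime_iff_not_dvd.2 h3K)).dvd_mul_right.1 h48
    obtain ⟨e, -, he⟩ := (Nat.dvd_prime_pow Nat.prime_two).1 h16
    exact ⟨e, he⟩
  have hKC : f₀.ker = zpowers (π z) := by
    refine le_antisymm (fun g hg => ?_) (zpowers_le.2 ((hf₀ _).2 fun Q => ?_))
    swap
    · have h : π z ∈ MulAction.stabilizer (G ⧸ O) Q := by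
        rw [Sylow.stabilizer_eq_normalizer Q]
        refine (mem_normalizer_iff (H := (Q : Subgroup (G ⧸ O)))).2 fun y => ?_
        rw [← (hzc y).eq, mul_inv_cancel_right]
      exact h
    have hgT : g ∈ Tbar := Cores.le_pCore hK2 hg
    have hYT : ∀ w, w ∈ Tbar → w ∈ (Y : Subgroup (G ⧸ O)) → w = 1 := by
      intro w hw hw'
      rw [← orderOf_eq_one_iff]
      exact Nat.eq_one_of_dvd_coprimes (by norm_num : Nat.Coprime 8 3)
        (hTbar8 ▸ Subgroup.orderOf_dvd_natCard _ hw) (hY3 ▸ Subgroup.orderOf_dvd_natCard _ hw')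
    -- `Y` centralizes `g`
    have hgY : ∀ y ∈ (Y : Subgroup (G ⧸ O)), Commute g y := by
      intro y hy
      refine mul_inv_eq_iff_eq_mul.1 (mul_inv_eq_one.1 (hYT _ ?_ ?_))
      · rw [show g * y * g⁻¹ * y⁻¹ = g * (y * g⁻¹ * y⁻¹) by group]
        exact mul_mem hgT ((inferInstance : Tbar.Normal).conj_mem _ (inv_mem hgT) y)
      · exact mul_mem ((mem_normalizer_iff.1 (hKnorm g hg Y) y).1 hy) (inv_mem hy)
    rw [← hCz]
    letI : MulAction (Y : Subgroup (G ⧸ O)) Tbar :=
      MulAction.compHom Tbar (act.comp (Y : Subgroup (G ⧸ O)).subtype)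
    have hmod := Y.2.card_modEq_card_fixedPoints Tbar
    let F : Subgroup Tbar :=
      { carrier := MulAction.fixedPoints (Y : Subgroup (G ⧸ O)) Tbar
        one_mem' := fun w => map_one (act (w : G ⧸ O))
        mul_mem' := fun {u v} hu hv w => by
          show act (w : G ⧸ O) (u * v) = u * v
          rw [map_mul]
          exact congrArg₂ (· * ·) (hu w) (hv w)
        inv_mem' := fun {u} hu w => by
          show act (w : G ⧸ O) u⁻¹ = u⁻¹
          rw [map_inv]
          exact congrArg (·⁻¹) (hu w) }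
    have hzF : (⟨π z, hCle (hCz ▸ mem_zpowers _)⟩ : Tbar) ∈ F := fun w => Subtype.ext (by
      show (act (w : G ⧸ O) ⟨π z, _⟩ : G ⧸ O) = π z
      rw [MulAut.conjNormal_apply]
      show (w : G ⧸ O) * π z * (w : G ⧸ O)⁻¹ = π z
      rw [(hzc _).eq, mul_inv_cancel_right])
    have hgF : (⟨g, hgT⟩ : Tbar) ∈ F := fun w => Subtype.ext (by
      show (act (w : G ⧸ O) ⟨g, _⟩ : G ⧸ O) = g
      rw [MulAut.conjNormal_apply]
      show (w : G ⧸ O) * g * (w : G ⧸ O)⁻¹ = g
      rw [← (hgY _ w.2).eq, mul_inv_cancel_right])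
    have hF2 : 2 ∣ Nat.card F := by
      have h1 := F.orderOf_dvd_natCard hzF
      rwa [← orderOf_coe, show ((⟨π z, _⟩ : Tbar) : G ⧸ O) = π z from rfl, hzbar] at h1
    have hF8 : Nat.card F ∣ 2 ^ 3 := by
      have := F.card_subgroup_dvd_card
      rwa [hTbar8] at this
    rw [show Nat.card (MulAction.fixedPoints (Y : Subgroup (G ⧸ O)) Tbar) = Nat.card F from rfl,
      hTbar8] at hmod
    obtain ⟨e, he, hFe⟩ := (Nat.dvd_prime_pow Nat.prime_two).1 hF8
    change 8 % 3 = Nat.card F % 3 at hmod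
    have hFne : Nat.card F ≠ 8 := by
      intro h
      have hFtop : F = ⊤ := Subgroup.eq_top_of_card_eq F (h.trans hTbar8.symm)
      have hYC : (Y : Subgroup (G ⧸ O)) ≤ centralizer (Tbar : Set (G ⧸ O)) := fun y hy => by
        rw [← hactker, MonoidHom.mem_ker]
        refine MulEquiv.ext fun v => ?_
        exact (show v ∈ F by rw [hFtop]; exact mem_top v) ⟨y, hy⟩
      rw [hCz] at hYC
      have := Subgroup.card_dvd_of_le hYC
      rw [hY3, Nat.card_zpowers, hzbar] at this
      norm_num at this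
    have hF2' : Nat.card F = 2 := by
      rw [hFe] at hF2 hmod hFne ⊢
      interval_cases e <;> omega
    have hFeq : zpowers (⟨π z, hCle (hCz ▸ mem_zpowers _)⟩ : Tbar) = F :=
      eq_of_le_of_card_ge (zpowers_le.2 hzF) (by
        rw [hF2', Nat.card_zpowers, ← orderOf_coe]; exact hzbar.ge)
    obtain ⟨m, hm⟩ := mem_zpowers_iff.1 (hFeq ▸ hgF)
    rw [hCz]
    exact ⟨m, congrArg Subtype.val hm⟩
  refine ⟨(zpowers (π z)).comap π, (hKC ▸ inferInstance : (zpowers (π z)).Normal).comap π,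
    hG.isZGroup_of_not_hasQPair (not_hasQPair_of_map_cyclic π hOodd ?_),
    Or.inr ⟨f₀.comp π, ?_, ?_⟩⟩
  · rw [map_comap_eq_self_of_surjective (QuotientGroup.mk'_surjective O)]
    infer_instance
  · rw [← MonoidHom.comap_ker, hKC]
  · have hr : (f₀.comp π).range = f₀.range := by
      rw [MonoidHom.range_comp, MonoidHom.range_eq_top.2 (QuotientGroup.mk'_surjective O),
        ← MonoidHom.range_eq_map]
    rw [hr]
    have h1 := f₀.ker.card_mul_index
    rw [index_ker, hKC, Nat.card_zpowers, hzbar] at h1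
    have h2' := f₀.range.card_mul_index
    rw [Nat.card_eq_fintype_card (α := Equiv.Perm (Fin 4)), Fintype.card_perm, Fintype.card_fin,
      show Nat.factorial 4 = 24 by decide] at h2'
    rcases hcard with h | h <;> rw [h] at h1
    · have hidx : f₀.range.index = 2 := by
        rw [show Nat.card f₀.range = 12 by omega] at h2'
        omega
      exact (Equiv.Perm.eq_alternatingGroup_of_index_eq_two hidx).ge
    · rw [Subgroup.eq_top_of_card_eq f₀.range (by
        rw [Nat.card_eq_fintype_card (α := Equiv.Perm (Fin 4)), Fintype.card_perm, Fintype.card_fin,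
          show Nat.factorial 4 = 24 by decide]
        omega)]
      exact le_top

end Cfsg.Agent.H78.Zass
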