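import Cfsg.Agent.H78.Zass.Count
import Cfsg.Agent.H43.Galois
import Cfsg.Agent.H81.GaloisSum
import Cfsg.Agent.CharBasic.Orth
import Cfsg.Agent.Frobenius.FPFModule
import Mathlib.Algebra.Order.Chebyshev
import Mathlib.RingTheory.RootsOfUnity.Complex

/-!
# The sum of the Galois conjugates of a fixed-point-free irreducible character
-/

set_option autoImplicit false
set_option linter.unusedSectionVars false
set_option linter.style.haveILetI false

namespace Cfsg.Agent.H78.Zass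

open Subgroup

variable {G : Type*} [Group G] [Finite G]

/-- An irreducible character of a fixed-point-free representation. -/
structure FPFChar (G : Type*) [Group G] (χ : G → ℂ) : Prop where
  irr : Cfsg.IsIrrCharacter G χ
  fpf : ∀ g : G, g ≠ 1 → ∑ i ∈ Finset.range (orderOf g), χ (g ^ i) = 0

theorem exists_fpfChar {L : Type*} [Group L] [Finite L] {H : Subgroup L}
    (hH : Cfsg.IsFrobeniusComplement H) (f : G →* H) (hf : Function.Injective f) :
    ∃ χ : G → ℂ, FPFChar G χ := by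
  classical
  obtain ⟨n, ρ, hn, hirr, hfpf⟩ :=
    Frobenius.FPFRep.exists_irreducible ((Frobenius.FPFRep.of_complement hH f hf).1 ℂ)
  let τ : Representation ℂ G (Fin n → ℂ) :=
    { toFun := fun g => Matrix.toLin' ((ρ g : GL (Fin n) ℂ) : Matrix (Fin n) (Fin n) ℂ)
      map_one' := by simp [Module.End.one_eq_id]
      map_mul' := fun a b => by
        rw [map_mul, Units.val_mul, Matrix.toLin'_mul]
        rfl }
  have hτ : ∀ g v, τ g v = ((ρ g : GL (Fin n) ℂ) : Matrix (Fin n) (Fin n) ℂ).mulVec v := fun g v =>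
    Matrix.toLin'_apply _ v
  haveI : τ.IsIrreducible := by
    haveI : Nonempty (Fin n) := ⟨⟨0, hn⟩⟩
    haveI : Nontrivial (Subrepresentation τ) :=
      ⟨⟨⊥, ⊤, fun h => by
        have h1 := congrArg Subrepresentation.toSubmodule h
        exact bot_ne_top (α := Submodule ℂ (Fin n → ℂ)) h1⟩⟩
    constructor
    intro S
    rcases hirr S.toSubmodule (fun g w hw => hτ g w ▸ S.apply_mem_toSubmodule g hw) with h | h
    · exact Or.inl (Subrepresentation.toSubmodule_injective h)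
    · exact Or.inr (Subrepresentation.toSubmodule_injective h)
  refine ⟨τ.character, CharBasic.isIrrCharacter_character τ, fun g hg => ?_⟩
  have hS : (∑ i ∈ Finset.range (orderOf g), τ (g ^ i)) = 0 := by
    refine LinearMap.ext fun v => ?_
    rw [LinearMap.zero_apply]
    refine hfpf g hg _ ?_
    rw [← hτ]
    have h1 : τ g * (∑ i ∈ Finset.range (orderOf g), τ (g ^ i)) =
        ∑ i ∈ Finset.range (orderOf g), τ (g ^ i) := by
      rw [Finset.mul_sum]
      simp_rw [← map_mul, ← pow_succ']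
      have h2 := Finset.sum_range_succ' (fun i => τ (g ^ i)) (orderOf g)
      rw [Finset.sum_range_succ, pow_orderOf_eq_one, pow_zero] at h2
      exact (add_right_cancel h2).symm
    exact congrArg (fun T : Module.End ℂ (Fin n → ℂ) => T v) h1
  have h3 := congrArg (LinearMap.trace ℂ (Fin n → ℂ)) hS
  rw [map_sum, map_zero] at h3
  exact h3

/-- The multiplicity of `ζ ^ r` as an eigenvalue, read off from a function. -/
noncomputable def mult (f : G → ℂ) (c : G) (ζ : ℂ) (r : ℕ) : ℂ :=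
  ((orderOf c : ℕ) : ℂ)⁻¹ * ∑ j ∈ Finset.range (orderOf c), f (c ^ j) * (ζ⁻¹) ^ (j * r)

theorem sum_pow_eq {M : ℕ} {ζ : ℂ} (hζ : IsPrimitiveRoot ζ M) (e r : ℕ) :
    ∑ j ∈ Finset.range M, (ζ ^ j) ^ e * (ζ⁻¹) ^ (j * r) =
      if e % M = r % M then (M : ℂ) else 0 := by
  rcases Nat.eq_zero_or_pos M with rfl | hM
  · simp
  have hζ0 : ζ ≠ 0 := hζ.ne_zero hM.ne'
  have hterm : ∀ j, (ζ ^ j) ^ e * (ζ⁻¹) ^ (j * r) = (ζ ^ e * (ζ⁻¹) ^ r) ^ j := fun j => by
    rw [mul_pow, ← pow_mul, ← pow_mul, ← pow_mul, mul_comm e j, mul_comm r j]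
  simp_rw [hterm]
  split_ifs with h
  · have he : ζ ^ e = ζ ^ r := by
      rw [← pow_mod_orderOf ζ e, ← pow_mod_orderOf ζ r, ← hζ.eq_orderOf, h]
    rw [he, ← mul_pow, mul_inv_cancel₀ hζ0, one_pow]
    simp
  · have hne : ζ ^ e * (ζ⁻¹) ^ r ≠ 1 := by
      intro h1
      apply h
      rw [inv_pow, mul_inv_eq_one₀ (pow_ne_zero _ hζ0), ← pow_mod_orderOf ζ e,
        ← pow_mod_orderOf ζ r, ← hζ.eq_orderOf] at h1
      exact hζ.pow_inj (Nat.mod_lt _ hM) (Nat.mod_lt _ hM) h1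
    rw [geom_sum_eq hne]
    have h1 : (ζ ^ e * (ζ⁻¹) ^ r) ^ M = 1 := by
      rw [mul_pow, ← pow_mul, ← pow_mul, mul_comm e, mul_comm r, pow_mul, pow_mul, hζ.pow_eq_one,
        inv_pow, hζ.pow_eq_one, inv_one, one_pow, one_pow, one_mul]
    rw [h1, sub_self, zero_div]

/-- The exponents of an eigenvalue decomposition. -/
theorem mult_eq {f : G → ℂ} {c : G} {ζ : ℂ} {m : ℕ} (hζ : IsPrimitiveRoot ζ (orderOf c))
    (e : Fin m → ℕ) (hf : ∀ j : ℕ, f (c ^ j) = ∑ i, (ζ ^ j) ^ e i) (r : ℕ) :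
    mult f c ζ r = ((Finset.univ.filter fun i => e i % orderOf c = r % orderOf c).card : ℂ) := by
  rw [mult]
  simp_rw [hf, Finset.sum_mul]
  rw [Finset.sum_comm]
  simp_rw [sum_pow_eq hζ]
  rw [← Finset.sum_filter, Finset.sum_const, nsmul_eq_mul]
  have : ((orderOf c : ℕ) : ℂ) ≠ 0 := Nat.cast_ne_zero.2 (orderOf_pos c).ne'
  field_simp

namespace FPFChar

variable {χ : G → ℂ} (hχ : FPFChar G χ)
include hχ

theorem exists_degree : ∃ n : ℕ, 0 < n ∧ χ 1 = n := by
  obtain ⟨n, hn⟩ := CharBasic.IsIrr.exists_degree hχ.irr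
  obtain ⟨-, h⟩ := hn
  exact ⟨n, Nat.pos_of_ne_zero fun h0 => CharBasic.IsIrr.one_ne_zero hχ.irr (by rw [h, h0]; simp), h⟩

/-- Eigenvalues on a cyclic subgroup are primitive. -/
theorem exists_exp {c : G} {ζ : ℂ} (hζ : IsPrimitiveRoot ζ (orderOf c)) {n : ℕ} (hn : χ 1 = n) :
    ∃ e : Fin n → ℕ, (∀ i, Nat.Coprime (e i) (orderOf c)) ∧
      ∀ j : ℕ, χ (c ^ j) = ∑ i, (ζ ^ j) ^ e i := by
  haveI : NeZero (orderOf c) := ⟨(orderOf_pos c).ne'⟩
  obtain ⟨m, η, e, hη, hval⟩ := H81.exists_exponents (CharBasic.IsIrr.isCharacter hχ.irr) c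
  have hmn : m = n := by
    have := hval 0
    rw [pow_zero, hn] at this
    simp at this
    exact_mod_cast this.symm
  subst hmn
  obtain ⟨a, -, hco, rfl⟩ := (IsPrimitiveRoot.isPrimitiveRoot_iff hζ).1 hη
  refine ⟨fun i => a * e i, fun i => ?_, fun j => ?_⟩
  swap
  · rw [hval]
    refine Finset.sum_congr rfl fun i _ => ?_
    rw [← pow_mul, ← pow_mul, ← pow_mul]
    ring_nf
  refine Nat.Coprime.mul_left hco ?_
  by_contra hni
  set M := orderOf c with hM
  set d := Nat.gcd (e i) M with hd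
  have hd1 : d ≠ 1 := hni
  have hdM : d ∣ M := Nat.gcd_dvd_right _ _
  have hd0 : 0 < d := Nat.gcd_pos_of_pos_right _ (orderOf_pos c)
  set g := c ^ (M / d) with hg
  have hgo : orderOf g = d := orderOf_pow_orderOf_div (orderOf_pos c).ne' hdM
  have hg1 : g ≠ 1 := fun h => hd1 (by rw [← hgo, h, orderOf_one])
  have h0 := hχ.fpf g hg1
  rw [hgo] at h0
  simp_rw [hg, ← pow_mul, hval] at h0
  rw [Finset.sum_comm] at h0
  have hterm : ∀ i' : Fin m, ∑ t ∈ Finset.range d, ((ζ ^ a) ^ (M / d * t)) ^ e i' =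
      if d ∣ e i' then (d : ℂ) else 0 := by
    intro i'
    have hw : IsPrimitiveRoot ((ζ ^ a) ^ (M / d)) d :=
      hη.pow (orderOf_pos c) (Nat.div_mul_cancel hdM).symm
    have hh := sum_pow_eq hw (e i') 0
    simp only [mul_zero, pow_zero, mul_one, Nat.zero_mod] at hh
    simp_rw [pow_mul ((ζ ^ a) : ℂ) (M / d)]
    rw [hh]
    exact if_congr (Nat.dvd_iff_mod_eq_zero).symm rfl rfl
  rw [Finset.sum_congr rfl fun i' _ => hterm i', ← Finset.sum_filter, Finset.sum_const,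
    nsmul_eq_mul, mul_eq_zero] at h0
  rcases h0 with h0 | h0
  · rw [Nat.cast_eq_zero, Finset.card_eq_zero, Finset.filter_eq_empty_iff] at h0
    exact h0 (Finset.mem_univ i) (Nat.gcd_dvd_left _ _)
  · exact hd0.ne' (Nat.cast_eq_zero.1 h0)

/-- An element permuting `zpowers y` bounds the degree. -/
theorem le_degree {y h : G} {a : ℕ} (hy : (orderOf y).Prime) (ha : h * y * h⁻¹ = y ^ a) {n : ℕ}
    (hn : χ 1 = n) : orderOf ((a : ℕ) : ZMod (orderOf y)) ≤ n := by
  classical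
  haveI := Fact.mk hy
  have hζ := Complex.isPrimitiveRoot_exp (orderOf y) (orderOf_pos y).ne'
  set ζ := Complex.exp (2 * Real.pi * Complex.I / (orderOf y : ℕ)) with hζdef
  obtain ⟨e, heco, he⟩ := hχ.exists_exp hζ hn
  have hnpos : 0 < n := by
    obtain ⟨n', hn', hn'1⟩ := hχ.exists_degree
    rw [hn] at hn'1
    have : n = n' := by exact_mod_cast hn'1
    omega
  have hcf := CharBasic.IsIrr.isClassFunction hχ.irr
  have hperm : ∀ j : ℕ, χ (y ^ j) = ∑ i, (ζ ^ j) ^ (a * e i) := by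
    intro j
    have h1 : χ (y ^ (a * j)) = χ (y ^ j) := by
      rw [pow_mul, ← ha, conj_pow]
      exact hcf _ _
    rw [← h1, he]
    refine Finset.sum_congr rfl fun i _ => ?_
    rw [← pow_mul, ← pow_mul]
    ring_nf
  set R : Finset (ZMod (orderOf y)) := Finset.univ.image fun i => ((e i : ℕ) : ZMod (orderOf y))
    with hR
  have hcard : R.card ≤ n := Finset.card_image_le.trans (by simp)
  have hclosed : ∀ r : ZMod (orderOf y), r ∈ R → (a : ZMod (orderOf y)) * r ∈ R := by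
    intro r hr
    obtain ⟨i, -, rfl⟩ := Finset.mem_image.1 hr
    have h1 := (mult_eq hζ _ hperm (a * e i)).symm.trans (mult_eq hζ _ he (a * e i))
    have h2 : 0 < (Finset.univ.filter fun i' =>
        (a * e i') % orderOf y = (a * e i) % orderOf y).card :=
      Finset.card_pos.2 ⟨i, by simp⟩
    have h3 : 0 < (Finset.univ.filter fun i' => e i' % orderOf y = (a * e i) % orderOf y).card := by
      have h4 := Nat.cast_injective (R := ℂ) h1
      omega
    obtain ⟨i', hi'⟩ := Finset.card_pos.1 h3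
    refine Finset.mem_image.2 ⟨i', Finset.mem_univ _, ?_⟩
    rw [← Nat.cast_mul, ZMod.natCast_eq_natCast_iff]
    exact (Finset.mem_filter.1 hi').2
  set r₀ : ZMod (orderOf y) := ((e ⟨0, hnpos⟩ : ℕ) : ZMod (orderOf y)) with hr₀
  have hr0 : r₀ ≠ 0 := by
    rw [hr₀, Ne, ZMod.natCast_eq_zero_iff]
    intro h
    exact hy.ne_one (Nat.eq_one_of_dvd_coprimes (heco ⟨0, hnpos⟩) h dvd_rfl)
  have hpow : ∀ t : ℕ, (a : ZMod (orderOf y)) ^ t * r₀ ∈ R := by
    intro t
    induction t with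
    | zero => rw [pow_zero, one_mul]; exact Finset.mem_image.2 ⟨_, Finset.mem_univ _, rfl⟩
    | succ t ih => rw [pow_succ', mul_assoc]; exact hclosed _ ih
  refine le_trans ?_ hcard
  rw [← Finset.card_range (orderOf ((a : ℕ) : ZMod (orderOf y)))]
  refine Finset.card_le_card_of_injOn (fun t => (a : ZMod (orderOf y)) ^ t * r₀)
    (fun t _ => hpow t) ?_
  intro s hs t ht hst
  simp only [Finset.coe_range, Set.mem_Iio] at hs ht
  exact pow_injOn_Iio_orderOf hs ht (mul_right_cancel₀ hr0 hst)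

/-- The basic inequalities coming from a trivial intersection cyclic subgroup. -/
theorem bounds {c z : G} {M : ℕ} (hM : orderOf c = M) (hMe : 2 ∣ M) {H : Subgroup G}
    (hTI : ∀ g v : G, v ∈ zpowers c → v ^ 2 ≠ 1 → g * v * g⁻¹ ∈ zpowers c → g ∈ H)
    (hz : ∀ v ∈ zpowers c, v ^ 2 = 1 → v = 1 ∨ v = z) {n : ℕ} (hn : χ 1 = n) :
    (M - 2 * M.totient) * n ≤ Nat.card H ∧
      (M - 2 * M.totient) * n ^ 2 ≤ Nat.card H * M.totient := by
  classical
  cases nonempty_fintype G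
  subst hM
  set M := orderOf c with hM
  have hMpos : 0 < M := orderOf_pos c
  haveI : NeZero M := ⟨hMpos.ne'⟩
  have hζ := Complex.isPrimitiveRoot_exp M hMpos.ne'
  set ζ := Complex.exp (2 * Real.pi * Complex.I / (M : ℕ)) with hζdef
  obtain ⟨e, heco, he⟩ := hχ.exists_exp hζ hn
  obtain ⟨n', hn0, hn1⟩ := hχ.exists_degree
  have hnn : n = n' := by rw [hn] at hn1; exact_mod_cast hn1
  subst hnn
  -- the orbit
  haveI := CharBasic.finite_irrCharacter (G := G)
  have hfin : {f : G → ℂ | ∃ σ : ℂ ≃+* ℂ, f = fun g => σ (χ g)}.Finite := by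
    refine Set.Finite.subset (Set.finite_range (fun ψ : Cfsg.IrrCharacter G => (ψ : G → ℂ))) ?_
    rintro _ ⟨σ, rfl⟩
    exact ⟨⟨_, H43.aut_irr σ hχ.irr⟩, rfl⟩
  set O := hfin.toFinset with hO
  have hmem : ∀ f, f ∈ O ↔ ∃ σ : ℂ ≃+* ℂ, f = fun g => σ (χ g) := fun f => by
    rw [hO, Set.Finite.mem_toFinset]; rfl
  have hirr : ∀ f ∈ O, Cfsg.IsIrrCharacter G f := by
    intro f hf
    obtain ⟨σ, rfl⟩ := (hmem f).1 hf
    exact H43.aut_irr σ hχ.irr
  have hrep : ∀ f ∈ O, ∃ e' : Fin n → ℕ, (∀ i, Nat.Coprime (e' i) M) ∧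
      (f 1 = n) ∧ ∀ j : ℕ, f (c ^ j) = ∑ i, (ζ ^ j) ^ e' i := by
    intro f hf
    obtain ⟨σ, rfl⟩ := (hmem f).1 hf
    obtain ⟨k, hk, hσ⟩ := H43.aut_eq_pow σ hMpos.ne'
    refine ⟨fun i => k * e i, fun i => hk.mul_left (heco i), by simp [hn], fun j => ?_⟩
    show σ (χ (c ^ j)) = _
    rw [he, map_sum]
    refine Finset.sum_congr rfl fun i _ => ?_
    rw [hσ _ (by rw [← pow_mul, ← pow_mul, show j * (e i * M) = M * (j * e i) by ring, pow_mul,
      hζ.pow_eq_one, one_pow]), ← pow_mul,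
      mul_comm (e i)]
  choose! e' he'co he'1 he' using hrep
  set k := O.card with hk
  have hk0 : 0 < k := Finset.card_pos.2 ⟨χ, (hmem χ).2 ⟨RingEquiv.refl ℂ, rfl⟩⟩
  set ψ : G → ℂ := fun g => ∑ f ∈ O, f g with hψ
  set N := k * n with hN
  have hψ1 : ψ 1 = (N : ℂ) := by
    rw [hψ]
    show ∑ f ∈ O, f 1 = _
    rw [Finset.sum_congr rfl he'1, Finset.sum_const, nsmul_eq_mul, hN, Nat.cast_mul]
  -- total norm
  have htotal : ∑ g : G, ‖ψ g‖ ^ 2 = (Nat.card G : ℝ) * k := by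
    have hself : Cfsg.classInner ψ ψ = (k : ℂ) := by
      have hψs : ψ = ∑ f ∈ O, f := by ext g; simp [hψ]
      rw [hψs, CharBasic.classInner_sum_left]
      rw [Finset.sum_congr rfl fun f hf => (show Cfsg.classInner f (∑ f ∈ O, f) = 1 by
        rw [CharBasic.classInner_sum_right, Finset.sum_eq_single f]
        · exact CharBasic.classInner_irr_self (hirr f hf)
        · intro f' hf' hne
          exact CharBasic.classInner_irr_of_ne (hirr f hf) (hirr f' hf') (Ne.symm hne)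
        · intro h; exact absurd hf h)]
      simp [hk]
    rw [CharBasic.classInner_self_eq] at hself
    have h1 : (Nat.card G : ℝ)⁻¹ * ∑ g : G, ‖ψ g‖ ^ 2 = (k : ℝ) := by exact_mod_cast hself
    rw [← h1, ← mul_assoc, mul_inv_cancel₀ (Nat.cast_ne_zero.2 Nat.card_pos.ne'), one_mul]
  -- multiplicities of `ψ` on `zpowers c`
  let m : ℕ → ℕ := fun r => ∑ f ∈ O, (Finset.univ.filter fun i => e' f i % M = r).card
  set S := (Finset.range M).filter fun r => Nat.Coprime r M with hS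
  have hScard : S.card = M.totient := by
    rw [hS, Nat.totient_eq_card_coprime]
    exact congrArg Finset.card (Finset.filter_congr fun r _ => Nat.coprime_comm)
  have hψc : ∀ j : ℕ, ψ (c ^ j) = ∑ r ∈ S, (m r : ℂ) * (ζ ^ j) ^ r := by
    intro j
    show ∑ f ∈ O, f (c ^ j) = _
    simp_rw [m, Nat.cast_sum, Finset.sum_mul]
    rw [Finset.sum_comm]
    refine Finset.sum_congr rfl fun f hf => ?_
    rw [he' f hf j, ← Finset.sum_fiberwise_of_maps_to (t := S) (g := fun i => e' f i % M)]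
    · refine Finset.sum_congr rfl fun r _ => ?_
      rw [Finset.sum_congr rfl fun i hi => show (ζ ^ j) ^ e' f i = (ζ ^ j) ^ r by
        rw [← (Finset.mem_filter.1 hi).2, ← pow_mul, ← pow_mul, mul_comm, pow_mul,
          mul_comm j (e' f i % M), pow_mul]
        congr 1
        rw [← pow_mod_orderOf ζ (e' f i), ← hζ.eq_orderOf], Finset.sum_const, nsmul_eq_mul]
    · intro i _
      refine Finset.mem_filter.2 ⟨Finset.mem_range.2 (Nat.mod_lt _ hMpos), ?_⟩
      show Nat.Coprime (e' f i % M) M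
      rw [Nat.Coprime, ← Nat.gcd_rec, Nat.gcd_comm]
      exact he'co f hf i
  have hmpos : ∀ r ∈ S, 1 ≤ m r := by
    intro r hr
    obtain ⟨hrM, hrco⟩ := Finset.mem_filter.1 hr
    obtain ⟨s, -, hs⟩ := Nat.exists_mul_mod_eq_one_of_coprime (heco ⟨0, hn0⟩) (by omega)
    have hsco : Nat.Coprime (r * s) M := by
      refine hrco.mul_left (Nat.Coprime.symm ?_)
      rw [Nat.coprime_comm, Nat.Coprime, ← Nat.gcd_comm]
      have : Nat.Coprime (e ⟨0, hn0⟩ * s) M := by
        rw [Nat.Coprime, ← Nat.gcd_comm, Nat.gcd_rec, hs]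
        simp
      exact (this.coprime_mul_left).symm
    obtain ⟨σ, hσ⟩ := H43.exists_aut_pow hMpos.ne' hsco
    set f : G → ℂ := fun g => σ (χ g) with hfdef
    have hf : f ∈ O := (hmem f).2 ⟨σ, rfl⟩
    have hfj : ∀ j : ℕ, f (c ^ j) = ∑ i, (ζ ^ j) ^ (r * s * e i) := by
      intro j
      show σ (χ (c ^ j)) = _
      rw [he, map_sum]
      refine Finset.sum_congr rfl fun i _ => ?_
      rw [hσ _ (by rw [← pow_mul, ← pow_mul, show j * (e i * M) = M * (j * e i) by ring, pow_mul,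
      hζ.pow_eq_one, one_pow]), ← pow_mul,
        mul_comm (e i)]
    have h1 := (mult_eq hζ _ hfj r).symm.trans (mult_eq hζ _ (he' f hf) r)
    have h2 : 0 < (Finset.univ.filter fun i => (r * s * e i) % M = r % M).card := by
      refine Finset.card_pos.2 ⟨⟨0, hn0⟩, Finset.mem_filter.2 ⟨Finset.mem_univ _, ?_⟩⟩
      rw [mul_assoc, mul_comm s, Nat.mul_mod, hs, mul_one, Nat.mod_mod]
    have h3 : 0 < (Finset.univ.filter fun i => e' f i % M = r).card := by
      have h4 := Nat.cast_injective (R := ℂ) h1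
      rw [Nat.mod_eq_of_lt (Finset.mem_range.1 hrM)] at h4 h2
      exact lt_of_lt_of_eq h2 h4
    exact h3.trans_le (Finset.single_le_sum
      (f := fun f => (Finset.univ.filter fun i => e' f i % M = r).card) (fun _ _ => Nat.zero_le _) hf)
  have hmsum : ∑ r ∈ S, m r = N := by
    have h := hψc 0
    simp only [pow_zero, one_pow, mul_one] at h
    rw [hψ1] at h
    exact_mod_cast h.symm
  have hφN : M.totient ≤ N := by
    rw [← hScard, ← hmsum, Finset.card_eq_sum_ones]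
    exact Finset.sum_le_sum hmpos
  -- Parseval
  have hpars : ∑ j ∈ Finset.range M, ‖ψ (c ^ j)‖ ^ 2 = (M : ℝ) * ∑ r ∈ S, (m r : ℝ) ^ 2 := by
    have hconj : ∀ j r : ℕ, (starRingEnd ℂ) ((ζ ^ j) ^ r) = (ζ⁻¹) ^ (j * r) := by
      intro j r
      rw [map_pow, map_pow, ← pow_mul]
      congr 1
      exact (Complex.inv_eq_conj (hζ.norm'_eq_one hMpos.ne')).symm
    have hC : ∑ j ∈ Finset.range M, ψ (c ^ j) * (starRingEnd ℂ) (ψ (c ^ j)) =
        (M : ℂ) * ∑ r ∈ S, (m r : ℂ) ^ 2 := by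
      simp_rw [hψc, map_sum, map_mul, map_natCast, hconj, Finset.sum_mul, Finset.mul_sum]
      rw [Finset.sum_comm]
      refine Finset.sum_congr rfl fun r hr => ?_
      rw [Finset.sum_comm]
      have hterm : ∀ r' ∈ S, ∑ j ∈ Finset.range M,
          (m r : ℂ) * (ζ ^ j) ^ r * ((m r' : ℂ) * (ζ⁻¹) ^ (j * r')) =
          if r = r' then (M : ℂ) * (m r : ℂ) ^ 2 else 0 := by
        intro r' hr'
        have h := sum_pow_eq hζ r r'
        rw [Nat.mod_eq_of_lt (Finset.mem_range.1 (Finset.mem_filter.1 hr).1),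
          Nat.mod_eq_of_lt (Finset.mem_range.1 (Finset.mem_filter.1 hr').1)] at h
        calc _ = (m r : ℂ) * m r' * ∑ j ∈ Finset.range M, (ζ ^ j) ^ r * (ζ⁻¹) ^ (j * r') := by
              rw [Finset.mul_sum]; refine Finset.sum_congr rfl fun j _ => ?_; ring
          _ = _ := by
              rw [h]
              split_ifs with hrr
              · rw [← hrr]; ring
              · rw [mul_zero]
      rw [Finset.sum_congr rfl hterm, Finset.sum_ite_eq, if_pos hr]
    simp_rw [Complex.mul_conj'] at hC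
    exact_mod_cast hC
  have hcs : (N : ℝ) ^ 2 ≤ (M.totient : ℝ) * ∑ r ∈ S, (m r : ℝ) ^ 2 := by
    rw [← hmsum, Nat.cast_sum, ← hScard]
    exact sq_sum_le_card_mul_sum_sq
  have hpow : ((Finset.range M).image (c ^ ·)) = Finset.univ.filter (· ∈ zpowers c) := by
    ext v
    simp only [Finset.mem_image, Finset.mem_range, Finset.mem_filter, Finset.mem_univ, true_and]
    constructor
    · rintro ⟨j, -, rfl⟩; exact pow_mem (mem_zpowers c) j
    · intro hv
      obtain ⟨j, hj⟩ := mem_powers_iff_mem_zpowers.2 hv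
      exact ⟨j % M, Nat.mod_lt _ hMpos, by rw [hM, pow_mod_orderOf]; exact hj⟩
  have hnorm : ∀ g : G, ‖ψ g‖ ≤ N := by
    intro g
    have hc : Cfsg.IsCharacter G ψ := by
      have hψs : ψ = ∑ f ∈ O, f := by ext g; simp [hψ]
      rw [hψs]
      exact CharBasic.IsChar.sum O (fun f => f) fun f hf => CharBasic.IsIrr.isCharacter (hirr f hf)
    refine (CharBasic.IsChar.norm_le hc g).trans ?_
    rw [hψ1]; simp
  set D := Finset.univ.filter (fun v : G => v ∈ zpowers c ∧ v ^ 2 ≠ 1) with hD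
  have hDsum : (M : ℝ) * ∑ r ∈ S, (m r : ℝ) ^ 2 - 2 * (N : ℝ) ^ 2 ≤ ∑ v ∈ D, ‖ψ v‖ ^ 2 := by
    rw [← hpars, ← Finset.sum_image (f := fun v => ‖ψ v‖ ^ 2) (fun i hi j hj hij =>
      pow_injOn_Iio_orderOf (Finset.mem_range.1 hi) (Finset.mem_range.1 hj) hij), hpow,
      ← Finset.sum_filter_add_sum_filter_not (Finset.univ.filter (· ∈ zpowers c))
        (fun v => v ^ 2 ≠ 1), Finset.filter_filter, Finset.filter_filter, ← hD]
    have h2 : ∑ v ∈ Finset.univ.filter (fun v : G => v ∈ zpowers c ∧ ¬ v ^ 2 ≠ 1), ‖ψ v‖ ^ 2 ≤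
        2 * (N : ℝ) ^ 2 := by
      refine (Finset.sum_le_card_nsmul _ _ ((N : ℝ) ^ 2) fun v _ =>
        pow_le_pow_left₀ (norm_nonneg _) (hnorm v) 2).trans ?_
      rw [nsmul_eq_mul]
      refine mul_le_mul_of_nonneg_right ?_ (by positivity)
      have : (Finset.univ.filter fun v : G => v ∈ zpowers c ∧ ¬ v ^ 2 ≠ 1).card ≤ 2 := by
        refine (Finset.card_le_card (t := {1, z}) fun v hv => ?_).trans Finset.card_le_two
        obtain ⟨hvc, hv2⟩ := (Finset.mem_filter.1 hv).2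
        simpa using hz v hvc (not_ne_iff.1 hv2)
      exact_mod_cast this
    linarith
  -- conjugates of `D`
  have hcf : ∀ g v : G, ψ (g * v * g⁻¹) = ψ v := by
    intro g v
    exact Finset.sum_congr rfl fun f hf => CharBasic.IsIrr.isClassFunction (hirr f hf) v g
  have hconj : (Nat.card G : ℝ) * ∑ v ∈ D, ‖ψ v‖ ^ 2 ≤ (Nat.card H : ℝ) * ∑ g : G, ‖ψ g‖ ^ 2 := by
    have h1 : (Nat.card G : ℝ) * ∑ v ∈ D, ‖ψ v‖ ^ 2 =
        ∑ p ∈ (Finset.univ : Finset G) ×ˢ D, ‖ψ (p.1 * p.2 * p.1⁻¹)‖ ^ 2 := by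
      rw [Finset.sum_product]
      simp only [hcf]
      rw [Finset.sum_const, Finset.card_univ, nsmul_eq_mul, Nat.card_eq_fintype_card]
    rw [h1, ← Finset.sum_fiberwise_of_maps_to (t := (Finset.univ : Finset G))
      (g := fun p : G × G => p.1 * p.2 * p.1⁻¹) (fun p _ => Finset.mem_univ _), Finset.mul_sum]
    refine Finset.sum_le_sum fun t _ => ?_
    rw [Finset.sum_congr rfl fun p hp => show ‖ψ (p.1 * p.2 * p.1⁻¹)‖ ^ 2 = ‖ψ t‖ ^ 2 by
      rw [(Finset.mem_filter.1 hp).2], Finset.sum_const, nsmul_eq_mul]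
    refine mul_le_mul_of_nonneg_right ?_ (by positivity)
    rcases Finset.eq_empty_or_nonempty
      (((Finset.univ : Finset G) ×ˢ D).filter fun p => p.1 * p.2 * p.1⁻¹ = t) with hemp | ⟨p₀, hp₀⟩
    · rw [hemp]; simp
    obtain ⟨hp₀D, hp₀t⟩ := Finset.mem_filter.1 hp₀
    obtain ⟨-, hv₀⟩ := Finset.mem_product.1 hp₀D
    obtain ⟨hv₀c, hv₀2⟩ := (Finset.mem_filter.1 hv₀).2
    have hle : (((Finset.univ : Finset G) ×ˢ D).filter fun p => p.1 * p.2 * p.1⁻¹ = t).card ≤
        Nat.card H := by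
      rw [← Nat.card_eq_finsetCard]
      refine Nat.card_le_card_of_injective (fun p => (⟨p.1.1⁻¹ * p₀.1, ?_⟩ : H)) ?_
      · obtain ⟨hpD, hpt⟩ := Finset.mem_filter.1 p.2
        obtain ⟨-, hvD⟩ := Finset.mem_product.1 hpD
        refine hTI _ p₀.2 hv₀c hv₀2 ?_
        have heq : p₀.1 * p₀.2 * p₀.1⁻¹ = p.1.1 * p.1.2 * p.1.1⁻¹ := hp₀t.trans hpt.symm
        have h2 : p.1.1⁻¹ * p₀.1 * p₀.2 * (p.1.1⁻¹ * p₀.1)⁻¹ = p.1.2 := by
          calc p.1.1⁻¹ * p₀.1 * p₀.2 * (p.1.1⁻¹ * p₀.1)⁻¹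
              = p.1.1⁻¹ * (p₀.1 * p₀.2 * p₀.1⁻¹) * p.1.1 := by group
            _ = p.1.2 := by rw [heq]; group
        rw [h2]
        exact (Finset.mem_filter.1 hvD).2.1
      · rintro ⟨⟨g, v⟩, hp⟩ ⟨⟨g', v'⟩, hp'⟩ hgg
        have hg : g = g' := inv_injective (mul_right_cancel (congrArg Subtype.val hgg))
        subst hg
        have ht := (Finset.mem_filter.1 hp).2
        have ht' := (Finset.mem_filter.1 hp').2
        have : v = v' := mul_left_cancel (mul_right_cancel (ht.trans ht'.symm))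
        subst this
        rfl
    exact_mod_cast hle
  rw [htotal] at hconj
  have hG0 : (0 : ℝ) < Nat.card G := Nat.cast_pos.2 Nat.card_pos
  have hmain : ((M : ℝ) - 2 * M.totient) * (N : ℝ) ^ 2 ≤ (Nat.card H : ℝ) * k * M.totient := by
    have h1 : ∑ v ∈ D, ‖ψ v‖ ^ 2 ≤ (Nat.card H : ℝ) * k :=
      le_of_mul_le_mul_left (by linarith [hconj]) hG0
    have hM0 : (0 : ℝ) ≤ M := Nat.cast_nonneg _
    have hφ0 : (0 : ℝ) ≤ M.totient := Nat.cast_nonneg _
    have h2 := mul_le_mul_of_nonneg_left hcs hM0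
    have h3 := mul_le_mul_of_nonneg_left (hDsum.trans h1) hφ0
    nlinarith
  have hmainN : (M - 2 * M.totient) * N ^ 2 ≤ Nat.card H * k * M.totient := by
    rcases le_or_gt (2 * M.totient) M with hle | hlt
    · rw [← Nat.cast_le (α := ℝ)]
      push_cast [Nat.cast_sub hle]
      exact hmain
    · rw [Nat.sub_eq_zero_of_le hlt.le, zero_mul]
      exact Nat.zero_le _
  set A := M - 2 * M.totient
  have hφ0 : 0 < M.totient := Nat.totient_pos.2 hMpos
  constructor
  · refine Nat.le_of_mul_le_mul_right ?_ (Nat.mul_pos hk0 hφ0)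
    calc A * n * (k * M.totient) ≤ A * n * (k * N) :=
          Nat.mul_le_mul_left _ (Nat.mul_le_mul_left _ hφN)
      _ = A * N ^ 2 := by rw [hN]; ring
      _ ≤ Nat.card H * k * M.totient := hmainN
      _ = Nat.card H * (k * M.totient) := by ring
  · refine Nat.le_of_mul_le_mul_right ?_ hk0
    calc A * n ^ 2 * k ≤ A * n ^ 2 * k * k := Nat.le_mul_of_pos_right _ hk0
      _ = A * N ^ 2 := by rw [hN]; ring
      _ ≤ Nat.card H * k * M.totient := hmainN
      _ = Nat.card H * M.totient * k := by ring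

end FPFChar

end Cfsg.Agent.H78.Zass
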