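import Cfsg.Agent.H78.Zass.NoQ
import Cfsg.Agent.Fusion.Frobenius

/-!
# The centralizer of an element of order four in a perfect `PQGroup`
-/

set_option autoImplicit false
set_option linter.unusedSectionVars false
set_option linter.style.haveILetI false

namespace Cfsg.Agent.H78.Zass

open Subgroup
open scoped commutatorElement

variable {G : Type*} [Group G] [Finite G]

theorem mem_zpowers_of_cyclic {C : Subgroup G} (hC : IsCyclic C) {u v : G} (hu : u ∈ C)
    (hv : v ∈ C) (ho : orderOf u = orderOf v) : zpowers u = zpowers v :=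
  H41.eq_of_card_eq_of_le_cyclic hC (zpowers_le.2 hu) (zpowers_le.2 hv)
    (by rw [Nat.card_zpowers, Nat.card_zpowers, ho])

theorem exists_inverted {a κ : G} (hκ : Odd (orderOf κ)) (hn : a * κ * a⁻¹ ∈ zpowers κ)
    (h2 : Commute (a ^ 2) κ) (hne : ¬ Commute a κ) :
    ∃ y ∈ zpowers κ, (orderOf y).Prime ∧ orderOf y ≠ 2 ∧ a * y * a⁻¹ = y⁻¹ := by
  set w := a * κ * a⁻¹ * κ⁻¹ with hw
  have hwmem : w ∈ zpowers κ := mul_mem hn (inv_mem (mem_zpowers κ))
  have hw1 : w ≠ 1 := fun h => hne (mul_inv_eq_iff_eq_mul.1 (mul_inv_eq_one.1 h))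
  have hconj : a * w * a⁻¹ = w⁻¹ := by
    calc a * w * a⁻¹ = (a ^ 2 * κ * (a ^ 2)⁻¹) * (a * κ⁻¹ * a⁻¹) := by rw [hw, pow_two]; group
      _ = κ * (a * κ⁻¹ * a⁻¹) := by rw [h2.eq, mul_inv_cancel_right]
      _ = w⁻¹ := by rw [hw]; group
  obtain ⟨y, hy, hyp, hy2⟩ := exists_odd_prime_power_mem hw1
    (not_dvd_orderOf_odd hκ hwmem)
  refine ⟨y, zpowers_le.2 hwmem hy, hyp, hy2, ?_⟩
  obtain ⟨j, rfl⟩ := mem_zpowers_iff.1 hy
  rw [← conj_zpow, hconj, inv_zpow]

theorem commute_or_invert {a y : G} (hy : (orderOf y).Prime) (hy2 : orderOf y ≠ 2)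
    (hn : a * y * a⁻¹ ∈ zpowers y) (h2 : Commute (a ^ 2) y) :
    Commute a y ∨ a * y * a⁻¹ = y⁻¹ := by
  by_cases hc : Commute a y
  · exact Or.inl hc
  obtain ⟨w, hw, hwp, -, hwi⟩ := exists_inverted (hy.odd_of_ne_two hy2) hn h2 hc
  have hwo : orderOf w = orderOf y :=
    (hy.eq_one_or_self_of_dvd _ (Nat.card_zpowers y ▸ Subgroup.orderOf_dvd_natCard _ hw)).resolve_left
      hwp.ne_one
  obtain ⟨j, hj⟩ := mem_zpowers_iff.1 (zpowers_eq_of_mem hy rfl hwo hw ▸ mem_zpowers y)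
  refine Or.inr ?_
  rw [← hj, ← conj_zpow, hwi, inv_zpow]

theorem ne_inv_of_odd_prime {y : G} (hy : (orderOf y).Prime) (hy2 : orderOf y ≠ 2) : y ≠ y⁻¹ := by
  intro h
  have h1 : y ^ 2 = 1 := by rw [pow_two]; exact eq_inv_iff_mul_eq_one.1 h
  exact hy2 ((Nat.prime_dvd_prime_iff_eq hy Nat.prime_two).1 (orderOf_dvd_of_pow_eq_one h1))

namespace PQGroup

variable (hG : PQGroup G)
include hG

/-- Odd elements centralize the 2-subgroups they normalize, if `3` does not divide the order. -/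
theorem commute_two_group_odd (h3 : ¬ 3 ∣ Nat.card G) {T : Subgroup G} (hT : IsPGroup 2 T) :
    ∀ n : ℕ, ∀ g : G, orderOf g = n → Odd n → (∀ t ∈ T, g * t * g⁻¹ ∈ T) → ∀ t ∈ T, Commute g t := by
  intro n
  induction n using Nat.strong_induction_on with
  | _ n ih =>
    intro g hg hodd hn t ht
    by_cases h1 : n = 1
    · rw [h1, orderOf_eq_one_iff] at hg
      rw [hg]; exact Commute.one_left t
    have hp := Nat.minFac_prime h1
    have hp2 : n.minFac ≠ 2 := fun h => by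
      have h2 := hodd.of_dvd_nat (h ▸ Nat.minFac_dvd n)
      exact absurd h2 (by decide)
    have hp5 : 5 ≤ n.minFac := by
      by_contra h
      have h3' : n.minFac = 3 := by
        have := hp.two_le
        interval_cases hm : n.minFac <;> first | omega | norm_num at hp
      exact h3 (h3' ▸ (Nat.minFac_dvd n).trans (hg ▸ orderOf_dvd_natCard g))
    have hn0 : n ≠ 0 := fun h => by rw [h] at hodd; exact absurd hodd (by decide)
    obtain ⟨e, N, hN, hnN⟩ := Nat.exists_eq_pow_mul_and_not_dvd hn0 n.minFac hp.ne_one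
    have hNpos : 0 < N := Nat.pos_of_ne_zero fun h => hN (h ▸ dvd_zero _)
    have he : e ≠ 0 := fun h => hN <| by
      rw [h, pow_zero, one_mul] at hnN
      exact hnN ▸ Nat.minFac_dvd n
    have hpos : 0 < n.minFac ^ e := pow_pos hp.pos e
    have hpw : ∀ m : ℕ, ∀ t ∈ T, g ^ m * t * (g ^ m)⁻¹ ∈ T := by
      intro m
      induction m with
      | zero => intro t ht; simpa using ht
      | succ m ihm =>
        intro t ht
        rw [pow_succ', show g * g ^ m * t * (g * g ^ m)⁻¹ = g * (g ^ m * t * (g ^ m)⁻¹) * g⁻¹ by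
          group]
        exact hn _ (ihm t ht)
    have hdN : N ∣ orderOf g := by rw [hg]; exact ⟨_, hnN.trans (mul_comm _ _)⟩
    have hdp : n.minFac ^ e ∣ orderOf g := by rw [hg]; exact ⟨_, hnN⟩
    refine commute_of_parts ((hp.coprime_iff_not_dvd.2 hN).pow_left e) ?_ ?_
    · have hoN : orderOf (g ^ n.minFac ^ e) = N := by
        rw [orderOf_pow_of_dvd hpos.ne' hdp, hg]
        exact Nat.div_eq_of_eq_mul_right hpos hnN
      have hlt : N < n := by
        conv_rhs => rw [hnN]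
        exact lt_mul_of_one_lt_left hNpos (Nat.one_lt_pow he hp.one_lt)
      exact ih N hlt _ hoN (hodd.of_dvd_nat (hg ▸ hdN)) (hpw _) t ht
    · refine hG.commute_two_group' (m₀ := e) hT hp hp2 ?_ (hpw _) (Or.inl hp5) t ht
      rw [orderOf_pow_of_dvd hNpos.ne' hdN, hg]
      exact Nat.div_eq_of_eq_mul_left hNpos hnN

variable (hperf : commutator G = ⊤)
include hperf

theorem three_dvd_card [Nontrivial G] : 3 ∣ Nat.card G := by
  by_contra h3
  haveI : Fact (Nat.Prime 2) := ⟨Nat.prime_two⟩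
  obtain ⟨P⟩ : Nonempty (Sylow 2 G) := inferInstance
  have hc : Cfsg.HasNormalPComplement 2 G := by
    refine (Fusion.frobenius_criterion P).2 fun Q hQ g hg hgp => mem_centralizer_iff.mpr fun t ht => ?_
    refine (hG.commute_two_group_odd h3 (P.isPGroup'.to_le hQ) _ g rfl
      (Nat.coprime_two_right.1 hgp) (fun t ht => ?_) t ht).eq.symm
    exact (mem_normalizer_iff.1 hg t).1 ht
  obtain ⟨P', N, hN, hc'⟩ := hc
  haveI := hN
  have hQ : IsPGroup 2 (G ⧸ N) := P'.2.of_equiv hc'.symm.QuotientMulEquiv.symm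
  by_cases hNtop : N = ⊤
  · have h1 : (P' : Subgroup G) = ⊥ := by
      have := hc'.disjoint
      rw [hNtop, top_disjoint] at this
      exact this
    obtain ⟨i, -, j, -, hq⟩ := hG.hasQPair_of_perfect hperf
    have h4 : 2 ∣ Nat.card G := (dvd_trans (by norm_num) (hq.1 ▸ orderOf_dvd_natCard i) : 2 ∣ _)
    have h5 := P'.dvd_card_of_dvd_card h4
    rw [h1, Subgroup.card_bot] at h5
    omega
  haveI : Nontrivial (G ⧸ N) := QuotientGroup.nontrivial_iff.2 hNtop
  haveI : Group.IsNilpotent (G ⧸ N) := hQ.isNilpotent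
  refine (Group.IsSolvable.commutator_lt_top_of_nontrivial (G ⧸ N)).ne ?_
  rw [commutator_def, ← Subgroup.map_top_of_surjective (QuotientGroup.mk' N)
    (QuotientGroup.mk'_surjective N), ← Subgroup.map_commutator, ← commutator_def, hperf]

/-- Subgroups of the same odd prime order are conjugate. -/
theorem exists_conj_prime {x y : G} {p : ℕ} (hp : p.Prime) (hp2 : p ≠ 2) (hx : orderOf x = p)
    (hy : orderOf y = p) : ∃ g : G, g * x * g⁻¹ ∈ zpowers y := by
  haveI := Fact.mk hp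
  have hpg : ∀ u : G, orderOf u = p → IsPGroup p (zpowers u) := fun u hu =>
    IsPGroup.of_card (n := 1) (by rw [Nat.card_zpowers, hu, pow_one])
  obtain ⟨P, hP⟩ := (hpg y hy).exists_le_sylow
  obtain ⟨Q, hQ⟩ := (hpg x hx).exists_le_sylow
  obtain ⟨g, hg⟩ := MulAction.exists_smul_eq G Q P
  have h1 : g * x * g⁻¹ ∈ (P : Subgroup G) := by
    rw [← hg]
    exact ⟨x, hQ (mem_zpowers x), rfl⟩
  refine ⟨g, ?_⟩
  rw [← mem_zpowers_of_cyclic (hG.isCyclic_odd P.2 hp2) h1 (hP (mem_zpowers y))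
    (by rw [orderOf_conj', hx, hy])]
  exact mem_zpowers _

variable (hIH : SubSL G)
include hIH

/-- The structure of a subgroup without quaternion pairs containing a maximal cyclic 2-group. -/
theorem core {H : Subgroup G} (hH : ¬ HasQPair H) {a : G} (haH : a ∈ H) {k : ℕ}
    (ha : orderOf a = 2 ^ (k + 2))
    (hmax : ∀ (g : G) (e : ℕ), orderOf g = 2 ^ e → orderOf g ∣ 2 ^ (k + 2)) :
    ∃ K ≤ H, Odd (Nat.card K) ∧ (∀ g ∈ H, (g ∈ K ↔ Odd (orderOf g))) ∧ IsCyclic K ∧
      Nat.card H = Nat.card K * 2 ^ (k + 2) ∧ K ⊔ zpowers a = H := by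
  haveI : Fact (Nat.Prime 2) := ⟨Nat.prime_two⟩
  obtain ⟨K, hK, hKodd, hKiff⟩ := hG.exists_oddPart hH
  have hKc := hG.isCyclic_of_odd hperf hIH hKodd
  haveI hKn : (K.subgroupOf H).Normal := by
    constructor
    intro n hn g
    rw [mem_subgroupOf] at hn ⊢
    have h1 : ((g * n * g⁻¹ : H) : G) = (g : G) * n * (g : G)⁻¹ := rfl
    rw [h1, hKiff _ (mul_mem (mul_mem g.2 n.2) (inv_mem g.2)), orderOf_conj']
    exact (hKiff _ n.2).1 hn
  have hQ : IsPGroup 2 (H ⧸ K.subgroupOf H) := by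
    intro q
    induction q using QuotientGroup.induction_on with
    | H g =>
      obtain ⟨o, ho, h, hh, hoh, hoo, e, he⟩ := exists_parts (g : G)
      have hoH : o ∈ H := zpowers_le.2 g.2 ho
      have hhH : h ∈ H := zpowers_le.2 g.2 hh
      refine ⟨e, ?_⟩
      have h1 : (g : H ⧸ K.subgroupOf H) = ((⟨h, hhH⟩ : H) : H ⧸ K.subgroupOf H) := by
        rw [show g = ⟨o, hoH⟩ * ⟨h, hhH⟩ from Subtype.ext hoh.symm, QuotientGroup.mk_mul,
          (QuotientGroup.eq_one_iff _).2 (mem_subgroupOf.2 ((hKiff o hoH).2 hoo)), one_mul]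
      have h2 : (⟨h, hhH⟩ : H) ^ 2 ^ e = 1 := Subtype.ext (by
        show h ^ 2 ^ e = 1
        rw [← he, pow_orderOf_eq_one])
      rw [h1, ← QuotientGroup.mk_pow, h2, QuotientGroup.mk_one]
  obtain ⟨m, hm⟩ := IsPGroup.iff_card.1 hQ
  have hcard : Nat.card H = Nat.card K * 2 ^ m := by
    rw [← Nat.card_congr (Subgroup.subgroupOfEquivOfLe hK).toEquiv, ← hm,
      Subgroup.card_eq_card_quotient_mul_card_subgroup (K.subgroupOf H), mul_comm]
  obtain ⟨T, hT⟩ := Sylow.exists_subgroup_card_pow_prime 2 (G := H) (n := m) ⟨_, hcard.trans (mul_comm _ _)⟩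
  have hTp : IsPGroup 2 (T.map H.subtype) :=
    IsPGroup.of_card (n := m) (by rw [Subgroup.card_map_of_injective H.subtype_injective, hT])
  have hTc : IsCyclic (T.map H.subtype) := by
    by_contra h
    exact hH ((hG.hasQPair_of_not_cyclic hTp h).mono (map_subtype_le _))
  have hm2 : 2 ^ m ∣ 2 ^ (k + 2) := by
    obtain ⟨t, ht⟩ := hTc.exists_ofOrder_eq_natCard
    rw [← orderOf_coe, Subgroup.card_map_of_injective H.subtype_injective, hT] at ht
    exact ht ▸ hmax _ m ht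
  have hle : zpowers a ≤ normalizer (K : Set G) := by
    rw [zpowers_le]
    have hmap : K.map (MulAut.conj a).toMonoidHom = K := by
      refine eq_of_le_of_card_ge ?_
        (Subgroup.card_map_of_injective (MulAut.conj a).injective).ge
      rintro _ ⟨w, hw, rfl⟩
      show a * w * a⁻¹ ∈ K
      rw [hKiff _ (mul_mem (mul_mem haH (hK hw)) (inv_mem haH)), orderOf_conj']
      exact (hKiff _ (hK hw)).1 hw
    rw [mem_normalizer_iff]
    intro t
    refine ⟨fun ht => hmap ▸ ⟨t, ht, rfl⟩, fun ht => ?_⟩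
    rw [← hmap] at ht
    obtain ⟨w, hw, he⟩ := ht
    exact (MulAut.conj a).injective he ▸ hw
  have hd : K ⊓ zpowers a = ⊥ := by
    refine Coprime.inf_eq_bot ?_
    rw [Nat.card_zpowers, ha]
    exact (Nat.coprime_two_right.2 hKodd).pow_right _
  have hsup := Coprime.card_sup hle hd
  rw [Nat.card_zpowers, ha] at hsup
  have hle2 : K ⊔ zpowers a ≤ H := sup_le hK (zpowers_le.2 haH)
  have hle3 : Nat.card H ≤ Nat.card (K ⊔ zpowers a : Subgroup G) := by
    rw [hsup, hcard]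
    exact Nat.mul_le_mul le_rfl (Nat.le_of_dvd (by positivity) hm2)
  have heq := eq_of_le_of_card_ge hle2 hle3
  exact ⟨K, hK, hKodd, hKiff, hKc, by rw [← heq, hsup], heq⟩

end PQGroup

/-- The data attached to a Sylow 2-subgroup of a perfect `PQGroup`. -/
structure Base (P : Sylow 2 G) (a x : G) (k : ℕ) : Prop where
  pq : PQGroup G
  perf : commutator G = ⊤
  ih : SubSL G
  quat : Quat (P : Subgroup G) a x k

namespace Base

variable {P : Sylow 2 G} {a x : G} {k : ℕ} (B : Base P a x k)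
include B

theorem two_elt_dvd (g : G) (e : ℕ) (hg : orderOf g = 2 ^ e) : orderOf g ∣ 2 ^ (k + 2) := by
  haveI : Fact (Nat.Prime 2) := ⟨Nat.prime_two⟩
  obtain ⟨Q, hQ⟩ := (IsPGroup.of_card (n := e)
    (by rw [Nat.card_zpowers, hg] : Nat.card (zpowers g) = 2 ^ e)).exists_le_sylow
  obtain ⟨u, hu⟩ := MulAction.exists_smul_eq G Q P
  have h1 : u * g * u⁻¹ ∈ (P : Subgroup G) := by
    rw [← hu]
    exact ⟨g, hQ (mem_zpowers g), rfl⟩
  rw [← orderOf_conj' u g]
  by_cases h4 : orderOf (u * g * u⁻¹) ∣ 4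
  · exact h4.trans (show 2 ^ 2 ∣ 2 ^ (k + 2) from pow_dvd_pow 2 (by omega))
  · have := Subgroup.orderOf_dvd_natCard _ (B.quat.orderOf_dvd_four_or_mem h1 h4)
    rwa [Nat.card_zpowers, B.quat.ord] at this

theorem orderOf_i : orderOf (a ^ 2 ^ k) = 4 := B.quat.orderOf_i

theorem x_conj_i : x * a ^ 2 ^ k * x⁻¹ = (a ^ 2 ^ k)⁻¹ := (B.quat.qpair B.quat.x_mem B.quat.x_notMem).2.1

theorem x_sq_central (g : G) : Commute (x ^ 2) g := by
  refine (B.pq.commute_involution ?_ g).symm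
  rw [orderOf_pow_of_dvd two_ne_zero (B.quat.orderOf_eq_four B.quat.x_mem B.quat.x_notMem ▸ by norm_num),
    B.quat.orderOf_eq_four B.quat.x_mem B.quat.x_notMem]

theorem ax_notMem : a * x ∉ zpowers a := fun h =>
  B.quat.x_notMem ((mul_mem_cancel_left (mem_zpowers a)).1 h)

/-- `a ^ 2` centralizes cyclic groups normalized by `a` and `x`. -/
theorem commute_a_sq {κ : G} (ha : a * κ * a⁻¹ ∈ zpowers κ) (hx : x * κ * x⁻¹ ∈ zpowers κ) :
    Commute (a ^ 2) κ := by
  have h1 := commute_commutator hx ha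
  have h2 : ⁅x, a⁆ = (a ^ 2)⁻¹ := by
    rw [commutatorElement_def, B.quat.conj x B.quat.x_mem B.quat.x_notMem, pow_two, mul_inv_rev]
  rw [h2] at h1
  simpa using h1.inv_left

/-- No element of odd prime order centralizing `a ^ 2 ^ k` is inverted by `a`. -/
theorem not_inverted {y : G} (hy : (orderOf y).Prime) (hy2 : orderOf y ≠ 2)
    (hi : Commute (a ^ 2 ^ k) y) (hx : x * y * x⁻¹ ∈ zpowers y) (hinv : a * y * a⁻¹ = y⁻¹) :
    False := by
  rcases commute_or_invert hy hy2 hx (B.x_sq_central y) with hc | hxi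
  · exact B.pq.not_commute_qpair B.perf B.ih hy hy2 (B.quat.qpair B.quat.x_mem B.quat.x_notMem) hi hc
  · refine B.pq.not_commute_qpair B.perf B.ih hy hy2
      (B.quat.qpair (mul_mem B.quat.a_mem B.quat.x_mem) B.ax_notMem) hi ?_
    refine mul_inv_eq_iff_eq_mul.1 ?_
    calc a * x * y * (a * x)⁻¹ = a * (x * y * x⁻¹) * a⁻¹ := by group
      _ = y := by rw [hxi, ← conj_inv, hinv, inv_inv]

theorem conj_mem_U {g v : G} (hg : g ∈ normalizer (zpowers (a ^ 2 ^ k) : Set G))
    (hv : v ∈ centralizer ({a ^ 2 ^ k} : Set G)) :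
    g * v * g⁻¹ ∈ centralizer ({a ^ 2 ^ k} : Set G) :=
  mem_centralizer_of_commute (commute_conj_of_normalizes hg (mem_centralizer_singleton_iff.1 hv))

theorem x_mem_N : x ∈ normalizer (zpowers (a ^ 2 ^ k) : Set G) :=
  mem_normalizer_zpowers_iff.2 (B.x_conj_i ▸ inv_mem (mem_zpowers _))

/-- The centralizer of an element of order four. -/
theorem exists_U : ∃ (c : G) (O : Subgroup G), centralizer ({a ^ 2 ^ k} : Set G) = zpowers c ∧
    O ≤ zpowers c ∧ Odd (Nat.card O) ∧ (∀ g ∈ zpowers c, (g ∈ O ↔ Odd (orderOf g))) ∧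
    orderOf c = Nat.card O * 2 ^ (k + 2) ∧ a ∈ zpowers c := by
  set U := centralizer ({a ^ 2 ^ k} : Set G) with hU
  have haU : a ∈ U := mem_centralizer_of_commute ((Commute.refl a).pow_right _)
  obtain ⟨O, hO, hOodd, hOiff, hOc, hcard, -⟩ := B.pq.core B.perf B.ih
    (B.pq.not_hasQPair_centralizer_four B.orderOf_i) haU B.quat.ord B.two_elt_dvd
  obtain ⟨⟨κ, hκ⟩, hgen⟩ := hOc.exists_generator
  have hOκ : O = zpowers κ := by
    refine le_antisymm (fun w hw => ?_) (zpowers_le.2 hκ)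
    obtain ⟨j, hj⟩ := mem_zpowers_iff.1 (hgen ⟨w, hw⟩)
    exact ⟨j, congrArg Subtype.val hj⟩
  have hκo : Odd (orderOf κ) := (hOiff κ (hO hκ)).1 hκ
  have hnorm : ∀ g : G, g * κ * g⁻¹ ∈ U → g * κ * g⁻¹ ∈ zpowers κ := fun g hg => by
    rw [← hOκ, hOiff _ hg, orderOf_conj']
    exact hκo
  have haκ : a * κ * a⁻¹ ∈ zpowers κ := hnorm a (mul_mem (mul_mem haU (hO hκ)) (inv_mem haU))
  have hxκ : x * κ * x⁻¹ ∈ zpowers κ := hnorm x (B.conj_mem_U B.x_mem_N (hO hκ))
  have hcomm : Commute a κ := by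
    by_contra hne
    obtain ⟨y, hy, hyp, hy2, hyi⟩ := exists_inverted hκo haκ (B.commute_a_sq haκ hxκ) hne
    have hyO : y ∈ O := hOκ ▸ hy
    refine B.not_inverted hyp hy2 (mem_centralizer_singleton_iff.1 (hO hyO)).symm ?_ hyi
    have hxy : x * y * x⁻¹ ∈ zpowers κ := by
      obtain ⟨j, rfl⟩ := mem_zpowers_iff.1 hy
      rw [← conj_zpow]
      exact zpow_mem hxκ j
    rw [← mem_zpowers_of_cyclic inferInstance hxy hy (orderOf_conj' x y)]
    exact mem_zpowers _
  have hκn : orderOf κ = Nat.card O := by rw [hOκ, Nat.card_zpowers]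
  have hco : orderOf (κ * a) = Nat.card O * 2 ^ (k + 2) := by
    rw [hcomm.symm.orderOf_mul_eq_mul_orderOf_of_coprime, hκn, B.quat.ord]
    rw [hκn, B.quat.ord]
    exact (Nat.coprime_two_right.2 hOodd).pow_right _
  have hUc : U = zpowers (κ * a) := by
    refine (eq_of_le_of_card_ge (zpowers_le.2 (mul_mem (hO hκ) haU)) ?_).symm
    rw [Nat.card_zpowers, hco, hcard]
  exact ⟨κ * a, O, hUc, hUc ▸ hO, hOodd, fun g hg => hOiff g (show g ∈ U by rw [hUc]; exact hg), hco, hUc ▸ haU⟩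

/-- The centralizer of an element of odd prime order centralizing `a ^ 2 ^ k`. -/
theorem centralizer_prime {y : G} (hy : (orderOf y).Prime) (hy2 : orderOf y ≠ 2)
    (hi : Commute y (a ^ 2 ^ k)) :
    centralizer ({y} : Set G) = centralizer ({a ^ 2 ^ k} : Set G) := by
  obtain ⟨c, O, hU, hOc, hOodd, hOiff, hco, hac⟩ := B.exists_U
  have hyc : y ∈ zpowers c := hU ▸ mem_centralizer_of_commute hi
  have hUy : ∀ v ∈ zpowers c, Commute v y := by
    intro v hv
    obtain ⟨j, rfl⟩ := mem_zpowers_iff.1 hv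
    obtain ⟨l, rfl⟩ := mem_zpowers_iff.1 hyc
    exact Commute.zpow_zpow_self c j l
  set C := centralizer ({y} : Set G) with hC
  have haC : a ∈ C := mem_centralizer_of_commute (hUy a hac)
  obtain ⟨K, hK, hKodd, hKiff, hKc, -, hsup⟩ := B.pq.core B.perf B.ih
    (fun ⟨i, hi', j, hj, hij⟩ => B.pq.not_commute_qpair B.perf B.ih hy hy2 hij
      (mem_centralizer_singleton_iff.1 hi') (mem_centralizer_singleton_iff.1 hj))
    haC B.quat.ord B.two_elt_dvd
  refine le_antisymm ?_ (fun v hv => mem_centralizer_of_commute (hUy v (hU ▸ hv)))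
  have hxy : x * y * x⁻¹ ∈ zpowers y := by
    rw [← mem_zpowers_of_cyclic inferInstance
      (hU ▸ B.conj_mem_U B.x_mem_N (mem_centralizer_of_commute hi)) hyc (orderOf_conj' x y)]
    exact mem_zpowers _
  have hxN : x ∈ normalizer (zpowers y : Set G) := mem_normalizer_zpowers_iff.2 hxy
  obtain ⟨⟨κ, hκ⟩, hgen⟩ := hKc.exists_generator
  have hKκ : K = zpowers κ := by
    refine le_antisymm (fun w hw => ?_) (zpowers_le.2 hκ)
    obtain ⟨j, hj⟩ := mem_zpowers_iff.1 (hgen ⟨w, hw⟩)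
    exact ⟨j, congrArg Subtype.val hj⟩
  have hκo : Odd (orderOf κ) := (hKiff κ (hK hκ)).1 hκ
  have hnorm : ∀ g : G, g * κ * g⁻¹ ∈ C → g * κ * g⁻¹ ∈ zpowers κ := fun g hg => by
    rw [← hKκ, hKiff _ hg, orderOf_conj']
    exact hκo
  have haκ : a * κ * a⁻¹ ∈ zpowers κ := hnorm a (mul_mem (mul_mem haC (hK hκ)) (inv_mem haC))
  have hxκ : x * κ * x⁻¹ ∈ zpowers κ := hnorm x (mem_centralizer_of_commute
    (commute_conj_of_normalizes hxN (mem_centralizer_singleton_iff.1 (hK hκ))))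
  have ha2 := B.commute_a_sq haκ hxκ
  suffices hiκ : Commute (a ^ 2 ^ k) κ by
    rw [show C = K ⊔ zpowers a from hsup.symm, hKκ]
    exact sup_le (zpowers_le.2 (mem_centralizer_of_commute hiκ.symm))
      (zpowers_le.2 (mem_centralizer_of_commute ((Commute.refl a).pow_right _)))
  rcases Nat.eq_zero_or_pos k with hk | hk
  swap
  · rw [show 2 ^ k = 2 * 2 ^ (k - 1) by rw [← pow_succ', Nat.sub_add_cancel hk], pow_mul]
    exact ha2.pow_left _
  have hia : a ^ 2 ^ k = a := by rw [hk, pow_zero, pow_one]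
  rw [hia]
  by_contra hne
  obtain ⟨y', hy', hy'p, hy'2, hy'i⟩ := exists_inverted hκo haκ ha2 hne
  have hy'K : y' ∈ K := hKκ ▸ hy'
  have hxy' : x * y' * x⁻¹ ∈ zpowers y' := by
    have hxy'' : x * y' * x⁻¹ ∈ zpowers κ := by
      obtain ⟨j, rfl⟩ := mem_zpowers_iff.1 hy'
      rw [← conj_zpow]
      exact zpow_mem hxκ j
    rw [← mem_zpowers_of_cyclic inferInstance hxy'' hy' (orderOf_conj' x y')]
    exact mem_zpowers _
  obtain ⟨j, hjP, hja, hjy'⟩ :
      ∃ j ∈ (P : Subgroup G), j ∉ zpowers a ∧ Commute j y' := by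
    rcases commute_or_invert hy'p hy'2 hxy' (B.x_sq_central y') with hc | hxi
    · exact ⟨x, B.quat.x_mem, B.quat.x_notMem, hc⟩
    · refine ⟨a * x, mul_mem B.quat.a_mem B.quat.x_mem, B.ax_notMem, mul_inv_eq_iff_eq_mul.1 ?_⟩
      calc a * x * y' * (a * x)⁻¹ = a * (x * y' * x⁻¹) * a⁻¹ := by group
        _ = y' := by rw [hxi, ← conj_inv, hy'i, inv_inv]
  have ha4 : orderOf a = 4 := by rw [B.quat.ord, hk]; norm_num
  have hj4 := B.quat.orderOf_eq_four hjP hja
  obtain ⟨g, hg⟩ := B.pq.exists_conj_four B.perf ha4 hj4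
  have heq : zpowers (g * a * g⁻¹) = zpowers j := zpowers_conj_eq hg (ha4.trans hj4.symm)
  -- the odd part of `C(y')` lies in `K`
  have hyy' : Commute y' y := mem_centralizer_singleton_iff.1 (hK hy'K)
  have hC' : ∀ v : G, Commute v y' → Odd (orderOf v) → v ∈ K := by
    intro v hv hvo
    obtain ⟨K', hK', hK'odd, hK'iff⟩ := B.pq.exists_oddPart
      (H := centralizer ({y'} : Set G))
      fun ⟨i, hi', l, hl, hil⟩ => B.pq.not_commute_qpair B.perf B.ih hy'p hy'2 hil
        (mem_centralizer_singleton_iff.1 hi') (mem_centralizer_singleton_iff.1 hl)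
    haveI := B.pq.isCyclic_of_odd B.perf B.ih hK'odd
    letI : CommGroup K' := IsCyclic.commGroup
    have hvy : Commute v y := congrArg Subtype.val (mul_comm
      (⟨v, (hK'iff v (mem_centralizer_of_commute hv)).2 hvo⟩ : K')
      ⟨y, (hK'iff y (mem_centralizer_of_commute hyy'.symm)).2 (hy.odd_of_ne_two hy2)⟩)
    exact (hKiff v (mem_centralizer_of_commute hvy)).2 hvo
  have hUa : ∀ v : G, Commute v a → v ∈ zpowers c := fun v hv => by
    rw [← hU, hia]; exact mem_centralizer_of_commute hv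
  have hUa' : ∀ v ∈ zpowers c, Commute v a := fun v hv => by
    have := mem_centralizer_singleton_iff.1 (hU ▸ hv : v ∈ centralizer ({a ^ 2 ^ k} : Set G))
    rwa [hia] at this
  -- `g⁻¹ y' g` lies in `O`
  have hy'g : g⁻¹ * y' * g ∈ O := by
    have h1 : Commute y' (g * a * g⁻¹) := commute_of_zpowers_eq heq.symm hjy'.symm
    have h2 : Commute (g⁻¹ * y' * g) a := by
      have := commute_conj (g := g⁻¹) h1
      rwa [inv_inv, show g⁻¹ * (g * a * g⁻¹) * g = a by group] at this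
    rw [hOiff _ (hUa _ h2), show g⁻¹ * y' * g = g⁻¹ * y' * g⁻¹⁻¹ by rw [inv_inv], orderOf_conj']
    exact hy'p.odd_of_ne_two hy'2
  have hOK : O ≤ K := fun v hv => (hKiff v (mem_centralizer_of_commute (hUy v (hOc hv)))).2
    ((hOiff v (hOc hv)).1 hv)
  have hgOK : O.map (MulAut.conj g).toMonoidHom ≤ K := by
    rintro _ ⟨v, hv, rfl⟩
    refine hC' _ ?_ ?_
    · show Commute (g * v * g⁻¹) y'
      have h1 : Commute v (g⁻¹ * y' * g) := by
        obtain ⟨l, hl⟩ := mem_zpowers_iff.1 (hOc hv)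
        obtain ⟨l', hl'⟩ := mem_zpowers_iff.1 (hOc hy'g)
        rw [← hl, ← hl']
        exact Commute.zpow_zpow_self c l l'
      have h2 := commute_conj (g := g) h1
      rwa [show g * (g⁻¹ * y' * g) * g⁻¹ = y' by group] at h2
    · show Odd (orderOf (g * v * g⁻¹))
      rw [orderOf_conj']
      exact (hOiff v (hOc hv)).1 hv
  have hmap : O.map (MulAut.conj g).toMonoidHom = O :=
    H41.eq_of_card_eq_of_le_cyclic hKc hgOK hOK
      (Subgroup.card_map_of_injective (MulAut.conj g).injective)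
  have hy'O : y' ∈ O := by
    rw [← hmap]
    exact ⟨_, hy'g, show g * (g⁻¹ * y' * g) * g⁻¹ = y' by group⟩
  have := (hUa' y' (hOc hy'O)).symm
  rw [this.eq, mul_inv_cancel_right] at hy'i
  exact ne_inv_of_odd_prime hy'p hy'2 hy'i

theorem card_N :
    Nat.card (normalizer (zpowers (a ^ 2 ^ k) : Set G)) =
      2 * Nat.card (centralizer ({a ^ 2 ^ k} : Set G)) := by
  refine card_eq_two_mul (g := x) (centralizer_le_normalizer_zpowers _) B.x_mem_N ?_ ?_
  · intro h
    have h1 : Commute x (a ^ 2 ^ k) := mem_centralizer_singleton_iff.1 h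
    exact (B.quat.qpair B.quat.x_mem B.quat.x_notMem).not_commute h1
  · intro t ht
    obtain ⟨m, hm⟩ := exists_conj_eq_pow (mem_normalizer_zpowers_iff.1 ht)
    have hord : orderOf ((a ^ 2 ^ k) ^ m) = 4 := by rw [← hm, orderOf_conj', B.orderOf_i]
    rw [← pow_mod_orderOf (a ^ 2 ^ k) m, B.orderOf_i] at hm hord
    have hlt := Nat.mod_lt m (show 4 > 0 by norm_num)
    interval_cases hmm : m % 4
    · simp at hord
    · exact Or.inl (mem_centralizer_of_commute (mul_inv_eq_iff_eq_mul.1 (by simpa using hm)))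
    · rw [orderOf_pow_of_dvd two_ne_zero (by rw [B.orderOf_i]; norm_num), B.orderOf_i] at hord
      omega
    · have h3 : (a ^ 2 ^ k) ^ 3 = (a ^ 2 ^ k)⁻¹ := by
        refine eq_inv_of_mul_eq_one_left ?_
        rw [← pow_succ]
        exact orderOf_dvd_iff_pow_eq_one.1 (by rw [B.orderOf_i])
      rw [h3] at hm
      refine Or.inr ⟨t * x⁻¹, mem_centralizer_of_commute (mul_inv_eq_iff_eq_mul.1 ?_), by group⟩
      have hx' : x⁻¹ * a ^ 2 ^ k * x = (a ^ 2 ^ k)⁻¹ := (B.quat.qpair B.quat.x_mem B.quat.x_notMem).inv_eq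
      calc t * x⁻¹ * a ^ 2 ^ k * (t * x⁻¹)⁻¹ = t * (x⁻¹ * a ^ 2 ^ k * x) * t⁻¹ := by group
        _ = a ^ 2 ^ k := by rw [hx', ← conj_inv, hm, inv_inv]

end Base

end Cfsg.Agent.H78.Zass
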