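import Cfsg.Agent.H78.Zass.Nonsolvable
import Cfsg.Agent.H78.Zass.Solvable

/-!
# The top quotient of a `PQGroup`
-/

set_option autoImplicit false
set_option linter.unusedSectionVars false
set_option linter.style.haveILetI false

namespace Cfsg.Agent.H78.Zass

open Subgroup

variable {G : Type*} [Group G] [Finite G]

theorem commuting_involutions_eq (hZ : IsZGroup G) {u v : G} (hu : orderOf u = 2)
    (hv : orderOf v = 2) (hc : Commute u v) : u = v := by
  haveI : Fact (Nat.Prime 2) := ⟨Nat.prime_two⟩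
  haveI := hZ
  have hT : IsPGroup 2 ↥(zpowers u ⊔ zpowers v) :=
    IsPGroup.to_sup_of_normal_left' (IsPGroup.of_card (n := 1) (by rw [Nat.card_zpowers, hu, pow_one]))
      (IsPGroup.of_card (n := 1) (by rw [Nat.card_zpowers, hv, pow_one]))
      (zpowers_le.2 (centralizer_le_normalizer_zpowers u (mem_centralizer_of_commute hc.symm)))
  obtain ⟨P, hP⟩ := hT.exists_le_sylow
  have he := mem_zpowers_of_cyclic (C := (P : Subgroup G)) inferInstance
    (hP (mem_sup_left (mem_zpowers u))) (hP (mem_sup_right (mem_zpowers v))) (hu.trans hv.symm)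
  obtain ⟨m, hm, hm'⟩ : ∃ m < orderOf v, v ^ m = u := by
    have h := he ▸ mem_zpowers u
    classical
    rw [← mem_powers_iff_mem_zpowers, mem_powers_iff_mem_range_orderOf, Finset.mem_image] at h
    obtain ⟨m, hm, hm'⟩ := h
    exact ⟨m, Finset.mem_range.1 hm, hm'⟩
  rw [hv] at hm
  interval_cases m
  · rw [pow_zero] at hm'
    rw [← hm', orderOf_one] at hu
    omega
  · rw [pow_one] at hm'
    exact hm'.symm

theorem perm4_key : ∀ c : Equiv.Perm (Fin 4), c ≠ 1 → ∃ g : Equiv.Perm (Fin 4),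
    Equiv.Perm.sign g = 1 ∧ (g * c * g⁻¹ * c⁻¹) ^ 2 = 1 ∧ g * c * g⁻¹ * c⁻¹ ≠ 1 ∧
      ∃ h : Equiv.Perm (Fin 4), Equiv.Perm.sign h = 1 ∧
        h * (g * c * g⁻¹ * c⁻¹) * h⁻¹ ≠ g * c * g⁻¹ * c⁻¹ ∧
        Commute (g * c * g⁻¹ * c⁻¹) (h * (g * c * g⁻¹ * c⁻¹) * h⁻¹) := by
  unfold Commute SemiconjBy
  decide +kernel

theorem perm5_key : ∀ c : Equiv.Perm (Fin 5), c ^ 5 ≠ 1 → ∃ g : Equiv.Perm (Fin 5),
    Equiv.Perm.sign g = 1 ∧ (g * c * g⁻¹ * c⁻¹) ^ 2 = 1 ∧ g * c * g⁻¹ * c⁻¹ ≠ 1 ∧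
      ∃ h : Equiv.Perm (Fin 5), Equiv.Perm.sign h = 1 ∧
        h * (g * c * g⁻¹ * c⁻¹) * h⁻¹ ≠ g * c * g⁻¹ * c⁻¹ ∧
        Commute (g * c * g⁻¹ * c⁻¹) (h * (g * c * g⁻¹ * c⁻¹) * h⁻¹) := by
  unfold Commute SemiconjBy
  decide +kernel

theorem perm5_five : ∀ c : Equiv.Perm (Fin 5), c ≠ 1 → c ^ 5 = 1 → ∃ g : Equiv.Perm (Fin 5),
    Equiv.Perm.sign g = 1 ∧ (g * c * g⁻¹ * c⁻¹) ^ 5 ≠ 1 := by
  decide +kernel

/-- Normal subgroups with cyclic Sylow subgroups lie in the kernel. -/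
theorem le_ker_of_alternating {n : ℕ} (hn : n = 4 ∨ n = 5) (f : G →* Equiv.Perm (Fin n))
    (hf : alternatingGroup (Fin n) ≤ f.range) (M : Subgroup G) [M.Normal] [IsZGroup M] :
    M ≤ f.ker := by
  intro m₀ hm₀
  rw [MonoidHom.mem_ker]
  by_contra hc₀
  obtain ⟨m, hm, hkey⟩ : ∃ m ∈ M, ∃ g : Equiv.Perm (Fin n), Equiv.Perm.sign g = 1 ∧
      (g * f m * g⁻¹ * (f m)⁻¹) ^ 2 = 1 ∧ g * f m * g⁻¹ * (f m)⁻¹ ≠ 1 ∧
      ∃ h : Equiv.Perm (Fin n), Equiv.Perm.sign h = 1 ∧
        h * (g * f m * g⁻¹ * (f m)⁻¹) * h⁻¹ ≠ g * f m * g⁻¹ * (f m)⁻¹ ∧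
        Commute (g * f m * g⁻¹ * (f m)⁻¹) (h * (g * f m * g⁻¹ * (f m)⁻¹) * h⁻¹) := by
    rcases hn with rfl | rfl
    · exact ⟨m₀, hm₀, perm4_key _ hc₀⟩
    · by_cases h5 : f m₀ ^ 5 = 1
      · obtain ⟨g, hg, hg5⟩ := perm5_five _ hc₀ h5
        obtain ⟨g', rfl⟩ := hf (show g ∈ alternatingGroup (Fin 5) from
          Equiv.Perm.mem_alternatingGroup.2 hg)
        refine ⟨g' * m₀ * g'⁻¹ * m₀⁻¹,
          mul_mem ((inferInstance : M.Normal).conj_mem m₀ hm₀ g') (inv_mem hm₀), perm5_key _ ?_⟩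
        rw [map_mul, map_mul, map_mul, map_inv, map_inv]
        exact hg5
      · exact ⟨m₀, hm₀, perm5_key _ h5⟩
  obtain ⟨g, hg, h2, h1, h, hh, hne, hcomm⟩ := hkey
  obtain ⟨g', rfl⟩ := hf (show g ∈ alternatingGroup (Fin n) from Equiv.Perm.mem_alternatingGroup.2 hg)
  obtain ⟨h', rfl⟩ := hf (show h ∈ alternatingGroup (Fin n) from Equiv.Perm.mem_alternatingGroup.2 hh)
  set u := f g' * f m * (f g')⁻¹ * (f m)⁻¹ with hu
  have hum : u ∈ M.map f := by
    refine ⟨g' * m * g'⁻¹ * m⁻¹, mul_mem ((inferInstance : M.Normal).conj_mem m hm g') (inv_mem hm), ?_⟩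
    rw [hu, map_mul, map_mul, map_mul, map_inv, map_inv]
  have hvm : f h' * u * (f h')⁻¹ ∈ M.map f := by
    obtain ⟨w, hw, hwu⟩ := hum
    exact ⟨h' * w * h'⁻¹, (inferInstance : M.Normal).conj_mem w hw h', by
      rw [map_mul, map_mul, map_inv, hwu]⟩
  haveI : IsZGroup (M.map f) := IsZGroup.of_surjective (f.subgroupMap_surjective M)
  have := commuting_involutions_eq (G := M.map f) inferInstance (u := ⟨u, hum⟩)
    (v := ⟨_, hvm⟩) (by rw [← orderOf_coe]; exact orderOf_eq_prime h2 h1)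
    (by rw [← orderOf_coe]; show orderOf (f h' * u * (f h')⁻¹) = 2
        rw [orderOf_conj']; exact orderOf_eq_prime h2 h1)
    (Subtype.ext hcomm)
  exact hne (congrArg Subtype.val this).symm

theorem d2_exists_commuting : ∃ u v : DihedralGroup 2,
    (u * u = 1 ∧ u ≠ 1) ∧ (v * v = 1 ∧ v ≠ 1) ∧ u ≠ v ∧ u * v = v * u := by decide

theorem not_isZGroup_d2 : ¬ IsZGroup (DihedralGroup 2) := by
  intro h
  obtain ⟨u, v, ⟨hu, hu1⟩, ⟨hv, hv1⟩, hne, hc⟩ := d2_exists_commuting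
  exact hne (commuting_involutions_eq h (orderOf_eq_prime (by rw [pow_two, hu]) hu1)
    (orderOf_eq_prime (by rw [pow_two, hv]) hv1) hc)

theorem card_range_of_alternating {n : ℕ} (hn : n = 4 ∨ n = 5) (f : G →* Equiv.Perm (Fin n))
    (hf : alternatingGroup (Fin n) ≤ f.range) : 12 ≤ Nat.card f.range := by
  refine le_trans ?_ (Subgroup.card_le_of_le hf)
  have h : 2 * Nat.card (alternatingGroup (Fin n)) = Nat.card (Equiv.Perm (Fin n)) := by
    haveI : Nontrivial (Fin n) := Fin.nontrivial_iff_two_le.2 (by omega)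
    rw [Nat.card_eq_fintype_card, Nat.card_eq_fintype_card]
    exact two_mul_card_alternatingGroup
  rw [Nat.card_eq_fintype_card (α := Equiv.Perm (Fin n)), Fintype.card_perm, Fintype.card_fin] at h
  rcases hn with rfl | rfl
  · rw [show Nat.factorial 4 = 24 by decide] at h
    omega
  · rw [show Nat.factorial 5 = 120 by decide] at h
    omega

theorem eq_of_klein (hG : PQGroup G) {f₁ f₂ : G →* DihedralGroup 2}
    (h₁ : Function.Surjective f₁) (h₂ : Function.Surjective f₂) : f₁.ker = f₂.ker := by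
  haveI : Fact (Nat.Prime 2) := ⟨Nat.prime_two⟩
  have hd : ∀ w : DihedralGroup 2, w * w = 1 := by decide
  let φ : G →* DihedralGroup 2 × DihedralGroup 2 := f₁.prod f₂
  have hφ : ∀ w : φ.range, w ^ 2 ^ 1 = 1 := fun w => Subtype.ext (by
    show (w : DihedralGroup 2 × DihedralGroup 2) ^ 2 ^ 1 = 1
    rw [pow_one, pow_two]
    exact Prod.ext (hd _) (hd _))
  have hR : IsPGroup 2 φ.range := fun w => ⟨1, hφ w⟩
  obtain ⟨P⟩ : Nonempty (Sylow 2 G) := inferInstance
  have hsurj : ∀ w ∈ φ.range, ∃ y ∈ (P : Subgroup G), φ y = w := by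
    intro w hw
    have htop : ((P.mapSurjective φ.rangeRestrict_surjective : Sylow 2 φ.range) : Subgroup φ.range) = ⊤ :=
      ((P.mapSurjective φ.rangeRestrict_surjective).3 (Q := ⊤) (hR.to_subgroup ⊤) le_top).symm
    have hmem : (⟨w, hw⟩ : φ.range) ∈
        ((P.mapSurjective φ.rangeRestrict_surjective : Sylow 2 φ.range) : Subgroup φ.range) :=
      htop ▸ mem_top _
    obtain ⟨y, hy, hyw⟩ := hmem
    exact ⟨y, hy, congrArg Subtype.val hyw⟩
  have hnc : ¬ IsCyclic (P : Subgroup G) := by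
    intro hc
    have h : Function.Surjective (f₁.comp (P : Subgroup G).subtype) := by
      intro d
      obtain ⟨g, rfl⟩ := h₁ d
      obtain ⟨y, hy, hyw⟩ := hsurj (φ g) ⟨g, rfl⟩
      exact ⟨⟨y, hy⟩, congrArg Prod.fst hyw⟩
    haveI := hc
    haveI : IsCyclic (DihedralGroup 2) := isCyclic_of_surjective _ h
    exact not_isZGroup_d2 inferInstance
  obtain ⟨a, x, k, hq⟩ := hG.exists_quat P.2 hnc
  have hcase : ∀ g : G, φ g = 1 ∨ φ g = φ a ∨ φ g = φ x ∨ φ g = φ a * φ x := by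
    intro g
    obtain ⟨y, hy, hyw⟩ := hsurj (φ g) ⟨g, rfl⟩
    have hpow : ∀ c ∈ zpowers a, φ c = 1 ∨ φ c = φ a := by
      intro c hc
      obtain ⟨j, rfl⟩ := mem_zpowers_iff.1 hc
      have h2 : φ a ^ (2 : ℤ) = 1 := by
        rw [zpow_ofNat, pow_two]
        exact Prod.ext (hd _) (hd _)
      rcases Int.even_or_odd' j with ⟨i, rfl | rfl⟩
      · exact Or.inl (by rw [map_zpow, zpow_mul, h2, one_zpow])
      · exact Or.inr (by rw [map_zpow, zpow_add, zpow_mul, h2, one_zpow, one_mul, zpow_one])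
    rw [← hyw]
    rcases hq.exists_eq_mul hy with hya | ⟨c, hc, rfl⟩
    · rcases hpow y hya with h | h
      · exact Or.inl h
      · exact Or.inr (Or.inl h)
    · rcases hpow c hc with h | h
      · exact Or.inr (Or.inr (Or.inl (by rw [map_mul, h, one_mul])))
      · exact Or.inr (Or.inr (Or.inr (by rw [map_mul, h])))
  have hle : Nat.card φ.range ≤ 4 := by
    rw [← SetLike.coe_sort_coe, Nat.card_coe_set_eq]
    refine le_trans (Set.ncard_le_ncard (t := ({1, φ a, φ x, φ a * φ x} : Set _)) ?_ (Set.toFinite _)) ?_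
    · rintro _ ⟨g, rfl⟩
      rcases hcase g with h | h | h | h <;> simp [h]
    · refine (Set.ncard_insert_le _ _).trans (Nat.succ_le_succ ((Set.ncard_insert_le _ _).trans
        (Nat.succ_le_succ ((Set.ncard_insert_le _ _).trans (by simp)))))
  have hkey : ∀ f : G →* DihedralGroup 2, Function.Surjective f → φ.ker ≤ f.ker → φ.ker = f.ker := by
    intro f hf hk
    refine eq_of_le_of_card_ge hk ?_
    have h1 := φ.ker.card_mul_index
    have h2 := f.ker.card_mul_index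
    rw [index_ker] at h1 h2
    rw [MonoidHom.range_eq_top.2 hf, card_top, Nat.card_eq_fintype_card (α := DihedralGroup 2),
      DihedralGroup.card] at h2
    nlinarith
  rw [← hkey f₁ h₁ fun g hg => (Prod.ext_iff.1 (MonoidHom.mem_ker.1 hg)).1,
    hkey f₂ h₂ fun g hg => (Prod.ext_iff.1 (MonoidHom.mem_ker.1 hg)).2]

/-- The kinds of top quotient. -/
def HasTop (N : Subgroup G) : Prop :=
  N = ⊤ ∨ (∃ f : G →* DihedralGroup 2, Function.Surjective f ∧ f.ker = N) ∨
    ∃ n, (n = 4 ∨ n = 5) ∧ ∃ f : G →* Equiv.Perm (Fin n), f.ker = N ∧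
      alternatingGroup (Fin n) ≤ f.range

theorem hasTop_unique (hG : PQGroup G) {N M : Subgroup G} [N.Normal] [M.Normal] [IsZGroup N]
    [IsZGroup M] (hN : HasTop N) (hM : HasTop M) : N = M := by
  -- a perm kind against a small kind
  have hperm : ∀ (K L : Subgroup G) [L.Normal] [IsZGroup L] {n : ℕ}, (n = 4 ∨ n = 5) →
      ∀ f : G →* Equiv.Perm (Fin n), f.ker = K → alternatingGroup (Fin n) ≤ f.range →
      L.index ≤ 4 → False := by
    intro K L _ _ n hn f hK hf hL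
    have h1 : f.ker.index ∣ L.index := Subgroup.index_dvd_of_le (le_ker_of_alternating hn f hf L)
    have h2 := card_range_of_alternating hn f hf
    rw [index_ker] at h1
    have h3 := Nat.le_of_dvd (Nat.pos_of_ne_zero Subgroup.index_ne_zero_of_finite) h1
    omega
  have hsmall : ∀ f : G →* DihedralGroup 2, Function.Surjective f → f.ker.index ≤ 4 := by
    intro f hf
    rw [index_ker, MonoidHom.range_eq_top.2 hf, card_top, Nat.card_eq_fintype_card,
      DihedralGroup.card]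
  have htop : ∀ f : G →* DihedralGroup 2, Function.Surjective f → IsZGroup (⊤ : Subgroup G) → False :=
    fun f hf h => not_isZGroup_d2 (IsZGroup.of_surjective
      (f := f.comp (⊤ : Subgroup G).subtype) fun d => by
        obtain ⟨g, rfl⟩ := hf d
        exact ⟨⟨g, mem_top g⟩, rfl⟩)
  rcases hN with hN | ⟨f, hf, hfN⟩ | ⟨n, hn, f, hfN, hfa⟩
  · rcases hM with hM | ⟨g, hg, hgM⟩ | ⟨m, hm, g, hgM, hga⟩
    · rw [hN, hM]
    · exact (htop g hg (hN ▸ ‹IsZGroup N›)).elim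
    · exact (hperm M N hm g hgM hga (by rw [hN, index_top]; norm_num)).elim
  · rcases hM with hM | ⟨g, hg, hgM⟩ | ⟨m, hm, g, hgM, hga⟩
    · exact (htop f hf (hM ▸ ‹IsZGroup M›)).elim
    · rw [← hfN, ← hgM, eq_of_klein hG hf hg]
    · exact (hperm M N hm g hgM hga (hfN ▸ hsmall f hf)).elim
  · rcases hM with hM | ⟨g, hg, hgM⟩ | ⟨m, hm, g, hgM, hga⟩
    · exact (hperm N M hn f hfN hfa (by rw [hM, index_top]; norm_num)).elim
    · exact (hperm N M hn f hfN hfa (hgM ▸ hsmall g hg)).elim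
    · exact le_antisymm (hgM ▸ le_ker_of_alternating hm g hga N)
        (hfN ▸ le_ker_of_alternating hn f hfa M)

theorem exists_hasTop {L : Type*} [Group L] [Finite L] {H : Subgroup L}
    (hH : Cfsg.IsFrobeniusComplement H) (φ : G →* H) (hφ : Function.Injective φ) :
    ∃ N : Subgroup G, N.Normal ∧ IsZGroup N ∧ HasTop N := by
  have hG := pqGroup_of_complement hH φ hφ
  by_cases hs : Group.IsSolvable G
  · by_cases hz : IsZGroup G
    · haveI := hz
      exact ⟨⊤, inferInstance, IsZGroup.of_injective (⊤ : Subgroup G).subtype_injective, Or.inl rfl⟩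
    · haveI := hs
      obtain ⟨N, hNn, hNz, h | ⟨f, hf, hfa⟩⟩ := exists_zQuotient hG hz
      · exact ⟨N, hNn, hNz, Or.inr (Or.inl h)⟩
      · exact ⟨N, hNn, hNz, Or.inr (Or.inr ⟨4, Or.inl rfl, f, hf, hfa⟩)⟩
  · obtain ⟨S, D⟩ := exists_slNormal hs hH φ hφ
    haveI := D.normal
    obtain ⟨M, -, -, -, -, -, hZ⟩ := D.exists_M
    obtain ⟨f, hker, -, hA⟩ := D.exists_perm
    exact ⟨_, inferInstance, hZ, Or.inr (Or.inr ⟨5, Or.inr rfl, f, hker, hA⟩)⟩

theorem range_cases {n : ℕ} (hn : 2 ≤ n) (f : G →* Equiv.Perm (Fin n))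
    (hf : alternatingGroup (Fin n) ≤ f.range) :
    Function.Surjective f ∨
      ∃ g : G →* alternatingGroup (Fin n), Function.Surjective g ∧ g.ker = f.ker := by
  haveI : Nontrivial (Fin n) := Fin.nontrivial_iff_two_le.2 hn
  have h2 : (alternatingGroup (Fin n)).index = 2 := alternatingGroup.index_eq_two
  rcases (Nat.dvd_prime Nat.prime_two).1 (h2 ▸ Subgroup.index_dvd_of_le hf) with h | h
  · exact Or.inl (MonoidHom.range_eq_top.1 (Subgroup.index_eq_one.1 h))
  · have heq := Equiv.Perm.eq_alternatingGroup_of_index_eq_two h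
    refine Or.inr ⟨f.codRestrict _ fun g => heq ▸ ⟨g, rfl⟩, ?_, ?_⟩
    · rintro ⟨w, hw⟩
      obtain ⟨g, rfl⟩ := hf hw
      exact ⟨g, rfl⟩
    · exact MonoidHom.ker_codRestrict _ _ _

end Cfsg.Agent.H78.Zass
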