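import Cfsg.Agent.H78.Zass.Perfect
import Mathlib.Data.Set.Card
import Mathlib.RingTheory.ZMod.UnitsCyclic
import Mathlib.Tactic.Ring
import Mathlib.Tactic.FieldSimp

/-!
# Counting conjugates of trivial-intersection sets; the components of odd order
-/

set_option autoImplicit false
set_option linter.unusedSectionVars false
set_option linter.style.haveILetI false

namespace Cfsg.Agent.H78.Zass

open Subgroup

variable {G : Type*} [Group G] [Finite G]

/-- The union of the conjugates of a set. -/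
def conjUnion (S : Set G) : Set G := {t | ∃ g : G, ∃ s ∈ S, g * s * g⁻¹ = t}

theorem mem_conjUnion_self {S : Set G} {s : G} (hs : s ∈ S) : s ∈ conjUnion S :=
  ⟨1, s, hs, by group⟩

theorem conjUnion_conj {S : Set G} {t : G} (ht : t ∈ conjUnion S) (g : G) :
    g * t * g⁻¹ ∈ conjUnion S := by
  obtain ⟨h, s, hs, rfl⟩ := ht
  exact ⟨g * h, s, hs, by group⟩

/-- The number of elements in the conjugates of a trivial intersection set. -/
theorem ncard_conjUnion {S : Set G} {H : Subgroup G} (hH : ∀ h ∈ H, ∀ s ∈ S, h * s * h⁻¹ ∈ S)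
    (hTI : ∀ g : G, ∀ s ∈ S, g * s * g⁻¹ ∈ S → g ∈ H) :
    (conjUnion S).ncard * Nat.card H = Nat.card G * S.ncard := by
  classical
  let f : G × S → conjUnion S := fun x => ⟨x.1 * x.2 * x.1⁻¹, x.1, x.2, x.2.2, rfl⟩
  have hfib : ∀ t : conjUnion S, Nat.card {x // f x = t} = Nat.card H := by
    rintro ⟨t, g₀, s₀, hs₀, rfl⟩
    symm
    refine Nat.card_eq_of_bijective (fun h : H => (⟨(g₀ * (h : G), ⟨(h : G)⁻¹ * s₀ * h, by
      simpa using hH _ (inv_mem h.2) s₀ hs₀⟩), Subtype.ext (by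
        show g₀ * h * ((h : G)⁻¹ * s₀ * h) * (g₀ * h)⁻¹ = g₀ * s₀ * g₀⁻¹
        group)⟩ : {x // f x = ⟨g₀ * s₀ * g₀⁻¹, g₀, s₀, hs₀, rfl⟩})) ⟨?_, ?_⟩
    · intro h h' e
      have := congrArg (fun x : {x // f x = _} => x.1.1) e
      exact Subtype.ext (mul_left_cancel this)
    · rintro ⟨⟨g, s⟩, hx⟩
      have he : g * (s : G) * g⁻¹ = g₀ * s₀ * g₀⁻¹ := congrArg Subtype.val hx
      have hmem : g₀⁻¹ * g ∈ H := by
        refine hTI _ s s.2 ?_
        rw [show g₀⁻¹ * g * s * (g₀⁻¹ * g)⁻¹ = g₀⁻¹ * (g * s * g⁻¹) * g₀ by group, he,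
          show g₀⁻¹ * (g₀ * s₀ * g₀⁻¹) * g₀ = s₀ by group]
        exact hs₀
      refine ⟨⟨_, hmem⟩, Subtype.ext (Prod.ext (by simp) (Subtype.ext ?_))⟩
      show (g₀⁻¹ * g)⁻¹ * s₀ * (g₀⁻¹ * g) = s
      rw [show (g₀⁻¹ * g)⁻¹ * s₀ * (g₀⁻¹ * g) = g⁻¹ * (g₀ * s₀ * g₀⁻¹) * g by group, ← he]
      group
  have h1 := Nat.card_congr (Equiv.sigmaFiberEquiv f).symm
  rw [Nat.card_prod, Nat.card_coe_set_eq] at h1
  rw [h1]
  cases nonempty_fintype (conjUnion S)
  rw [Nat.card_sigma, Finset.sum_congr rfl fun t _ => hfib t, Finset.sum_const, Finset.card_univ,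
    smul_eq_mul, ← Nat.card_eq_fintype_card, Nat.card_coe_set_eq]

theorem ncard_conjUnion_eq {S : Set G} {H : Subgroup G} (hH : ∀ h ∈ H, ∀ s ∈ S, h * s * h⁻¹ ∈ S)
    (hTI : ∀ g : G, ∀ s ∈ S, g * s * g⁻¹ ∈ S → g ∈ H) :
    ((conjUnion S).ncard : ℚ) = Nat.card G * ((S.ncard : ℚ) / Nat.card H) := by
  have hpos : (Nat.card H : ℚ) ≠ 0 := Nat.cast_ne_zero.2 Nat.card_pos.ne'
  rw [← mul_div_assoc, eq_div_iff hpos]
  exact_mod_cast ncard_conjUnion hH hTI

/-- If a set is small, there is an element outside it and different from two given ones. -/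
theorem exists_notMem_of_ncard {U : Set G} {z : G} (h : (U.ncard : ℚ) + 2 < Nat.card G) :
    ∃ v : G, v ∉ U ∧ v ≠ 1 ∧ v ≠ z := by
  by_contra hno
  push Not at hno
  have hsub : (Set.univ : Set G) ⊆ U ∪ {1, z} := fun v _ => by
    by_cases h1 : v ∈ U
    · exact Or.inl h1
    by_cases h2 : v = 1
    · exact Or.inr (Or.inl h2)
    · exact Or.inr (Or.inr (hno v h1 h2))
  have h3 := (Set.ncard_le_ncard hsub (Set.toFinite _)).trans (Set.ncard_union_le _ _)
  rw [Set.ncard_univ] at h3
  have h4 : ({1, z} : Set G).ncard ≤ 2 := (Set.ncard_insert_le _ _).trans (by simp)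
  have h5 : (Nat.card G : ℚ) ≤ (U.ncard : ℚ) + 2 := by exact_mod_cast (by omega : Nat.card G ≤ U.ncard + 2)
  linarith

/-- The odd part and the 2-part of an element. -/
theorem exists_parts (g : G) : ∃ o ∈ zpowers g, ∃ h ∈ zpowers g,
    o * h = g ∧ Odd (orderOf o) ∧ ∃ e, orderOf h = 2 ^ e := by
  obtain ⟨e, N, hN, heN⟩ :=
    Nat.exists_eq_pow_mul_and_not_dvd (orderOf_pos g).ne' 2 (by norm_num)
  have hco : Nat.Coprime (2 ^ e) N := (Nat.prime_two.coprime_iff_not_dvd.2 hN).pow_left e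
  have hg1 : g = (g ^ 2 ^ e) ^ Nat.gcdA (2 ^ e) N * (g ^ N) ^ Nat.gcdB (2 ^ e) N := by
    have hb := Nat.gcd_eq_gcd_ab (2 ^ e) N
    rw [hco.gcd_eq_one] at hb
    rw [← zpow_natCast, ← zpow_natCast, ← zpow_mul, ← zpow_mul, ← zpow_add, ← hb]
    simp
  refine ⟨_, zpow_mem (pow_mem (mem_zpowers g) _) _, _, zpow_mem (pow_mem (mem_zpowers g) _) _,
    hg1.symm, ?_, ?_⟩
  · have h1 : ((g ^ 2 ^ e) ^ Nat.gcdA (2 ^ e) N) ^ N = 1 := by
      rw [← zpow_natCast, ← zpow_mul, mul_comm, zpow_mul, zpow_natCast, ← pow_mul, ← heN,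
        pow_orderOf_eq_one, one_zpow]
    have hNodd : Odd N := Nat.odd_iff.2 (by omega)
    exact hNodd.of_dvd_nat (orderOf_dvd_of_pow_eq_one h1)
  · have h1 : ((g ^ N) ^ Nat.gcdB (2 ^ e) N) ^ 2 ^ e = 1 := by
      rw [← zpow_natCast, ← zpow_mul, mul_comm, zpow_mul, zpow_natCast, ← pow_mul, mul_comm N,
        ← heN, pow_orderOf_eq_one, one_zpow]
    obtain ⟨i, -, hi⟩ := (Nat.dvd_prime_pow Nat.prime_two).1 (orderOf_dvd_of_pow_eq_one h1)
    exact ⟨i, hi⟩

/-- A power of prime order. -/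
theorem exists_prime_power_mem {g : G} (hg : g ≠ 1) :
    ∃ y ∈ zpowers g, (orderOf y).Prime ∧ orderOf y ∣ orderOf g := by
  have h1 : orderOf g ≠ 1 := fun h => hg (orderOf_eq_one_iff.1 h)
  refine ⟨g ^ (orderOf g / (orderOf g).minFac), pow_mem (mem_zpowers g) _, ?_⟩
  rw [orderOf_pow_orderOf_div (orderOf_pos g).ne' (Nat.minFac_dvd _)]
  exact ⟨Nat.minFac_prime h1, Nat.minFac_dvd _⟩

theorem exists_odd_prime_power_mem {g : G} (hg : g ≠ 1) (ho : Odd (orderOf g)) :
    ∃ y ∈ zpowers g, (orderOf y).Prime ∧ orderOf y ≠ 2 := by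
  obtain ⟨y, hy, hp, hd⟩ := exists_prime_power_mem hg
  refine ⟨y, hy, hp, fun h => ?_⟩
  have h1 := ho.of_dvd_nat hd
  rw [h, Nat.odd_iff] at h1
  omega

theorem commute_of_mem_zpowers {g y : G} (h : y ∈ zpowers g) {w : G} (hc : Commute g w) :
    Commute y w := by
  obtain ⟨j, rfl⟩ := mem_zpowers_iff.1 h
  exact hc.zpow_left j

namespace PQGroup

variable (hG : PQGroup G)
include hG

theorem zpowers_eq_of_commute {x y : G} {p : ℕ} (hp : p.Prime) (hc : Commute x y)
    (hx : orderOf x = p) (hy : orderOf y = p) : zpowers x = zpowers y := by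
  by_contra hne
  have hd2 : zpowers x ⊓ zpowers y = ⊥ := by
    rw [eq_bot_iff]
    intro g hg
    rw [mem_bot]
    by_contra hg1
    have hgo : orderOf g = p := (hp.eq_one_or_self_of_dvd _ (hx ▸ Nat.card_zpowers x ▸
      Subgroup.orderOf_dvd_natCard _ hg.1)).resolve_left fun h => hg1 (orderOf_eq_one_iff.1 h)
    exact hne ((zpowers_eq_of_mem hp hx hgo hg.1).symm.trans (zpowers_eq_of_mem hp hy hgo hg.2))
  have hle : zpowers y ≤ normalizer (zpowers x : Set G) :=
    zpowers_le.2 (centralizer_le_normalizer_zpowers x (mem_centralizer_of_commute hc.symm))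
  have hcard := Coprime.card_sup hle hd2
  rw [Nat.card_zpowers, Nat.card_zpowers, hx, hy] at hcard
  haveI := hG.cyclic _ p p hp hp hcard
  exact hne (H41.eq_of_card_eq_of_le_cyclic (C := zpowers x ⊔ zpowers y) inferInstance
    le_sup_left le_sup_right (by rw [Nat.card_zpowers, Nat.card_zpowers, hx, hy]))

/-- Commuting 2-elements of equal order generate the same subgroup. -/
theorem zpowers_eq_of_commute_two {x y : G} {m : ℕ} (hc : Commute x y)
    (hx : orderOf x = 2 ^ m) (hy : orderOf y = 2 ^ m) : zpowers x = zpowers y := by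
  haveI : Fact (Nat.Prime 2) := ⟨Nat.prime_two⟩
  have hT : IsPGroup 2 ↥(zpowers x ⊔ zpowers y) :=
    IsPGroup.to_sup_of_normal_left' (IsPGroup.of_card (n := m) (by rw [Nat.card_zpowers, hx]))
      (IsPGroup.of_card (n := m) (by rw [Nat.card_zpowers, hy]))
      (zpowers_le.2 (centralizer_le_normalizer_zpowers x (mem_centralizer_of_commute hc.symm)))
  by_cases hcyc : IsCyclic ↥(zpowers x ⊔ zpowers y)
  · exact H41.eq_of_card_eq_of_le_cyclic hcyc le_sup_left le_sup_right
      (by rw [Nat.card_zpowers, Nat.card_zpowers, hx, hy])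
  exfalso
  obtain ⟨i, hi, j, hj, hij⟩ := hG.hasQPair_of_not_cyclic hT hcyc
  refine hij.not_commute ?_
  have hab : zpowers x ⊔ zpowers y ≤ centralizer ({i} : Set G) := by
    have hxy : ∀ u : G, Commute x u → Commute y u →
        zpowers x ⊔ zpowers y ≤ centralizer ({u} : Set G) := fun u h1 h2 =>
      sup_le (zpowers_le.2 (mem_centralizer_of_commute h1)) (zpowers_le.2 (mem_centralizer_of_commute h2))
    have hxi : Commute x i :=
      (mem_centralizer_singleton_iff.1 (hxy x (Commute.refl x) hc.symm hi) : _).symm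
    have hyi : Commute y i :=
      (mem_centralizer_singleton_iff.1 (hxy y hc (Commute.refl y) hi) : _).symm
    exact hxy i hxi hyi
  exact mem_centralizer_singleton_iff.1 (hab hj)

/-- The elements of odd order of a subgroup without quaternion pairs form a subgroup. -/
theorem exists_oddPart {H : Subgroup G} (hH : ¬ HasQPair H) :
    ∃ K ≤ H, Odd (Nat.card K) ∧ ∀ g ∈ H, (g ∈ K ↔ Odd (orderOf g)) := by
  by_cases h2 : 2 ∣ Nat.card H
  swap
  · have hodd : Odd (Nat.card H) := Nat.odd_iff.2 (by omega)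
    exact ⟨H, le_rfl, hodd, fun g hg =>
      ⟨fun _ => hodd.of_dvd_nat (Subgroup.orderOf_dvd_natCard _ hg), fun _ => hg⟩⟩
  haveI : Fact (Nat.Prime 2) := ⟨Nat.prime_two⟩
  have hmin : (Nat.card H).minFac = 2 := (Nat.minFac_eq_two_iff _).2 h2
  haveI := hG.isZGroup_of_not_hasQPair hH
  obtain ⟨P⟩ : Nonempty (Sylow 2 H) := inferInstance
  have hP : IsCyclic (P : Subgroup H) := inferInstance
  have hc := hP.isComplement' (P := P) hmin
  set K := (MonoidHom.transferSylow P (hP.normalizer_le_centralizer hmin)).ker with hK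
  have hidx : K.index = Nat.card (P : Subgroup H) := hc.symm.index_eq_card
  have hKodd : Odd (Nat.card K) := by
    rw [Nat.odd_iff]
    by_contra h
    have h1 := K.card_mul_index
    rw [hidx, Sylow.card_eq_multiplicity] at h1
    apply Nat.pow_succ_factorization_not_dvd (Nat.card_pos (α := H)).ne' Nat.prime_two
    set k := (Nat.card H).factorization 2
    rw [← h1, pow_succ, mul_comm]
    exact mul_dvd_mul (by omega) dvd_rfl
  refine ⟨K.map H.subtype, map_subtype_le _, ?_, fun g hg => ⟨?_, fun ho => ?_⟩⟩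
  · rwa [Subgroup.card_map_of_injective H.subtype_injective]
  · rintro ⟨w, hw, rfl⟩
    show Odd (orderOf (w : G))
    rw [orderOf_coe]
    exact hKodd.of_dvd_nat (Subgroup.orderOf_dvd_natCard _ hw)
  · refine ⟨⟨g, hg⟩, ?_, rfl⟩
    rw [hK]
    refine (MonoidHom.mem_ker).2 ?_
    rw [← orderOf_eq_one_iff]
    have h1 : orderOf (MonoidHom.transferSylow P (hP.normalizer_le_centralizer hmin) ⟨g, hg⟩) ∣
        orderOf g :=
      (orderOf_map_dvd _ _).trans (dvd_of_eq (orderOf_coe (⟨g, hg⟩ : H)).symm)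
    obtain ⟨n, hn⟩ := IsPGroup.iff_orderOf.1 P.2
      (MonoidHom.transferSylow P (hP.normalizer_le_centralizer hmin) ⟨g, hg⟩)
    rw [hn]
    rcases n with _ | n
    · rfl
    · exfalso
      have h3 := ho.of_dvd_nat ((dvd_pow_self 2 (Nat.succ_ne_zero n)).trans (hn ▸ h1))
      exact absurd h3 (by decide)

/-- A commuting element of 2-power order of `y` is trivial or the involution, if no element of
order four commutes with `y`. -/
theorem sq_eq_one_of_noFour {y h : G} (hno : ∀ u : G, orderOf u = 4 → ¬ Commute u y)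
    (hc : Commute h y) {e : ℕ} (he : orderOf h = 2 ^ e) : h ^ 2 = 1 := by
  have h1 : e ≤ 1 := by
    by_contra hlt
    refine hno (h ^ 2 ^ (e - 2)) ?_ (hc.pow_left _)
    rw [orderOf_pow_of_dvd (by positivity) (he ▸ pow_dvd_pow 2 (by omega)), he,
      Nat.pow_div (by omega) two_pos, show e - (e - 2) = 2 by omega]
    norm_num
  refine orderOf_dvd_iff_pow_eq_one.1 (he ▸ ?_)
  exact (pow_dvd_pow 2 h1).trans (dvd_of_eq (pow_one 2))

theorem noQPair_of_noFour {y : G} (hno : ∀ u : G, orderOf u = 4 → ¬ Commute u y) :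
    ¬ HasQPair (centralizer ({y} : Set G)) := fun ⟨i, hi, _, _, hij⟩ =>
  hno i hij.1 (mem_centralizer_singleton_iff.1 hi)

theorem eq_one_or_eq_of_sq {g z : G} (hz : orderOf z = 2) (hg : g ^ 2 = 1) : g = 1 ∨ g = z := by
  refine or_iff_not_imp_left.2 fun h1 => hG.involution_unique ?_ hz
  exact orderOf_eq_prime hg h1

variable (hperf : commutator G = ⊤) (hIH : SubSL G)
include hperf hIH

/-- If two elements of odd prime order commute and neither commutes with an element of order
four, their centralizers agree. -/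
theorem centralizer_le_of_noFour {w y : G} (hp : Odd (orderOf y)) (hpw : Odd (orderOf w))
    (hc : Commute w y) (hno : ∀ u : G, orderOf u = 4 → ¬ Commute u y) :
    centralizer ({y} : Set G) ≤ centralizer ({w} : Set G) := by
  intro g hg
  have hgy : Commute g y := mem_centralizer_singleton_iff.1 hg
  obtain ⟨K, hK, hKodd, hKiff⟩ := hG.exists_oddPart (hG.noQPair_of_noFour hno)
  haveI := hG.isCyclic_of_odd hperf hIH hKodd
  obtain ⟨o, ho, h, hh, hoh, hoo, e, he⟩ := exists_parts g
  have hwK : w ∈ K := (hKiff w (mem_centralizer_of_commute hc)).2 hpw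
  have hoK : o ∈ K :=
    (hKiff o (mem_centralizer_of_commute (commute_of_mem_zpowers ho hgy))).2 hoo
  have h1 : Commute o w := by
    letI : CommGroup K := IsCyclic.commGroup
    exact congrArg Subtype.val (mul_comm (⟨o, hoK⟩ : K) ⟨w, hwK⟩)
  have h2 : Commute h w := by
    by_cases h0 : h = 1
    · rw [h0]; exact Commute.one_left w
    exact (hG.commute_involution (orderOf_eq_prime
      (hG.sq_eq_one_of_noFour hno (commute_of_mem_zpowers hh hgy) he) h0) w).symm
  exact mem_centralizer_of_commute (hoh ▸ h1.mul_left h2)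

end PQGroup

/-- An element of odd prime order none of whose commuting prime-order elements commutes with an
element of order four. -/
structure Comp (y : G) : Prop where
  prime : (orderOf y).Prime
  ne_two : orderOf y ≠ 2
  noFour : ∀ w : G, Commute w y → (orderOf w).Prime → orderOf w ≠ 2 →
    ∀ u : G, orderOf u = 4 → ¬ Commute u w

/-- The nontrivial part of the centralizer. -/
def compSet (y : G) : Set G := {v | Commute v y ∧ v ^ 2 ≠ 1}

namespace Comp

variable {y : G} (hy : Comp y)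
include hy

theorem noFour' : ∀ u : G, orderOf u = 4 → ¬ Commute u y :=
  hy.noFour y (Commute.refl y) hy.prime hy.ne_two

theorem odd : Odd (orderOf y) := hy.prime.odd_of_ne_two hy.ne_two

variable (hG : PQGroup G) (hperf : commutator G = ⊤) (hIH : SubSL G)
include hG hperf hIH

theorem centralizer_eq {w : G} (hc : Commute w y) (hp : (orderOf w).Prime) (h2 : orderOf w ≠ 2) :
    centralizer ({w} : Set G) = centralizer ({y} : Set G) :=
  le_antisymm
    (hG.centralizer_le_of_noFour hperf hIH (hp.odd_of_ne_two h2) hy.odd hc.symm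
      (hy.noFour w hc hp h2))
    (hG.centralizer_le_of_noFour hperf hIH hy.odd (hp.odd_of_ne_two h2) hc hy.noFour')

theorem exists_prime_mem {v : G} (hv : v ∈ compSet y) :
    ∃ w ∈ zpowers v, (orderOf w).Prime ∧ orderOf w ≠ 2 ∧
      centralizer ({w} : Set G) = centralizer ({y} : Set G) := by
  obtain ⟨o, ho, h, hh, hoh, hoo, e, he⟩ := exists_parts v
  have ho1 : o ≠ 1 := by
    intro h1
    rw [h1, one_mul] at hoh
    subst hoh
    exact hv.2 (hG.sq_eq_one_of_noFour hy.noFour' hv.1 he)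
  obtain ⟨w, hw, hwp, hw2⟩ := exists_odd_prime_power_mem ho1 hoo
  have hwv : w ∈ zpowers v := zpowers_le.2 ho hw
  exact ⟨w, hwv, hwp, hw2,
    hy.centralizer_eq hG hperf hIH (commute_of_mem_zpowers hwv hv.1) hwp hw2⟩

theorem compSet_TI (g v : G) (hv : v ∈ compSet y) (hgv : g * v * g⁻¹ ∈ compSet y) :
    g ∈ normalizer (zpowers y : Set G) := by
  obtain ⟨w, hw, hwp, hw2, hwC⟩ := hy.exists_prime_mem hG hperf hIH hv
  set w' := g * w * g⁻¹ with hw'
  have hw'o : orderOf w' = orderOf w :=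
    orderOf_injective (MulAut.conj g).toMonoidHom (MulAut.conj g).injective w
  have hw'y : Commute w' y := by
    refine commute_of_mem_zpowers ?_ hgv.1
    obtain ⟨j, rfl⟩ := mem_zpowers_iff.1 hw
    exact ⟨j, conj_zpow⟩
  have hC' := hy.centralizer_eq hG hperf hIH hw'y (hw'o ▸ hwp) (hw'o ▸ hw2)
  have h1 : Commute y w := by
    have : y ∈ centralizer ({w} : Set G) := by
      rw [hwC]; exact mem_centralizer_of_commute (Commute.refl y)
    exact mem_centralizer_singleton_iff.1 this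
  have h2 : g * y * g⁻¹ ∈ centralizer ({y} : Set G) := by
    rw [← hC']
    exact mem_centralizer_of_commute (h1.map (MulAut.conj g).toMonoidHom)
  rw [mem_normalizer_zpowers_iff, ← hG.zpowers_eq_of_commute hy.prime
    (mem_centralizer_singleton_iff.1 h2)
    (orderOf_injective (MulAut.conj g).toMonoidHom (MulAut.conj g).injective y) rfl]
  exact mem_zpowers _

omit hG hperf hIH in
theorem compSet_conj (g v : G) (hg : g ∈ normalizer (zpowers y : Set G)) (hv : v ∈ compSet y) :
    g * v * g⁻¹ ∈ compSet y := by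
  obtain ⟨j, hj⟩ := mem_zpowers_iff.1 (mem_normalizer_zpowers_iff.1 (inv_mem hg))
  rw [inv_inv] at hj
  refine ⟨?_, fun h => hv.2 ?_⟩
  · show g * v * g⁻¹ * y = y * (g * v * g⁻¹)
    calc g * v * g⁻¹ * y = g * (v * (g⁻¹ * y * g)) * g⁻¹ := by group
      _ = g * ((g⁻¹ * y * g) * v) * g⁻¹ := by rw [← hj, (hv.1.zpow_right j).eq]
      _ = y * (g * v * g⁻¹) := by group
  · rwa [conj_pow, conj_eq_one_iff] at h

/-- The data of a component: `|C(y)| = 2b`, `|N(y)| = 2be` with `e` a power of two, realized by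
the conjugation action of a 2-element. -/
theorem exists_data {z : G} (hz : orderOf z = 2) :
    ∃ b e : ℕ, Odd b ∧ orderOf y ∣ b ∧ Nat.card (centralizer ({y} : Set G)) = 2 * b ∧
      Nat.card (normalizer (zpowers y : Set G)) = 2 * b * e ∧ (compSet y).ncard = 2 * b - 2 ∧
      (∃ m, e = 2 ^ m ∧ 1 ≤ m) ∧
      ∃ h a t, h * y * h⁻¹ = y ^ a ∧ orderOf h = 2 ^ t ∧ 2 * e ∣ orderOf h ∧
        orderOf ((a : ℕ) : ZMod (orderOf y)) = e := by
  haveI : Fact (Nat.Prime 2) := ⟨Nat.prime_two⟩
  haveI := Fact.mk hy.prime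
  obtain ⟨K, hK, hKodd, hKiff⟩ := hG.exists_oddPart (hG.noQPair_of_noFour hy.noFour')
  set C := centralizer ({y} : Set G) with hC
  have hzC : z ∈ C := mem_centralizer_of_commute (hG.commute_involution hz y).symm
  have hsup : K ⊔ zpowers z = C := by
    refine le_antisymm (sup_le hK (zpowers_le.2 hzC)) fun g hg => ?_
    obtain ⟨o, ho, h, hh, hoh, hoo, e, he⟩ := exists_parts g
    have hgy : Commute g y := mem_centralizer_singleton_iff.1 hg
    rw [← hoh]
    refine mul_mem (mem_sup_left ((hKiff o (mem_centralizer_of_commute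
      (commute_of_mem_zpowers ho hgy))).2 hoo)) ?_
    rcases hG.eq_one_or_eq_of_sq hz
      (hG.sq_eq_one_of_noFour hy.noFour' (commute_of_mem_zpowers hh hgy) he) with rfl | rfl
    · exact one_mem _
    · exact mem_sup_right (mem_zpowers _)
  set b := Nat.card K with hb
  have hzK : z ∉ K := fun h => by
    have := (hKiff z hzC).1 h
    rw [hz] at this
    exact absurd this (by decide)
  have hd : K ⊓ zpowers z = ⊥ := by
    refine Coprime.inf_eq_bot ?_
    rw [Nat.card_zpowers, hz]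
    exact Nat.coprime_two_right.2 hKodd
  have hcard : Nat.card C = 2 * b := by
    rw [← hsup, Coprime.card_sup (zpowers_le.2 (mem_normalizer_iff.2 fun n => by
      rw [← (hG.commute_involution hz n).eq, mul_inv_cancel_right])) hd, Nat.card_zpowers, hz,
      mul_comm]
  have hyb : orderOf y ∣ b := Subgroup.orderOf_dvd_natCard _
    ((hKiff y (mem_centralizer_of_commute (Commute.refl y))).2 hy.odd)
  have hset : compSet y = (C : Set G) \ {1, z} := by
    ext v
    simp only [compSet, Set.mem_setOf_eq, Set.mem_diff, SetLike.mem_coe, Set.mem_insert_iff,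
      Set.mem_singleton_iff]
    constructor
    · rintro ⟨h1, h2⟩
      refine ⟨mem_centralizer_of_commute h1, ?_⟩
      rintro (rfl | rfl)
      · exact h2 (one_pow 2)
      · exact h2 (hz ▸ pow_orderOf_eq_one v)
    · rintro ⟨h1, h2⟩
      exact ⟨mem_centralizer_singleton_iff.1 h1, fun h => h2 (hG.eq_one_or_eq_of_sq hz h)⟩
  have hcs : (compSet y).ncard = 2 * b - 2 := by
    have hz1 : (1 : G) ≠ z := fun h => by rw [← h, orderOf_one] at hz; omega
    rw [hset, Set.ncard_sdiff (by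
      rintro v (rfl | rfl)
      · exact one_mem C
      · exact hzC), Set.ncard_pair hz1, ← Nat.card_coe_set_eq]
    rw [show Nat.card ((C : Set G) : Type _) = Nat.card C from rfl, hcard]
  -- the action of the normalizer
  set N := normalizer (zpowers y : Set G) with hN
  let φ : N →* MulAut (zpowers y) := (zpowers y).normalizerMonoidHom
  have hφ : ∀ g : N, φ g = 1 ↔ Commute (g : G) y := by
    intro g
    constructor
    · intro h
      have h1 : (g : G) * y * (g : G)⁻¹ = y :=
        congrArg Subtype.val (DFunLike.congr_fun h (⟨y, mem_zpowers y⟩ : zpowers y))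
      exact mul_inv_eq_iff_eq_mul.1 h1
    · intro h
      refine MulEquiv.ext fun w => Subtype.ext ?_
      show (g : G) * w * (g : G)⁻¹ = w
      obtain ⟨j, hj⟩ := mem_zpowers_iff.1 w.2
      rw [← hj, (h.zpow_right j).eq, mul_inv_cancel_right]
  have hker : φ.ker = C.subgroupOf N := by
    ext g
    rw [MonoidHom.mem_ker, hφ, mem_subgroupOf]
    exact ⟨mem_centralizer_of_commute, mem_centralizer_singleton_iff.1⟩
  haveI : IsCyclic (MulAut (zpowers y)) := by
    have : IsCyclic (ZMod (Nat.card (zpowers y)))ˣ := by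
      rw [Nat.card_zpowers]
      exact ZMod.isCyclic_units_prime hy.prime
    exact (IsCyclic.mulAutMulEquiv (zpowers y)).isCyclic.2 this
  obtain ⟨⟨_, g, rfl⟩, hgen⟩ := (inferInstance : IsCyclic φ.range).exists_generator
  obtain ⟨o, ho, h, hh, hoh, hoo, t, ht⟩ := exists_parts (g : G)
  have hhN : h ∈ N := zpowers_le.2 g.2 hh
  have hoN : o ∈ N := zpowers_le.2 g.2 ho
  have hgh : φ g = φ ⟨h, hhN⟩ := by
    rw [show g = ⟨o, hoN⟩ * ⟨h, hhN⟩ from Subtype.ext hoh.symm, map_mul, (hφ ⟨o, hoN⟩).2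
      (hG.commute_odd hperf hIH hy.prime hy.ne_two rfl (mem_normalizer_zpowers_iff.1 hoN) hoo),
      one_mul]
  obtain ⟨a, ha⟩ := exists_conj_eq_pow (mem_normalizer_zpowers_iff.1 hhN)
  set e := orderOf (φ ⟨h, hhN⟩) with hedef
  have hrange : Nat.card φ.range = e := by
    have h1 : Nat.card (⊤ : Subgroup φ.range) = orderOf (⟨φ g, g, rfl⟩ : φ.range) := by
      rw [← Nat.card_zpowers]
      rw [(Subgroup.eq_top_iff' _).2 hgen]
    rw [card_top, ← orderOf_coe] at h1
    rw [h1, hedef, ← hgh]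
  have hNcard : Nat.card N = 2 * b * e := by
    rw [← hrange, ← hcard, ← index_ker, hker,
      ← Nat.card_congr (Subgroup.subgroupOfEquivOfLe (centralizer_le_normalizer_zpowers y)).toEquiv]
    exact (Subgroup.card_mul_index _).symm
  have hpow : ∀ m : ℕ, φ ⟨h, hhN⟩ ^ m = 1 ↔ Commute (h ^ m) y := fun m => by
    rw [← map_pow, hφ]
    rfl
  have hae : orderOf ((a : ℕ) : ZMod (orderOf y)) = e := by
    refine orderOf_eq_orderOf_iff.2 fun m => ?_
    rw [hpow m, ← Nat.cast_pow, ← Nat.cast_one, ZMod.natCast_eq_natCast_iff,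
      ← pow_eq_pow_iff_modEq, pow_one, ← conj_pow_eq ha m, mul_inv_eq_iff_eq_mul]
    exact Iff.rfl
  have he_dvd : e ∣ orderOf h := orderOf_dvd_of_pow_eq_one (by
    rw [hpow, pow_orderOf_eq_one]; exact Commute.one_left y)
  obtain ⟨m, -, hm⟩ := (Nat.dvd_prime_pow Nat.prime_two).1 (ht ▸ he_dvd)
  have hm1 : 1 ≤ m := by
    rcases Nat.eq_zero_or_pos m with rfl | h0
    · exfalso
      obtain ⟨s, hs, hsy⟩ := hG.exists_not_commute hperf hy.prime hy.ne_two rfl
      refine hsy ((hφ ⟨s, mem_normalizer_zpowers_iff.2 hs⟩).1 ?_)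
      have h1 : (⟨φ ⟨s, mem_normalizer_zpowers_iff.2 hs⟩, _, rfl⟩ : φ.range) = 1 := by
        haveI : Subsingleton φ.range :=
          (Nat.card_eq_one_iff_unique.1 (hrange.trans (by rw [hm, pow_zero]))).1
        exact Subsingleton.elim _ _
      exact congrArg Subtype.val h1
    · exact h0
  have h2e : 2 * e ∣ orderOf h := by
    rcases t with _ | t
    · rw [pow_zero] at ht
      rw [ht, Nat.dvd_one] at he_dvd
      rw [hm] at he_dvd
      have := Nat.one_lt_two_pow (show m ≠ 0 by omega)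
      omega
    have h1 : orderOf (h ^ 2 ^ t) = 2 := by
      rw [orderOf_pow_of_dvd (by positivity) (ht ▸ pow_dvd_pow 2 (by omega)), ht,
        Nat.pow_div (by omega) two_pos, show t + 1 - t = 1 by omega, pow_one]
    have h3 : e ∣ 2 ^ t := orderOf_dvd_of_pow_eq_one ((hpow _).2 (hG.commute_involution h1 y).symm)
    rw [ht, pow_succ, mul_comm (2 ^ t)]
    exact mul_dvd_mul_left 2 h3
  exact ⟨b, e, hKodd, hyb, hcard, hNcard, hcs, ⟨m, hm, hm1⟩, h, a, t, ha, ht, h2e, hae⟩

/-- Two components with a common conjugate element define the same set. -/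
theorem conjUnion_subset {y' : G} (hy' : Comp y') {t : G} (ht : t ∈ conjUnion (compSet y))
    (ht' : t ∈ conjUnion (compSet y')) : conjUnion (compSet y') ⊆ conjUnion (compSet y) := by
  obtain ⟨g, v, hv, rfl⟩ := ht
  obtain ⟨g', v', hv', he⟩ := ht'
  obtain ⟨w, hw, hwp, hw2, hwC⟩ := hy.exists_prime_mem hG hperf hIH hv
  set c := g'⁻¹ * g with hc
  have hvc : c * v * c⁻¹ = v' := by
    rw [hc, show g'⁻¹ * g * v * (g'⁻¹ * g)⁻¹ = g'⁻¹ * (g * v * g⁻¹) * g' by group, ← he]
    group
  have hw'o : orderOf (c * w * c⁻¹) = orderOf w :=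
    orderOf_injective (MulAut.conj c).toMonoidHom (MulAut.conj c).injective w
  have hw'y : Commute (c * w * c⁻¹) y' := by
    refine commute_of_mem_zpowers ?_ hv'.1
    obtain ⟨j, rfl⟩ := mem_zpowers_iff.1 hw
    refine ⟨j, ?_⟩
    show v' ^ j = _
    rw [← hvc, conj_zpow]
  have hC' := hy'.centralizer_eq hG hperf hIH hw'y (hw'o ▸ hwp) (hw'o ▸ hw2)
  rintro s ⟨g'', v'', hv'', rfl⟩
  refine conjUnion_conj (show v'' ∈ conjUnion (compSet y) from
    ⟨c, c⁻¹ * v'' * c, ⟨?_, fun h => hv''.2 ?_⟩, by group⟩) g''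
  · have h1 : v'' ∈ centralizer ({c * w * c⁻¹} : Set G) := by
      rw [hC']; exact mem_centralizer_of_commute hv''.1
    have h1' : Commute v'' (c * w * c⁻¹) := mem_centralizer_singleton_iff.1 h1
    have h2 : Commute (c⁻¹ * v'' * c) w := by
      simpa [mul_assoc] using h1'.map (MulAut.conj c⁻¹).toMonoidHom
    have h3 : c⁻¹ * v'' * c ∈ centralizer ({y} : Set G) := hwC ▸ mem_centralizer_of_commute h2
    exact mem_centralizer_singleton_iff.1 h3
  · have h4 : (c⁻¹ * v'' * c⁻¹⁻¹) ^ 2 = 1 := by rwa [inv_inv]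
    rwa [conj_pow, conj_eq_one_iff] at h4

end Comp

end Cfsg.Agent.H78.Zass
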