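import Cfsg.Agent.H78.Zass.Count
import Mathlib.GroupTheory.Nilpotent

/-!
# An element of odd prime order centralizing a quaternion group: the local structure
-/

set_option autoImplicit false
set_option linter.unusedSectionVars false
set_option linter.style.haveILetI false

namespace Cfsg.Agent.H78.Zass

open Subgroup
open scoped commutatorElement

variable {G : Type*} [Group G] [Finite G]

/-- The local data attached to an element centralizing a quaternion group. -/
structure Frame (x a : G) (W : Subgroup G) : Prop where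
  card_W : Nat.card W = 8
  notCyclic : ¬ IsCyclic W
  cent : ∀ w ∈ W, Commute w x
  conj : ∀ l ∈ normalizer (zpowers x : Set G), ∀ w ∈ W, l * w * l⁻¹ ∈ W
  two_le : ∀ V : Subgroup G, IsPGroup 2 V → (∀ v ∈ V, Commute v x) → V ≤ W
  mem_a : a ∈ normalizer (zpowers x : Set G)
  ord_a : orderOf a = 8
  not_comm : ¬ Commute a x
  sq_a : a ^ 2 ∈ W
  le16 : ∀ V : Subgroup G, IsPGroup 2 V → Nat.card V ≤ 16
  moves : ∃ c : G, Commute c x ∧ c * a ^ 2 * c⁻¹ ∉ zpowers (a ^ 2)
  cent_le : ∀ g : G, Commute g (a ^ 2) → g ∈ normalizer (zpowers x : Set G)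
  decomp : ∀ g ∈ normalizer (zpowers x : Set G),
    Commute g x ∨ ∃ c : G, Commute c x ∧ g = c * a

theorem mem_zpowers_of_sq {o : G} (ho : Odd (orderOf o)) : o ∈ zpowers (o ^ 2) := by
  obtain ⟨m, hm⟩ := ho
  refine ⟨(m + 1 : ℕ), ?_⟩
  show (o ^ 2) ^ ((m + 1 : ℕ) : ℤ) = o
  rw [zpow_natCast, ← pow_mul, show 2 * (m + 1) = orderOf o + 1 by omega, pow_succ,
    pow_orderOf_eq_one, one_mul]

/-- A 2-subgroup of `C` containing a Sylow subgroup equals it. -/
theorem le_of_isPGroup_of_sylow {C : Subgroup G} {p : ℕ} [Fact p.Prime] (S : Sylow p C)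
    {V : Subgroup G} (hV : IsPGroup p V) (hVC : V ≤ C)
    (hSV : (S : Subgroup C).map C.subtype ≤ V) : V ≤ (S : Subgroup C).map C.subtype := by
  have h1 : (S : Subgroup C) ≤ V.comap C.subtype := fun s hs => hSV ⟨s, hs, rfl⟩
  have h2 := S.3 (hV.comap_subtype (K := C)) h1
  intro v hv
  exact ⟨⟨v, hVC hv⟩, h2 ▸ hv, rfl⟩

namespace PQGroup

variable (hG : PQGroup G) (hperf : commutator G = ⊤) (hIH : SubSL G)
include hG hperf hIH

set_option maxHeartbeats 1600000 in
theorem exists_frame {x : G} {q : ℕ} (hq : q.Prime) (hq2 : q ≠ 2) (hx : orderOf x = q)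
    {i j : G} (hij : IsQPair i j) (hi : Commute i x) (hj : Commute j x) :
    ∃ a W, Frame x a W := by
  haveI : Fact (Nat.Prime 2) := ⟨Nat.prime_two⟩
  set L := normalizer (zpowers x : Set G) with hL
  set C := centralizer ({x} : Set G) with hC
  have hCL : C ≤ L := centralizer_le_normalizer_zpowers x
  have hcomm : ∀ g ∈ L, ∀ h ∈ L, Commute ⁅g, h⁆ x := fun g hg h hh =>
    commute_commutator (mem_normalizer_zpowers_iff.1 hg) (mem_normalizer_zpowers_iff.1 hh)
  have hconjC : ∀ l ∈ L, ∀ c, Commute c x → Commute (l * c * l⁻¹) x := by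
    intro l hl c hc
    obtain ⟨m, hm⟩ := mem_zpowers_iff.1 (mem_normalizer_zpowers_iff.1 (inv_mem hl))
    rw [inv_inv] at hm
    show l * c * l⁻¹ * x = x * (l * c * l⁻¹)
    calc l * c * l⁻¹ * x = l * (c * (l⁻¹ * x * l)) * l⁻¹ := by group
      _ = l * ((l⁻¹ * x * l) * c) * l⁻¹ := by rw [← hm, (hc.zpow_right m).eq]
      _ = x * (l * c * l⁻¹) := by group
  have hodd : ∀ u : G, u * x * u⁻¹ ∈ zpowers x → Odd (orderOf u) → Commute u x :=
    fun u hu ho => hG.commute_odd hperf hIH hq hq2 hx hu ho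
  obtain ⟨g₀, hg₀, hg₀x⟩ := hG.exists_not_commute hperf hq hq2 hx
  obtain ⟨h₀, hh₀, hh₀x, e₀, he₀⟩ := hG.exists_two_element hperf hg₀ hg₀x hodd
  -- Sylow subgroups
  have hpair2 : IsPGroup 2 ↥(zpowers i ⊔ zpowers j) :=
    IsPGroup.to_sup_of_normal_left' (IsPGroup.of_card (n := 2) (by rw [Nat.card_zpowers, hij.1]; rfl))
      (IsPGroup.of_card (n := 2) (by rw [Nat.card_zpowers, hij.orderOf_snd]; rfl))
      (zpowers_le.2 (mem_normalizer_zpowers_iff.2 (hij.2.1.symm ▸ inv_mem (mem_zpowers i))))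
  have hpairC : zpowers i ⊔ zpowers j ≤ C :=
    sup_le (zpowers_le.2 (mem_centralizer_of_commute hi)) (zpowers_le.2 (mem_centralizer_of_commute hj))
  obtain ⟨S₁, hS₁⟩ := (hpair2.comap_subtype (K := C)).exists_le_sylow
  set Q1 := (S₁ : Subgroup C).map C.subtype with hQ1
  have hQ12 : IsPGroup 2 Q1 := S₁.2.map _
  have hQ1C : Q1 ≤ C := map_subtype_le _
  have hiQ : i ∈ Q1 := ⟨⟨i, hpairC (mem_sup_left (mem_zpowers i))⟩, hS₁ (mem_sup_left (mem_zpowers i)), rfl⟩
  have hjQ : j ∈ Q1 := ⟨⟨j, hpairC (mem_sup_right (mem_zpowers j))⟩, hS₁ (mem_sup_right (mem_zpowers j)), rfl⟩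
  have hQ1nc : ¬ IsCyclic Q1 := hij.not_isCyclic hiQ hjQ
  obtain ⟨S₂, hS₂⟩ := (hQ12.comap_subtype (K := L)).exists_le_sylow
  set Q' := (S₂ : Subgroup L).map L.subtype with hQ'
  have hQL : Q' ≤ L := map_subtype_le _
  have hQ2 : IsPGroup 2 Q' := S₂.2.map _
  have hQ1Q : Q1 ≤ Q' := fun u hu => ⟨⟨u, hCL (hQ1C hu)⟩, hS₂ hu, rfl⟩
  have hQC : ∀ u, u ∈ Q' → Commute u x → u ∈ Q1 := fun u hu huc =>
    le_of_isPGroup_of_sylow S₁ (hQ2.to_le (inf_le_left : Q' ⊓ C ≤ Q')) inf_le_right
      (le_inf hQ1Q hQ1C) ⟨hu, mem_centralizer_of_commute huc⟩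
  have hmax1 : ∀ V : Subgroup G, IsPGroup 2 V → V ≤ C → Q1 ≤ V → V ≤ Q1 := fun V hV hVC hle =>
    le_of_isPGroup_of_sylow S₁ hV hVC hle
  obtain ⟨a, xq, k, hquat⟩ := hG.exists_quat hQ2 (fun h => hQ1nc
    (isCyclic_of_injective (Subgroup.inclusion hQ1Q) (Subgroup.inclusion_injective hQ1Q)))
  -- conjugating 2-elements of `L` into `Q'`
  have hconjQ : ∀ u ∈ L, (∃ e, orderOf u = 2 ^ e) → ∃ l ∈ L, l * u * l⁻¹ ∈ Q' := by
    rintro u hu ⟨e, he⟩
    have hV : IsPGroup 2 (zpowers u) := IsPGroup.of_card (n := e) (by rw [Nat.card_zpowers, he])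
    obtain ⟨S₃, hS₃⟩ := (hV.comap_subtype (K := L)).exists_le_sylow
    obtain ⟨l, hl⟩ := MulAction.exists_smul_eq L S₃ S₂
    exact ⟨l, l.2, ⟨l * ⟨u, hu⟩ * l⁻¹, hl ▸ ⟨⟨u, hu⟩, hS₃ (mem_zpowers u), rfl⟩, rfl⟩⟩
  obtain ⟨y0, hy0, hy0a⟩ : ∃ y ∈ Q1, y ∉ zpowers a := by
    by_contra hno
    push Not at hno
    exact hQ1nc (isCyclic_of_injective (Subgroup.inclusion (fun s hs => hno s hs))
      (Subgroup.inclusion_injective _))
  have hy0x : Commute y0 x := mem_centralizer_singleton_iff.1 (hQ1C hy0)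
  have ha2 : Commute (a ^ 2) x := by
    have h1 := hcomm y0 (hQL (hQ1Q hy0)) a (hQL hquat.a_mem)
    rw [commutatorElement_def, hquat.conj y0 (hQ1Q hy0) hy0a] at h1
    have h2 := h1.inv_left
    rw [mul_inv_rev, inv_inv] at h2
    rwa [pow_two]
  have hax : ¬ Commute a x := by
    intro hax
    obtain ⟨l, hl, hlQ⟩ := hconjQ h₀ (mem_normalizer_zpowers_iff.2 hh₀) ⟨e₀, he₀⟩
    refine hh₀x ?_
    have h1 : Commute (l * h₀ * l⁻¹) x := by
      rcases hquat.exists_eq_mul hlQ with hla | ⟨d, hd, hde⟩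
      · obtain ⟨m, hm⟩ := mem_zpowers_iff.1 hla
        exact hm ▸ hax.zpow_left m
      · rcases hquat.exists_eq_mul (hQ1Q hy0) with h | ⟨d', hd', hd'e⟩
        · exact absurd h hy0a
        obtain ⟨m, rfl⟩ := mem_zpowers_iff.1 hd
        obtain ⟨m', rfl⟩ := mem_zpowers_iff.1 hd'
        have hxq : xq = a ^ (-m') * y0 := by rw [hd'e]; group
        rw [hde, hxq]
        exact (hax.zpow_left m).mul_left ((hax.zpow_left (-m')).mul_left hy0x)
    have h2 := hconjC l⁻¹ (inv_mem hl) _ h1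
    rwa [show l⁻¹ * (l * h₀ * l⁻¹) * l⁻¹⁻¹ = h₀ by group] at h2
  have hlt : Nat.card Q1 < Nat.card Q' := lt_of_not_ge fun h => hax
    (mem_centralizer_singleton_iff.1 (hQ1C ((eq_of_le_of_card_ge hQ1Q h).symm ▸ hquat.a_mem)))
  have hk : 1 ≤ k := by
    obtain ⟨a₁, x₁, k₁, hquat₁⟩ := hG.exists_quat hQ12 hQ1nc
    rw [hquat.card, hquat₁.card, Nat.pow_lt_pow_iff_right (by norm_num)] at hlt
    omega
  set i0 := a ^ 2 ^ k with hi0
  have hi0x : Commute i0 x := by
    obtain ⟨k', rfl⟩ := Nat.exists_eq_add_of_le hk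
    rw [hi0, pow_add, pow_one, pow_mul]
    exact ha2.pow_left _
  have hi0o : orderOf i0 = 4 := hquat.orderOf_i
  have hi0Q : i0 ∈ Q1 := hQC _ (pow_mem hquat.a_mem _) hi0x
  have hy0o : orderOf y0 = 4 := hquat.orderOf_eq_four (hQ1Q hy0) hy0a
  have hsolC4 : ∀ w : G, orderOf w = 4 → Group.IsSolvable (centralizer ({w} : Set G)) := fun w hw =>
    hG.isSolvable_of_not_hasQPair (hG.not_hasQPair_centralizer_four hw)
  have hinN : ∀ w : G, orderOf w = 4 → Commute w x → ∀ g : G,
      Commute (g * x * g⁻¹) w → g ∈ L := by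
    intro w hw hwx g hgw
    rw [hL, mem_normalizer_zpowers_iff, ← hG.zpowers_eq (hsolC4 w hw) hq hq2
      (Or.inr (hG.not_hasQPair_centralizer_four hw)) (mem_centralizer_of_commute hgw)
      (mem_centralizer_of_commute hwx.symm)
      ((orderOf_injective (MulAut.conj g).toMonoidHom (MulAut.conj g).injective x).trans hx) hx]
    exact mem_zpowers _
  -- `i0` and `y0` are conjugate in `C`
  obtain ⟨g, hg⟩ := hG.exists_conj_four hperf hi0o hy0o
  have hgeq := zpowers_conj_eq hg (hi0o.trans hy0o.symm)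
  have hgL : g ∈ L := by
    refine hinN y0 hy0o hy0x g ?_
    obtain ⟨m, hm⟩ := mem_zpowers_iff.1 (hgeq ▸ mem_zpowers y0 : y0 ∈ zpowers (g * i0 * g⁻¹))
    exact hm ▸ ((hi0x.symm.map (MulAut.conj g).toMonoidHom : Commute (g * x * g⁻¹) (g * i0 * g⁻¹)).zpow_right m)
  have hdec : ∀ g ∈ L, ∃ c, Commute c x ∧ ∃ t ∈ Q', g = c * t := by
    intro g hgL
    obtain ⟨o, ho, h, hh, hoh, hoo, e, he⟩ := exists_parts g
    have hoL : o ∈ L := zpowers_le.2 hgL ho
    have hhL : h ∈ L := zpowers_le.2 hgL hh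
    obtain ⟨l, hl, hlQ⟩ := hconjQ h hhL ⟨e, he⟩
    refine ⟨o * ⁅h, l⁆, (hodd o (mem_normalizer_zpowers_iff.1 hoL) hoo).mul_left (hcomm h hhL l hl),
      l * h * l⁻¹, hlQ, ?_⟩
    rw [← hoh, commutatorElement_def]; group
  obtain ⟨c, hcx, t, ht, hgct⟩ := hdec g hgL
  have hQi : ∀ t ∈ Q', t * i0 * t⁻¹ ∈ zpowers i0 := fun t ht =>
    hquat.conj_i_mem hk (Q'.mul_mem (Q'.mul_mem ht hquat.a_mem) (Q'.inv_mem ht))
  have hci0 : c * i0 * c⁻¹ ∈ zpowers y0 := by
    obtain ⟨m, hm⟩ := mem_zpowers_iff.1 (hQi t⁻¹ (inv_mem ht))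
    rw [inv_inv] at hm
    obtain ⟨n, hn⟩ := mem_zpowers_iff.1 hg
    refine ⟨n * m, ?_⟩
    show y0 ^ (n * m) = c * i0 * c⁻¹
    rw [zpow_mul, hn, conj_zpow, hm, hgct]
    group
  have hmoves : c * i0 * c⁻¹ ∉ zpowers i0 := by
    intro h
    have h1 := zpowers_conj_eq hci0 (hi0o.trans hy0o.symm)
    have h2 := zpowers_conj_eq h rfl
    exact hy0a (zpowers_le.2 (pow_mem (mem_zpowers a) _) ((h1.symm.trans h2) ▸ mem_zpowers y0))
  -- no cyclic subgroup of order four is normal in `C`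
  have hnofour : ∀ u : G, orderOf u = 4 → Commute u x →
      (∀ t, Commute t x → t * u * t⁻¹ ∈ zpowers u) → False := by
    intro u hu hux hun
    have huQ : u ∈ Q1 := by
      have hsup : IsPGroup 2 ↥(zpowers u ⊔ Q1) :=
        IsPGroup.to_sup_of_normal_left' (IsPGroup.of_card (n := 2) (by rw [Nat.card_zpowers, hu]; rfl))
          hQ12 (fun t ht => mem_normalizer_zpowers_iff.2 (hun t (mem_centralizer_singleton_iff.1 (hQ1C ht))))
      exact hmax1 _ hsup (sup_le (zpowers_le.2 (mem_centralizer_of_commute hux)) hQ1C) le_sup_right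
        (mem_sup_left (mem_zpowers u))
    have hua : u ∉ zpowers a := by
      intro h
      have h1 : zpowers u = zpowers i0 := hquat.zpowers_i_unique h hu
      apply hmoves
      obtain ⟨m, hm⟩ := mem_zpowers_iff.1 (h1 ▸ mem_zpowers i0 : i0 ∈ zpowers u)
      obtain ⟨m', hm'⟩ := mem_zpowers_iff.1 (hun c hcx)
      rw [← h1]
      refine ⟨m' * m, ?_⟩
      show u ^ (m' * m) = c * i0 * c⁻¹
      rw [zpow_mul, hm', conj_zpow, hm]
    have ha4 : a ^ 4 ∈ zpowers u := by
      have h1 : u * a ^ 2 * u⁻¹ = (a ^ 2)⁻¹ := by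
        rw [← conj_pow, hquat.conj u (hQ1Q huQ) hua, inv_pow]
      have h2 : a ^ 4 = a ^ 2 * (u * (a ^ 2)⁻¹ * u⁻¹) := by
        rw [show u * (a ^ 2)⁻¹ * u⁻¹ = (u * a ^ 2 * u⁻¹)⁻¹ by group, h1, inv_inv, ← pow_add]
      rw [h2, show a ^ 2 * (u * (a ^ 2)⁻¹ * u⁻¹) = (a ^ 2 * u * (a ^ 2)⁻¹) * u⁻¹ by group]
      exact mul_mem (hun _ ha2) (inv_mem (mem_zpowers u))
    have hk1 : k = 1 := by
      by_contra hne
      have hk2 : 2 ≤ k := by omega
      have h3 : orderOf (a ^ 4) = 2 ^ k := by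
        rw [orderOf_pow_of_dvd (by norm_num) (hquat.ord ▸ (pow_dvd_pow 2 (by omega) : 2 ^ 2 ∣ 2 ^ (k + 2))),
          hquat.ord, pow_add, show (2 : ℕ) ^ 2 = 4 from rfl, Nat.mul_div_cancel _ (by norm_num : 0 < 4)]
      have h4 := Subgroup.orderOf_dvd_natCard _ ha4
      rw [Nat.card_zpowers, hu, h3, show (4 : ℕ) = 2 ^ 2 from rfl,
        Nat.pow_dvd_pow_iff_le_right (by norm_num)] at h4
      have hk2' : k = 2 := by omega
      have h5 : zpowers (a ^ 4) = zpowers u := eq_of_le_of_card_ge (zpowers_le.2 ha4) (by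
        rw [Nat.card_zpowers, Nat.card_zpowers, hu, h3, hk2']
        norm_num)
      exact hua (zpowers_le.2 (pow_mem (mem_zpowers a) 4) (h5.symm ▸ mem_zpowers u))
    have hQ18 : Nat.card Q1 = 8 := by
      obtain ⟨a₁, x₁, k₁, hquat₁⟩ := hG.exists_quat hQ12 hQ1nc
      rw [hquat.card, hquat₁.card, Nat.pow_lt_pow_iff_right (by norm_num)] at hlt
      rw [hquat₁.card, show k₁ = 0 by omega]
      norm_num
    have hi0a : i0 = a ^ 2 := by rw [hi0, hk1]; rfl
    have hi0u : i0 ∉ zpowers u := by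
      intro h
      have h1 : zpowers i0 = zpowers u := eq_of_le_of_card_ge (zpowers_le.2 h)
        (by rw [Nat.card_zpowers, Nat.card_zpowers, hu, hi0o])
      exact hua (zpowers_le.2 (pow_mem (mem_zpowers a) _) (h1.symm ▸ mem_zpowers u))
    have hgen : zpowers i0 ⊔ zpowers u = Q1 := by
      have hle : zpowers i0 ⊔ zpowers u ≤ Q1 := sup_le (zpowers_le.2 hi0Q) (zpowers_le.2 huQ)
      refine eq_of_le_of_card_ge hle ?_
      obtain ⟨e, he⟩ := (hQ12.to_le hle).exists_card_eq
      have h1 := Subgroup.card_dvd_of_le hle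
      rw [hQ18, he, show (8 : ℕ) = 2 ^ 3 from rfl, Nat.pow_dvd_pow_iff_le_right (by norm_num)] at h1
      have h2 : Nat.card (zpowers u) < Nat.card ↥(zpowers i0 ⊔ zpowers u) :=
        lt_of_not_ge fun h => hi0u ((eq_of_le_of_card_ge le_sup_right h).symm ▸
          mem_sup_left (mem_zpowers i0))
      rw [Nat.card_zpowers, hu, he, show (4 : ℕ) = 2 ^ 2 from rfl,
        Nat.pow_lt_pow_iff_right (by norm_num)] at h2
      rw [hQ18, he, show e = 3 by omega]
      norm_num
    -- `c` normalizes `Q1`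
    have hcQ : ∀ v ∈ Q1, c * v * c⁻¹ ∈ Q1 := by
      intro v hv
      rw [← hgen] at hv
      have h1 : c * v * c⁻¹ ∈ (zpowers i0 ⊔ zpowers u).map (MulAut.conj c).toMonoidHom := ⟨v, hv, rfl⟩
      rw [Subgroup.map_sup, MonoidHom.map_zpowers, MonoidHom.map_zpowers] at h1
      refine (sup_le (zpowers_le.2 ?_) (zpowers_le.2 ?_) : _ ≤ Q1) h1
      · exact zpowers_le.2 hy0 hci0
      · exact zpowers_le.2 huQ (hun c hcx)
    have hcN : c ∈ normalizer (Q1 : Set G) := by
      rw [mem_normalizer_iff]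
      intro v
      refine ⟨hcQ v, fun hv => ?_⟩
      have hmap : Q1.map (MulAut.conj c).toMonoidHom = Q1 := by
        refine eq_of_le_of_card_ge ?_ (Subgroup.card_map_of_injective (MulAut.conj c).injective).ge
        rintro _ ⟨w, hw, rfl⟩
        exact hcQ w hw
      rw [← hmap] at hv
      obtain ⟨w, hw, he⟩ := hv
      have hwv : w = v := (MulAut.conj c).injective he
      exact hwv ▸ hw
    obtain ⟨o, ho, h, hh, hoh, hoo, e, he⟩ := exists_parts c
    have hox : Commute o x := commute_of_mem_zpowers ho hcx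
    have hhx : Commute h x := commute_of_mem_zpowers hh hcx
    have hhQ : h ∈ Q1 := by
      have hsup : IsPGroup 2 ↥(Q1 ⊔ zpowers h) :=
        IsPGroup.to_sup_of_normal_left' hQ12
          (IsPGroup.of_card (n := e) (by rw [Nat.card_zpowers, he])) (zpowers_le.2 (zpowers_le.2 hcN hh))
      exact hmax1 _ hsup (sup_le hQ1C (zpowers_le.2 (mem_centralizer_of_commute hhx))) le_sup_left
        (mem_sup_right (mem_zpowers h))
    have hoN : o ∈ normalizer (Q1 : Set G) := zpowers_le.2 hcN ho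
    -- the order-four elements of `Q1` outside `zpowers u`
    have hclass : ∀ v ∈ Q1, orderOf v = 4 → v ∉ zpowers u → v ∈ zpowers i0 ∨ v ∈ zpowers (i0 * u) := by
      intro v hv hvo hvu
      by_cases hva : v ∈ zpowers a
      · exact Or.inl (hquat.zpowers_i_unique hva hvo ▸ mem_zpowers v)
      right
      have hm : v * u⁻¹ ∈ zpowers a := hquat.mul v (hQ1Q hv) u⁻¹ (inv_mem (hQ1Q huQ)) hva
        fun hh => hua (by simpa using inv_mem hh)
      obtain ⟨m, hm⟩ := mem_powers_iff_mem_zpowers.2 hm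
      change a ^ m = v * u⁻¹ at hm
      have hvx : Commute v x := mem_centralizer_singleton_iff.1 (hQ1C hv)
      have hux' : Commute u x := mem_centralizer_singleton_iff.1 (hQ1C huQ)
      have hmC : Commute (a ^ m) x := hm ▸ hvx.mul_left hux'.inv_left
      obtain ⟨n, rfl⟩ : Even m := by
        by_contra hodd'
        obtain ⟨n, rfl⟩ := Nat.not_even_iff_odd.1 hodd'
        refine hax ?_
        rw [pow_succ, pow_mul] at hmC
        have h1 := (ha2.pow_left n).inv_left.mul_left hmC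
        rwa [inv_mul_cancel_left] at h1
      rw [← two_mul, pow_mul, ← hi0a] at hm
      have hv' : v = i0 ^ n * u := by rw [hm]; group
      have hu2 : u ^ 2 = i0 ^ 2 := by
        rw [hquat.sq u (hQ1Q huQ) hua, hi0, ← pow_mul, ← pow_succ]
      rcases Nat.even_or_odd n with ⟨r, hr⟩ | ⟨r, hr⟩
      · exfalso
        apply hvu
        rw [hv', hr, ← two_mul, pow_mul, ← hu2, ← pow_mul, ← pow_succ]
        exact pow_mem (mem_zpowers u) _
      · have h1 : (i0 * u) ^ 2 = i0 ^ 2 := by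
          have hun' : u * i0 * u⁻¹ = i0⁻¹ := by
            rw [hi0, ← conj_pow, hquat.conj u (hQ1Q huQ) hua, inv_pow]
          calc (i0 * u) ^ 2 = i0 * (u * i0 * u⁻¹) * u ^ 2 := by rw [pow_two, pow_two]; group
            _ = i0 ^ 2 := by rw [hun', mul_inv_cancel, one_mul, hu2]
        rw [hv', hr, pow_succ, pow_mul, ← h1, ← pow_mul, mul_assoc, ← pow_succ]
        exact pow_mem (mem_zpowers _) _
    have hofix : o * i0 * o⁻¹ ∈ zpowers i0 := by
      have hv1 : o * i0 * o⁻¹ ∈ Q1 := (mem_normalizer_iff.1 hoN i0).1 hi0Q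
      have hv2 : o * (o * i0 * o⁻¹) * o⁻¹ ∈ Q1 := (mem_normalizer_iff.1 hoN _).1 hv1
      have ho4 : ∀ w : G, orderOf (o * w * o⁻¹) = orderOf w := fun w =>
        orderOf_injective (MulAut.conj o).toMonoidHom (MulAut.conj o).injective w
      have hnotu : ∀ w, w ∉ zpowers u → o * w * o⁻¹ ∉ zpowers u := by
        intro w hw h
        obtain ⟨m, hm⟩ := mem_zpowers_iff.1 (hun o⁻¹ hox.inv_left)
        obtain ⟨n, hn⟩ := mem_zpowers_iff.1 h
        refine hw ⟨m * n, ?_⟩
        show u ^ (m * n) = w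
        rw [zpow_mul, hm, conj_zpow, hn]
        group
      have hv2' := hnotu _ (hnotu _ hi0u)
      by_contra hne
      have hv1' := (hclass _ hv1 ((ho4 i0).trans hi0o) (hnotu _ hi0u)).resolve_left hne
      rcases hclass _ hv2 ((ho4 _).trans ((ho4 i0).trans hi0o)) hv2' with h2 | h2
      · have hoo2 : o ^ 2 ∈ normalizer (zpowers i0 : Set G) := by
          rw [mem_normalizer_zpowers_iff, show o ^ 2 * i0 * (o ^ 2)⁻¹ = o * (o * i0 * o⁻¹) * o⁻¹ by
            rw [pow_two]; group]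
          exact h2
        exact hne (mem_normalizer_zpowers_iff.1 (zpowers_le.2 hoo2 (mem_zpowers_of_sq hoo)))
      · -- `o` fixes the third subgroup, hence the first
        have h3 : orderOf (i0 * u) = 4 := by
          have h := Subgroup.orderOf_dvd_natCard _ hv1'
          rw [ho4, hi0o, Nat.card_zpowers] at h
          have h' : i0 * u ∈ Q1 := Q1.mul_mem hi0Q huQ
          refine hquat.orderOf_eq_four (hQ1Q h') fun hh => hua ?_
          have := mul_mem (inv_mem (pow_mem (mem_zpowers a) (2 ^ k))) hh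
          rwa [← hi0, inv_mul_cancel_left] at this
        have h4 := zpowers_conj_eq hv1' (hi0o.trans h3.symm)
        rw [← h4] at h2
        refine hne ?_
        obtain ⟨m, hm⟩ := mem_zpowers_iff.1 h2
        rw [conj_zpow] at hm
        have h5 : o * i0 * o⁻¹ = i0 ^ m := by
          have := congrArg (fun w => o⁻¹ * w * o) hm
          simpa [mul_assoc] using this.symm
        exact ⟨m, h5.symm⟩
    apply hmoves
    rw [← mem_normalizer_zpowers_iff, ← hoh]
    exact mul_mem (mem_normalizer_zpowers_iff.2 hofix) (mem_normalizer_zpowers_iff.2 (hQi h (hQ1Q hhQ)))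
  -- a normal 2-subgroup of `C` which is not central
  obtain ⟨W, hW2, hWC, hWn, u, huW, huo⟩ : ∃ W : Subgroup G, IsPGroup 2 W ∧ W ≤ C ∧
      (∀ t ∈ C, ∀ w ∈ W, t * w * t⁻¹ ∈ W) ∧ ∃ u ∈ W, orderOf u = 4 := by
    by_contra hno
    push Not at hno
    obtain ⟨z, hz⟩ : ∃ z : G, orderOf z = 2 := ⟨i0 ^ 2, by
      rw [orderOf_pow_of_dvd two_ne_zero (hi0o ▸ (by norm_num)), hi0o]⟩
    -- the largest odd normal subgroup of `C`
    haveI := hG.local_solvable hperf hIH hq hq2 hx
    haveI hsolC : Group.IsSolvable C :=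
      Group.isSolvable_of_isSolvable_injective (Subgroup.inclusion_injective hCL)
    obtain ⟨K, ⟨hKn, hKodd⟩, hKmax⟩ :=
      Set.Finite.exists_maximal (Set.toFinite {K : Subgroup C | K.Normal ∧ Odd (Nat.card K)})
        ⟨⊥, inferInstance, by simp⟩
    have hKbig : ∀ N : Subgroup C, N.Normal → Odd (Nat.card N) → N ≤ K := by
      intro N hN hNodd
      have h1 : (K ⊔ N).Normal := inferInstance
      have h2 : Odd (Nat.card ↥(K ⊔ N)) := by
        have h3 := H91.card_sup_mul_card_inf' (A := K) (X := N) le_normalizer_of_normal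
        exact (hKodd.mul hNodd).of_dvd_nat ⟨_, h3.symm⟩
      exact le_sup_right.trans (hKmax ⟨h1, h2⟩ le_sup_left)
    haveI hKc : IsCyclic K := by
      have hm : Odd (Nat.card (K.map C.subtype)) := by
        rwa [Subgroup.card_map_of_injective C.subtype_injective]
      haveI := hG.isCyclic_of_odd hperf hIH hm
      exact (K.equivMapOfInjective C.subtype C.subtype_injective).isCyclic.2 inferInstance
    obtain ⟨k₀, hk₀⟩ := IsCyclic.exists_generator (α := K)
    let zC : C := ⟨z, mem_centralizer_of_commute (hG.commute_involution hz x).symm⟩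
    have hzcen : ∀ t : C, Commute t zC := fun t => Subtype.ext (hG.commute_involution hz (t : G)).eq
    haveI hzn : (zpowers zC).Normal := ⟨fun w hw t => by
      obtain ⟨m, rfl⟩ := mem_zpowers_iff.1 hw
      rw [((hzcen t).zpow_right m).eq, mul_inv_cancel_right]
      exact zpow_mem (mem_zpowers _) _⟩
    set F := K ⊔ zpowers zC with hF
    set D := centralizer ({(k₀ : C)} : Set C) with hD
    have hKgen : K = zpowers (k₀ : C) := by
      refine le_antisymm (fun w hw => ?_) (zpowers_le.2 k₀.2)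
      obtain ⟨m, hm⟩ := mem_zpowers_iff.1 (hk₀ ⟨w, hw⟩)
      exact ⟨m, congrArg Subtype.val hm⟩
    have hFD : ∀ f ∈ F, ∀ d ∈ D, Commute f d := by
      intro f hf d hd
      have hle : F ≤ centralizer ({d} : Set C) := by
        rw [hF, hKgen]
        refine sup_le (zpowers_le.2 ?_) (zpowers_le.2 ?_)
        · exact mem_centralizer_singleton_iff.2 (mem_centralizer_singleton_iff.1 hd).symm
        · exact mem_centralizer_singleton_iff.2 ((hzcen d).symm).eq
      exact mem_centralizer_singleton_iff.1 (hle hf)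
    have hder : commutator C ≤ D := by
      rw [_root_.commutator_def, commutator_le]
      intro s _ t _
      have hs : ∀ s : C, s * (k₀ : C) * s⁻¹ ∈ zpowers (k₀ : C) := fun s => hKgen ▸ hKn.conj_mem _ k₀.2 s
      exact mem_centralizer_singleton_iff.2 (commute_commutator (hs s) (hs t)).eq
    -- every term of the derived series from the first on lies in `F`
    have hsmall : ∀ M : Subgroup C, M.Normal → M ≤ D → ⁅M, M⁆ ≤ F → M ≤ F := by
      intro M hMn hMD hMM
      haveI hnil : Group.IsNilpotent M := by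
        let f : M →* Abelianization M := Abelianization.of
        haveI : Group.IsNilpotent (Abelianization M) := CommGroup.isNilpotent
        refine Subgroup.isNilpotent_of_ker_le_center f ?_
        intro w hw
        rw [Abelianization.ker_of] at hw
        rw [mem_center_iff]
        intro v
        have h1 : (w : C) ∈ F := hMM (by
          have h2 : (w : C) ∈ (commutator M).map M.subtype := ⟨w, hw, rfl⟩
          rwa [map_subtype_commutator] at h2)
        exact Subtype.ext (hFD _ h1 _ (hMD v.2)).eq.symm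
      intro w hw
      have htop : ∀ (p : ℕ) [Fact p.Prime] (P : Sylow p M), (P : Subgroup M) ≤ F.subgroupOf M := by
        intro p hp P
        haveI : (P : Subgroup M).Normal := inferInstance
        haveI := P.characteristic_of_normal inferInstance
        have hn : ((P : Subgroup M).map M.subtype).Normal := inferInstance
        intro v hv
        show (v : C) ∈ F
        have hv' : (v : C) ∈ (P : Subgroup M).map M.subtype := ⟨v, hv, rfl⟩
        rcases eq_or_ne p 2 with rfl | hp2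
        · have hV : IsPGroup 2 (((P : Subgroup M).map M.subtype).map C.subtype) :=
            (P.2.map _).map _
          have h4 := hno _ hV (map_subtype_le _) (by
            rintro t ht _ ⟨w', hw', rfl⟩
            exact ⟨⟨t, ht⟩ * w' * ⟨t, ht⟩⁻¹, hn.conj_mem _ hw' _, rfl⟩)
          obtain ⟨e, he⟩ := IsPGroup.iff_orderOf.1 hV ⟨((v : C) : G), ⟨_, hv', rfl⟩⟩
          rw [← orderOf_coe] at he
          change orderOf ((v : C) : G) = 2 ^ e at he
          rcases e with _ | _ | e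
          · rw [pow_zero, orderOf_eq_one_iff] at he
            rw [show (v : C) = 1 from Subtype.ext he]
            exact one_mem _
          · have : (v : C) = zC := Subtype.ext (hG.involution_unique (by rw [he]; rfl) hz)
            exact this ▸ mem_sup_right (mem_zpowers _)
          · exfalso
            refine h4 (((v : C) : G) ^ 2 ^ e)
              (pow_mem (⟨_, hv', rfl⟩ :
                ((v : C) : G) ∈ ((P : Subgroup M).map M.subtype).map C.subtype) _) ?_
            rw [orderOf_pow_of_dvd (by positivity) (he ▸ pow_dvd_pow 2 (by omega)), he,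
              Nat.pow_div (by omega) two_pos, show e + 1 + 1 - e = 2 by omega]
            norm_num
        · refine mem_sup_left (hKbig _ hn ?_ hv')
          obtain ⟨e, he⟩ := P.2.exists_card_eq
          rw [Subgroup.card_map_of_injective M.subtype_injective, he]
          exact ((hp.out).odd_of_ne_two hp2).pow
      have hall : F.subgroupOf M = ⊤ := by
        refine Subgroup.eq_top_of_card_eq _ (Nat.dvd_antisymm (Subgroup.card_subgroup_dvd_card _) ?_)
        refine (Nat.dvd_iff_prime_pow_dvd_dvd _ _).2 fun p e hp he => ?_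
        haveI := Fact.mk hp
        obtain ⟨P⟩ : Nonempty (Sylow p M) := inferInstance
        exact (P.pow_dvd_card_of_pow_dvd_card he).trans (Subgroup.card_dvd_of_le (htop p P))
      have h5 : (⟨w, hw⟩ : M) ∈ F.subgroupOf M := hall ▸ mem_top _
      exact h5
    have hdF : derivedSeries C 1 ≤ F := by
      obtain ⟨n, hn⟩ := (Group.isSolvable_def C).1 hsolC
      suffices h : ∀ d m, n ≤ m + 1 + d → derivedSeries C (m + 1) ≤ F from h n 0 (by omega)
      intro d
      induction d with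
      | zero =>
        intro m hm
        exact ((derivedSeries_antitone C hm).trans (le_of_eq hn)).trans bot_le
      | succ d ih =>
        intro m hm
        refine hsmall _ (derivedSeries_normal C _)
          ((derivedSeries_antitone C (Nat.le_add_left 1 m)).trans ?_) ?_
        · rw [derivedSeries_one]; exact hder
        · rw [← derivedSeries_succ]; exact ih (m + 1) (by omega)
    -- `y0 / i0 ^ ±1` is a commutator of order four
    obtain ⟨m, hm⟩ : ∃ m : ℤ, c * i0 ^ m * c⁻¹ = y0 := by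
      have h1 := zpowers_conj_eq hci0 (hi0o.trans hy0o.symm)
      obtain ⟨m, hm⟩ := mem_zpowers_iff.1 (h1.symm ▸ mem_zpowers y0 : y0 ∈ zpowers (c * i0 * c⁻¹))
      exact ⟨m, by rw [← conj_zpow]; exact hm⟩
    let cC : C := ⟨c, mem_centralizer_of_commute hcx⟩
    let iC : C := ⟨i0 ^ m, mem_centralizer_of_commute (hi0x.zpow_left m)⟩
    have hk₁ : ⁅cC, iC⁆ ∈ F := hdF (by
      rw [derivedSeries_one, _root_.commutator_def]; exact commutator_mem_commutator (mem_top _) (mem_top _))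
    have hval : (⁅cC, iC⁆ : C) = ⟨y0 * (i0 ^ m)⁻¹, C.mul_mem (mem_centralizer_of_commute hy0x)
        (C.inv_mem (mem_centralizer_of_commute (hi0x.zpow_left m)))⟩ := by
      apply Subtype.ext
      show c * i0 ^ m * c⁻¹ * (i0 ^ m)⁻¹ = y0 * (i0 ^ m)⁻¹
      rw [hm]
    have hfour : orderOf (y0 * (i0 ^ m)⁻¹) = 4 := by
      refine hquat.orderOf_eq_four (Q'.mul_mem (hQ1Q hy0) (Q'.inv_mem (zpow_mem (hQ1Q hi0Q) m))) ?_
      intro h
      apply hy0a
      have := mul_mem h (zpow_mem (pow_mem (mem_zpowers a) (2 ^ k)) m)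
      rwa [inv_mul_cancel_right] at this
    have hdvd := Subgroup.orderOf_dvd_natCard F hk₁
    rw [hval, ← orderOf_coe] at hdvd
    change orderOf (y0 * (i0 ^ m)⁻¹) ∣ _ at hdvd
    rw [hfour, hF] at hdvd
    have h4 := H91.card_sup_mul_card_inf' (A := K) (X := zpowers zC) le_normalizer_of_normal
    have hzo : Nat.card (zpowers zC) = 2 := by rw [Nat.card_zpowers, ← orderOf_coe]; exact hz
    rw [hzo] at h4
    have h5 : 4 ∣ Nat.card K * 2 := h4 ▸ hdvd.mul_right _
    obtain ⟨r, hr⟩ := hKodd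
    rw [hr] at h5
    omega
  -- `W` has order eight
  have hWnc : ¬ IsCyclic W := by
    intro hc
    refine hnofour u huo (mem_centralizer_singleton_iff.1 (hWC huW)) fun t ht => ?_
    have h1 := hWn t (mem_centralizer_of_commute ht) u huW
    have h2 := H41.eq_of_card_eq_of_le_cyclic hc (zpowers_le.2 h1) (zpowers_le.2 huW) (by
      rw [Nat.card_zpowers, Nat.card_zpowers]
      exact orderOf_injective (MulAut.conj t).toMonoidHom (MulAut.conj t).injective u)
    exact h2 ▸ mem_zpowers _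
  obtain ⟨a', x', k', hquatW⟩ := hG.exists_quat hW2 hWnc
  have hk' : k' = 0 := by
    by_contra hne
    exact hnofour _ hquatW.orderOf_i
      (mem_centralizer_singleton_iff.1 (hWC (pow_mem hquatW.a_mem _)))
      fun t ht => hquatW.conj_i_mem (by omega) (hWn t (mem_centralizer_of_commute ht) a' hquatW.a_mem)
  have hW8 : Nat.card W = 8 := by rw [hquatW.card, hk']; norm_num
  have hCW : C ≤ normalizer (W : Set G) := by
    intro t ht
    rw [mem_normalizer_iff]
    exact fun v => ⟨hWn t ht v, fun hv => by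
      simpa [mul_assoc] using hWn t⁻¹ (inv_mem ht) _ hv⟩
  have hsupW : ∀ V : Subgroup G, IsPGroup 2 V → V ≤ C → IsPGroup 2 ↥(W ⊔ V) := fun V hV hVC =>
    IsPGroup.to_sup_of_normal_left' hW2 hV (hVC.trans hCW)
  have hWQ1 : W ≤ Q1 :=
    le_sup_left.trans (hmax1 _ (hsupW Q1 hQ12 hQ1C) (sup_le hWC hQ1C) le_sup_right)
  have hLW : ∀ l ∈ L, ∀ w ∈ W, l * w * l⁻¹ ∈ W := by
    intro l hl
    set W' := W.map (MulAut.conj l).toMonoidHom with hW'
    have hW'C : W' ≤ C := by
      rintro _ ⟨w, hw, rfl⟩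
      exact mem_centralizer_of_commute (hconjC l hl w (mem_centralizer_singleton_iff.1 (hWC hw)))
    have hW'n : ∀ t ∈ C, ∀ w ∈ W', t * w * t⁻¹ ∈ W' := by
      rintro t ht _ ⟨w, hw, rfl⟩
      have h1 : l⁻¹ * t * l ∈ C := mem_centralizer_of_commute (by
        simpa [mul_assoc] using hconjC l⁻¹ (inv_mem hl) t (mem_centralizer_singleton_iff.1 ht))
      refine ⟨_, hWn _ h1 w hw, ?_⟩
      show l * (l⁻¹ * t * l * w * (l⁻¹ * t * l)⁻¹) * l⁻¹ = t * (l * w * l⁻¹) * t⁻¹
      group
    have hsup := hsupW W' (hW2.map _) hW'C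
    have hsupC : W ⊔ W' ≤ C := sup_le hWC hW'C
    have hsupn : ∀ t ∈ C, ∀ w ∈ W ⊔ W', t * w * t⁻¹ ∈ W ⊔ W' := by
      intro t ht w hw
      have h1 : t * w * t⁻¹ ∈ (W ⊔ W').map (MulAut.conj t).toMonoidHom := ⟨w, hw, rfl⟩
      rw [Subgroup.map_sup] at h1
      refine (sup_le ?_ ?_ : _ ≤ W ⊔ W') h1
      · rintro _ ⟨v, hv, rfl⟩; exact mem_sup_left (hWn t ht v hv)
      · rintro _ ⟨v, hv, rfl⟩; exact mem_sup_right (hW'n t ht v hv)
    obtain ⟨a'', x'', k'', hq''⟩ := hG.exists_quat hsup fun hc => hWnc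
      (haveI := hc; isCyclic_of_injective (Subgroup.inclusion (le_sup_left : W ≤ W ⊔ W'))
        (Subgroup.inclusion_injective (le_sup_left : W ≤ W ⊔ W')))
    have hk'' : k'' = 0 := by
      by_contra hne
      exact hnofour _ hq''.orderOf_i
        (mem_centralizer_singleton_iff.1 (hsupC (pow_mem hq''.a_mem _)))
        fun t ht => hq''.conj_i_mem (by omega) (hsupn t (mem_centralizer_of_commute ht) a'' hq''.a_mem)
    have heq : W = W ⊔ W' := eq_of_le_of_card_ge le_sup_left (by rw [hW8, hq''.card, hk'']; norm_num)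
    intro w hw
    have h2 : l * w * l⁻¹ ∈ W ⊔ W' := mem_sup_right ⟨w, hw, rfl⟩
    rwa [← heq] at h2
  have hk1 : k = 1 := by
    have := hquat.le_one_of_normalizes (hWQ1.trans hQ1Q) hW8 hWnc
      fun s hs => hLW a (hQL hquat.a_mem) s hs
    omega
  have hWeq : W = Q1 := by
    refine eq_of_le_of_card_ge hWQ1 ?_
    obtain ⟨a₁, x₁, k₁, hquat₁⟩ := hG.exists_quat hQ12 hQ1nc
    rw [hquat.card, hquat₁.card, Nat.pow_lt_pow_iff_right (by norm_num)] at hlt
    rw [hW8, hquat₁.card, show k₁ = 0 by omega]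
    norm_num
  have hi0a : i0 = a ^ 2 := by rw [hi0, hk1]; rfl
  have hcentL : ∀ g : G, Commute g i0 → g ∈ L := by
    intro g hg
    refine hinN i0 hi0o hi0x g ?_
    have h1 : Commute (g * x * g⁻¹) (g * i0 * g⁻¹) := hi0x.symm.map (MulAut.conj g).toMonoidHom
    rwa [hg.eq, mul_inv_cancel_right] at h1
  refine ⟨a, W, hW8, hWnc, fun w hw => mem_centralizer_singleton_iff.1 (hWC hw), hLW, ?_,
    hQL hquat.a_mem, ?_, hax, ?_, ?_, ⟨c, hcx, hi0a ▸ hmoves⟩, fun g hg => hcentL g (hi0a ▸ hg), ?_⟩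
  · intro V hV hVx
    have hVC : V ≤ C := fun v hv => mem_centralizer_of_commute (hVx v hv)
    exact le_sup_right.trans ((hmax1 _ (hsupW V hV hVC) (sup_le hWC hVC)
      (hWeq ▸ le_sup_left)).trans hWeq.ge)
  · rw [hquat.ord, hk1]; norm_num
  · rw [hWeq, ← hi0a]; exact hi0Q
  · -- Sylow subgroups of `G` have order 16
    intro V hV
    obtain ⟨P, hP⟩ := hQ2.exists_le_sylow
    obtain ⟨P₂, hP₂⟩ := hV.exists_le_sylow
    have hVle : Nat.card V ≤ Nat.card (P : Subgroup G) :=
      (Nat.le_of_dvd Nat.card_pos (Subgroup.card_dvd_of_le hP₂)).trans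
        (le_of_eq (Nat.card_congr (P₂.equiv P).toEquiv))
    suffices h : (P : Subgroup G) ≤ Q' by
      have h16 : Nat.card Q' = 16 := by rw [hquat.card, hk1]; norm_num
      exact hVle.trans (h16 ▸ Nat.le_of_dvd Nat.card_pos (Subgroup.card_dvd_of_le h))
    by_contra hne
    have hlt2 : Q'.subgroupOf (P : Subgroup G) < ⊤ :=
      lt_top_iff_ne_top.2 fun h => hne (subgroupOf_eq_top.1 h)
    haveI : Group.IsNilpotent (P : Subgroup G) := P.2.isNilpotent
    obtain ⟨n, hn, hnQ⟩ := SetLike.exists_of_lt ((Group.normalizerCondition_of_isNilpotent (G := (P : Subgroup G))) _ hlt2)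
    have hnconj : ∀ v ∈ Q', (n : G) * v * (n : G)⁻¹ ∈ Q' := fun v hv =>
      (mem_normalizer_iff.1 hn (⟨v, hP hv⟩ : (P : Subgroup G))).1 hv
    have hni : (n : G) * i0 * (n : G)⁻¹ ∈ zpowers i0 :=
      hquat.conj_i_mem hk (hnconj a hquat.a_mem)
    have hnL : (n : G) ∈ L := by
      refine hinN i0 hi0o hi0x _ ?_
      obtain ⟨m, hm⟩ := mem_zpowers_iff.1 ((zpowers_conj_eq hni rfl).symm ▸ mem_zpowers i0 :
        i0 ∈ zpowers ((n : G) * i0 * (n : G)⁻¹))
      exact hm ▸ ((hi0x.symm.map (MulAut.conj (n : G)).toMonoidHom :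
        Commute ((n : G) * x * (n : G)⁻¹) ((n : G) * i0 * (n : G)⁻¹)).zpow_right m)
    have hsup : IsPGroup 2 ↥(Q' ⊔ zpowers (n : G)) :=
      P.2.to_le (sup_le hP (zpowers_le.2 n.2))
    exact hnQ (le_of_isPGroup_of_sylow S₂ hsup (sup_le hQL (zpowers_le.2 hnL)) le_sup_left
      (mem_sup_right (mem_zpowers _)))
  · intro g hgL
    obtain ⟨c', hc', t, ht, rfl⟩ := hdec g hgL
    rcases hquat.exists_eq_mul ht with hta | ⟨d, hd, rfl⟩
    · obtain ⟨m, rfl⟩ := mem_powers_iff_mem_zpowers.2 hta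
      show Commute (c' * a ^ m) x ∨ _
      rcases Nat.even_or_odd m with ⟨r, rfl⟩ | ⟨r, rfl⟩
      · left; rw [← two_mul, pow_mul]; exact hc'.mul_left (ha2.pow_left r)
      · right
        refine ⟨c' * (a ^ 2) ^ r, hc'.mul_left (ha2.pow_left r), ?_⟩
        show c' * a ^ (2 * r + 1) = _
        rw [pow_succ, pow_mul, mul_assoc]
    · obtain ⟨d', hd', hd'e⟩ := (hquat.exists_eq_mul (hQ1Q hy0)).resolve_left hy0a
      obtain ⟨m, hm⟩ := mem_powers_iff_mem_zpowers.2 (mul_mem hd (inv_mem hd'))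
      change a ^ m = d * d'⁻¹ at hm
      have he : c' * (d * xq) = c' * a ^ m * y0 := by rw [hm, hd'e]; group
      rw [he]
      rcases Nat.even_or_odd m with ⟨r, rfl⟩ | ⟨r, rfl⟩
      · left; rw [← two_mul, pow_mul]; exact (hc'.mul_left (ha2.pow_left r)).mul_left hy0x
      · right
        refine ⟨c' * (a ^ 2) ^ r * (a * y0 * a⁻¹), (hc'.mul_left (ha2.pow_left r)).mul_left
          (hconjC a (hQL hquat.a_mem) y0 hy0x), ?_⟩
        rw [pow_succ, pow_mul]; group

end PQGroup

end Cfsg.Agent.H78.Zass
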