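import Cfsg.Agent.H78.Zass.Quat
import Cfsg.Agent.H91.Replace
import Mathlib.GroupTheory.Transfer
import Mathlib.GroupTheory.Solvable
import Mathlib.GroupTheory.Perm.Cycle.Type
import Mathlib.GroupTheory.Abelianization.Defs

/-!
# Uniqueness of subgroups of prime order, Burnside transfer, fusion of elements of order four
-/

set_option autoImplicit false
set_option linter.unusedSectionVars false
set_option linter.style.haveILetI false

namespace Cfsg.Agent.H78.Zass

open Subgroup
open scoped commutatorElement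

variable {G : Type*} [Group G] [Finite G]

theorem mem_normalizer_zpowers_iff {g x : G} :
    g ∈ normalizer (zpowers x : Set G) ↔ g * x * g⁻¹ ∈ zpowers x := by
  refine ⟨fun h => (mem_normalizer_iff.1 h x).1 (mem_zpowers x), fun h => ?_⟩
  have hmap : (zpowers x).map (MulAut.conj g).toMonoidHom = zpowers x := by
    refine eq_of_le_of_card_ge ?_ (Subgroup.card_map_of_injective (MulAut.conj g).injective).ge
    rw [MonoidHom.map_zpowers, zpowers_le]
    exact h
  rw [mem_normalizer_iff]
  intro y
  constructor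
  · intro hy
    rw [← hmap]
    exact ⟨y, hy, rfl⟩
  · intro hy
    rw [← hmap] at hy
    obtain ⟨w, hw, he⟩ := hy
    have hwy : w = y := (MulAut.conj g).injective he
    exact hwy ▸ hw

/-- Commutators of elements normalizing a cyclic subgroup centralize it. -/
theorem commute_commutator {g h x : G} (hg : g * x * g⁻¹ ∈ zpowers x)
    (hh : h * x * h⁻¹ ∈ zpowers x) : Commute ⁅g, h⁆ x := by
  obtain ⟨a, ha⟩ := exists_conj_eq_pow hg
  obtain ⟨b, hb⟩ := exists_conj_eq_pow hh
  have h1 : (g * h) * x * (g * h)⁻¹ = (h * g) * x * (h * g)⁻¹ := by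
    calc (g * h) * x * (g * h)⁻¹ = g * (h * x * h⁻¹) * g⁻¹ := by group
      _ = (x ^ a) ^ b := by rw [hb, ← conj_pow, ha]
      _ = (x ^ b) ^ a := by rw [← pow_mul, ← pow_mul, mul_comm]
      _ = h * (g * x * g⁻¹) * h⁻¹ := by rw [ha, ← conj_pow, hb]
      _ = (h * g) * x * (h * g)⁻¹ := by group
  have h2 : Commute ((h * g)⁻¹ * (g * h)) x := by
    show _ = _
    calc (h * g)⁻¹ * (g * h) * x = (h * g)⁻¹ * ((g * h) * x * (g * h)⁻¹) * (g * h) := by group
      _ = x * ((h * g)⁻¹ * (g * h)) := by rw [h1]; group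
  have h3 : (g * h) * (h * g)⁻¹ = ⁅g, h⁆ := by rw [commutatorElement_def]; group
  rw [← h3]
  show _ = _
  have h4 : (h * g) * x * (h * g)⁻¹ ∈ zpowers x := by
    have := mul_mem (mem_normalizer_zpowers_iff.2 hh) (mem_normalizer_zpowers_iff.2 hg)
    exact mem_normalizer_zpowers_iff.1 this
  obtain ⟨w, hw⟩ : ∃ w ∈ zpowers x, x = (h * g) * w * (h * g)⁻¹ :=
    ⟨(h * g)⁻¹ * x * (h * g), by
      have h5 := inv_mem (mul_mem (mem_normalizer_zpowers_iff.2 hh)
        (mem_normalizer_zpowers_iff.2 hg))
      have h6 := mem_normalizer_zpowers_iff.1 h5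
      rwa [inv_inv] at h6, by group⟩
  obtain ⟨hw1, hw2⟩ := hw
  obtain ⟨j, rfl⟩ := mem_zpowers_iff.1 hw1
  have hc : Commute ((h * g)⁻¹ * (g * h)) (x ^ j) := h2.zpow_right j
  calc g * h * (h * g)⁻¹ * x
      = (h * g) * (((h * g)⁻¹ * (g * h)) * ((h * g)⁻¹ * x * (h * g))) * (h * g)⁻¹ := by group
    _ = (h * g) * (((h * g)⁻¹ * (g * h)) * x ^ j) * (h * g)⁻¹ := by
        rw [show (h * g)⁻¹ * x * (h * g) = x ^ j by
          calc (h * g)⁻¹ * x * (h * g)
              = (h * g)⁻¹ * ((h * g) * x ^ j * (h * g)⁻¹) * (h * g) := by rw [← hw2]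
            _ = x ^ j := by group]
    _ = (h * g) * (x ^ j * ((h * g)⁻¹ * (g * h))) * (h * g)⁻¹ := by rw [hc.eq]
    _ = x * (g * h * (h * g)⁻¹) := by
        conv_rhs => rw [hw2]
        group

theorem zpowers_eq_of_mem {x y : G} {p : ℕ} (hp : p.Prime) (hx : orderOf x = p)
    (hy : orderOf y = p) (h : y ∈ zpowers x) : zpowers y = zpowers x :=
  eq_of_le_of_card_ge (zpowers_le.2 h) (by rw [Nat.card_zpowers, Nat.card_zpowers, hx, hy])

theorem zpowers_conj_eq {g x y : G} (h : g * x * g⁻¹ ∈ zpowers y) (ho : orderOf x = orderOf y) :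
    zpowers (g * x * g⁻¹) = zpowers y :=
  eq_of_le_of_card_ge (zpowers_le.2 h) (by
    rw [Nat.card_zpowers, Nat.card_zpowers]
    exact le_of_eq (ho.symm.trans
      (orderOf_injective (MulAut.conj g).toMonoidHom (MulAut.conj g).injective x).symm))

/-- A nontrivial solvable group has a normal subgroup of prime index. -/
theorem exists_normal_prime_index (H : Type*) [Group H] [Finite H] [Nontrivial H]
    [Group.IsSolvable H] : ∃ M : Subgroup H, M.Normal ∧ M.index.Prime := by
  have hne : commutator H ≠ ⊤ := (Group.IsSolvable.commutator_lt_top_of_nontrivial H).ne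
  obtain ⟨M, hM, hle⟩ := (eq_top_or_exists_le_coatom (commutator H)).resolve_left hne
  haveI hMn : M.Normal := ⟨fun m hm g => by
    have h1 : ⁅g, m⁆ ∈ M := hle (commutator_mem_commutator (mem_top g) (mem_top m))
    have h2 := M.mul_mem h1 hm
    rwa [commutatorElement_def, inv_mul_cancel_right] at h2⟩
  refine ⟨M, hMn, ?_⟩
  have h1 : M.index ≠ 1 := fun h => hM.1 (index_eq_one.1 h)
  haveI := Fact.mk (Nat.minFac_prime h1)
  obtain ⟨q, hq⟩ := exists_prime_orderOf_dvd_card' (G := H ⧸ M) M.index.minFac (Nat.minFac_dvd _)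
  have htop : zpowers q = ⊤ := by
    have h2 : M ≤ (zpowers q).comap (QuotientGroup.mk' M) := by
      intro m hm
      rw [mem_comap, show QuotientGroup.mk' M m = 1 from (QuotientGroup.eq_one_iff m).2 hm]
      exact one_mem _
    rcases hM.le_iff.1 h2 with h3 | h3
    · rw [← map_comap_eq_self_of_surjective (QuotientGroup.mk'_surjective M) (zpowers q), h3,
        map_top_of_surjective _ (QuotientGroup.mk'_surjective M)]
    · exfalso
      have h4 : zpowers q = ⊥ := by
        rw [← map_comap_eq_self_of_surjective (QuotientGroup.mk'_surjective M) (zpowers q), h3,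
          QuotientGroup.map_mk'_self]
      rw [zpowers_eq_bot] at h4
      rw [h4, orderOf_one] at hq
      exact (Fact.out : M.index.minFac.Prime).ne_one hq.symm
  have hidx : M.index = M.index.minFac := by
    rw [← hq, ← Nat.card_zpowers, htop, card_top, index_eq_card]
  rw [hidx]
  exact Nat.minFac_prime h1

/-- The derived series of a subgroup, inside the ambient group. -/
def dSeries (H : Subgroup G) : ℕ → Subgroup G
  | 0 => H
  | n + 1 => ⁅dSeries H n, dSeries H n⁆

namespace PQGroup

/-- In a solvable group, all subgroups of order `p` coincide (`p` odd; for `p = 3` without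
quaternion pairs). -/
theorem subgroups_prime_eq (n : ℕ) : ∀ (H : Type*) [Group H] [Finite H], Nat.card H = n →
    PQGroup H → Group.IsSolvable H → ∀ p : ℕ, p.Prime → p ≠ 2 →
    (5 ≤ p ∨ ¬ HasQPair (⊤ : Subgroup H)) →
    ∀ x y : H, orderOf x = p → orderOf y = p → zpowers x = zpowers y := by
  induction n using Nat.strong_induction_on with
  | _ n ih =>
  intro H _ _ hn hG hsol p hp hp2 h5 x y hx hy
  haveI := Fact.mk hp
  haveI : Nontrivial H := ⟨⟨x, 1, fun h => hp.ne_one (by rw [← hx, h, orderOf_one])⟩⟩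
  obtain ⟨M, hMn, hMp⟩ := exists_normal_prime_index H
  have hcard : Nat.card M * M.index = Nat.card H := M.card_mul_index
  have hlt : Nat.card M < n := by
    rw [← hn, ← hcard]
    exact lt_mul_of_one_lt_right Nat.card_pos hMp.one_lt
  have hsolM : Group.IsSolvable M := Group.isSolvable_of_isSolvable_injective M.subtype_injective
  have hunique : ∀ u ∈ M, ∀ v ∈ M, orderOf u = p → orderOf v = p → zpowers u = zpowers v := by
    intro u hu v hv hou hov
    have := congrArg (Subgroup.map M.subtype) (ih _ hlt M rfl (hG.subgroup M) hsolM p hp hp2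
      (h5.imp id fun h hM => h ((hasQPair_top_iff.1 hM).mono le_top)) ⟨u, hu⟩ ⟨v, hv⟩
      (by rw [← orderOf_coe]; exact hou) (by rw [← orderOf_coe]; exact hov))
    rwa [MonoidHom.map_zpowers, MonoidHom.map_zpowers] at this
  by_cases hpM : p ∣ Nat.card M
  · -- the subgroup of order `p` of `M` is normal in `H`
    obtain ⟨x₀, hx₀⟩ := exists_prime_orderOf_dvd_card' (G := M) p hpM
    rw [← orderOf_coe] at hx₀
    suffices h : ∀ u : H, orderOf u = p → zpowers u = zpowers (x₀ : H) from
      (h x hx).trans (h y hy).symm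
    intro u hu
    by_cases huM : u ∈ M
    · exact hunique u huM x₀ x₀.2 hu hx₀
    have hux : u * (x₀ : H) * u⁻¹ ∈ zpowers (x₀ : H) := by
      have h1 : orderOf (u * (x₀ : H) * u⁻¹) = p :=
        (orderOf_injective (MulAut.conj u).toMonoidHom (MulAut.conj u).injective _).trans hx₀
      exact (hunique _ (hMn.conj_mem _ x₀.2 u) x₀ x₀.2 h1 hx₀) ▸ mem_zpowers _
    have hle : zpowers u ≤ normalizer (zpowers (x₀ : H) : Set H) :=
      zpowers_le.2 (mem_normalizer_zpowers_iff.2 hux)
    have hd : zpowers (x₀ : H) ⊓ zpowers u = ⊥ := by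
      rw [eq_bot_iff]
      intro g hg
      rw [mem_bot]
      by_contra hg1
      have hgo : orderOf g = p := ((hp.eq_one_or_self_of_dvd _ (hu ▸ Nat.card_zpowers u ▸
        Subgroup.orderOf_dvd_natCard _ hg.2)).resolve_left
        fun h => hg1 (orderOf_eq_one_iff.1 h))
      have h1 : u ∈ zpowers g := by
        rw [zpowers_eq_of_mem hp hu hgo hg.2]; exact mem_zpowers u
      exact huM ((zpowers_le.2 x₀.2 : zpowers (x₀ : H) ≤ M) (zpowers_le.2 hg.1 h1))
    have hc := Coprime.card_sup hle hd
    rw [Nat.card_zpowers, Nat.card_zpowers, hu, hx₀] at hc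
    haveI := hG.cyclic _ p p hp hp hc
    exact H41.eq_of_card_eq_of_le_cyclic (C := zpowers (x₀ : H) ⊔ zpowers u) inferInstance
      le_sup_right le_sup_left (by rw [Nat.card_zpowers, Nat.card_zpowers, hu, hx₀])
  -- `p` does not divide `|M|`, so an element of order `p` is central
  have hxM : x ∉ M := fun h => hpM (hx ▸ orderOf_coe (⟨x, h⟩ : M) ▸ _root_.orderOf_dvd_natCard _)
  have hidx : M.index = p := by
    have h1 : p ∣ Nat.card M * M.index := by
      rw [hcard, ← hx]; exact _root_.orderOf_dvd_natCard x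
    exact (Nat.prime_dvd_prime_iff_eq hp hMp).1 ((hp.dvd_mul.1 h1).resolve_left hpM) |>.symm
  have hsyl : ∀ u : H, orderOf u = p → ¬ p ∣ (zpowers u).index := by
    intro u hu h
    have h1 := (zpowers u).card_mul_index
    rw [Nat.card_zpowers, hu, ← hcard, hidx, mul_comm (Nat.card M)] at h1
    exact hpM (Nat.eq_of_mul_eq_mul_left hp.pos h1 ▸ h)
  have hconj : ∀ u v : H, orderOf u = p → orderOf v = p →
      ∃ g : H, (zpowers u).map (MulAut.conj g).toMonoidHom = zpowers v := by
    intro u v hu hv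
    let P : Sylow p H := IsPGroup.toSylow (P := zpowers u)
      (IsPGroup.of_card (n := 1) (by rw [Nat.card_zpowers, hu, pow_one])) (hsyl u hu)
    let P' : Sylow p H := IsPGroup.toSylow (P := zpowers v)
      (IsPGroup.of_card (n := 1) (by rw [Nat.card_zpowers, hv, pow_one])) (hsyl v hv)
    obtain ⟨g, hg⟩ := MulAction.exists_smul_eq H P P'
    exact ⟨g, congrArg (fun Q : Sylow p H => (Q : Subgroup H)) hg⟩
  have hcent : x ∈ center H := by
    have hdvd : ∀ q k : ℕ, q.Prime → q ^ k ∣ Nat.card H →
        q ^ k ∣ Nat.card (centralizer ({x} : Set H)) := by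
      intro q k hq hk
      haveI := Fact.mk hq
      rcases eq_or_ne q p with rfl | hqp
      · refine dvd_trans ?_ ((Nat.card_zpowers x).trans hx ▸ Subgroup.card_dvd_of_le
          (zpowers_le.2 (mem_centralizer_singleton_iff.2 rfl)))
        rcases k with _ | _ | k
        · simp
        · simp
        · exfalso
          apply hpM
          rw [← hcard, hidx, pow_succ] at hk
          exact (dvd_pow_self q (Nat.succ_ne_zero k)).trans
            (Nat.dvd_of_mul_dvd_mul_right hp.pos hk)
      · obtain ⟨Q⟩ : Nonempty (Sylow q M) := inferInstance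
        have hFrat := Sylow.normalizer_sup_eq_top Q
        set N := normalizer (((Q : Subgroup M).map M.subtype : Subgroup H) : Set H) with hN
        have hpN : p ∣ Nat.card N := by
          have h1 : (M ⊔ N : Subgroup H) = ⊤ := by rw [sup_comm]; exact hFrat
          have h2 : Nat.card H ∣ Nat.card M * Nat.card N := by
            rw [← card_top (G := H), ← h1]
            exact ⟨_, (H91.card_sup_mul_card_inf' (A := M) (X := N) le_normalizer_of_normal).symm⟩
          rw [← hcard, hidx] at h2
          exact Nat.dvd_of_mul_dvd_mul_left Nat.card_pos h2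
        obtain ⟨u, hu⟩ := exists_prime_orderOf_dvd_card' (G := N) p hpN
        rw [← orderOf_coe] at hu
        obtain ⟨g, hg⟩ := hconj u x hu hx
        have hQp : IsPGroup q ((Q : Subgroup M).map M.subtype) := Q.2.map _
        have hnorm : ∀ t ∈ (Q : Subgroup M).map M.subtype,
            (u : H) * t * (u : H)⁻¹ ∈ (Q : Subgroup M).map M.subtype :=
          fun t ht => (mem_normalizer_iff.1 u.2 t).1 ht
        have hcom : ∀ t ∈ (Q : Subgroup M).map M.subtype, Commute (u : H) t := by
          rcases eq_or_ne q 2 with rfl | hq2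
          · exact hG.commute_two_group hQp hp hp2 hu hnorm
              (h5.imp id fun h => Or.inl fun hh => h (hh.mono le_top))
          · obtain ⟨w, hw⟩ := (hG.isCyclic_odd hQp hq2).exists_generator
            intro t ht
            have hwg : ∀ t ∈ (Q : Subgroup M).map M.subtype, t ∈ zpowers (w : H) := fun t ht => by
              obtain ⟨j, hj⟩ := mem_zpowers_iff.1 (hw ⟨t, ht⟩)
              exact ⟨j, congrArg Subtype.val hj⟩
            suffices hcw : Commute (u : H) w by
              obtain ⟨j, rfl⟩ := mem_zpowers_iff.1 (hwg t ht)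
              exact hcw.zpow_right j
            obtain ⟨m, hm⟩ := IsPGroup.iff_orderOf.1 hQp w
            rw [← orderOf_coe] at hm
            rcases m with _ | m
            · rw [pow_zero, orderOf_eq_one_iff] at hm
              rw [hm]; exact Commute.one_right _
            refine commute_of_coprime_of_socle (N := p) hq hm (hwg _ (hnorm w w.2)) ?_
              (fun h => hqp ((Nat.prime_dvd_prime_iff_eq hq hp).1 h)) ?_
            · rw [show (u : H) ^ p = 1 from hu ▸ pow_orderOf_eq_one _]
              exact Commute.one_left _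
            · have ho : orderOf ((w : H) ^ q ^ m) = q := by
                rw [orderOf_pow_of_dvd (pow_ne_zero _ hq.ne_zero) (hm ▸ pow_dvd_pow q (by omega)),
                  hm, Nat.pow_div (by omega) hq.pos, show m + 1 - m = 1 by omega, pow_one]
              refine hG.commute_of_normalizes hq hp hu ho ?_
              rw [← conj_pow]
              obtain ⟨j, hj⟩ := mem_zpowers_iff.1 (hwg _ (hnorm w w.2))
              exact ⟨j, by
                rw [← hj]
                show ((w : H) ^ q ^ m) ^ j = ((w : H) ^ j) ^ q ^ m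
                rw [← zpow_natCast, ← zpow_natCast, ← zpow_mul, ← zpow_mul, mul_comm]⟩
        have hle : (Q : Subgroup M).map M.subtype ≤ centralizer ({(u : H)} : Set H) := fun t ht =>
          mem_centralizer_singleton_iff.2 (hcom t ht).symm.eq
        have hle2 : ((Q : Subgroup M).map M.subtype).map (MulAut.conj g).toMonoidHom ≤
            centralizer ({x} : Set H) := by
          rintro _ ⟨t, ht, rfl⟩
          have hc := (hcom t ht)
          have hxg : x ∈ (zpowers (u : H)).map (MulAut.conj g).toMonoidHom := hg ▸ mem_zpowers x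
          obtain ⟨w, hw, hwx⟩ := hxg
          obtain ⟨j, rfl⟩ := mem_zpowers_iff.1 hw
          rw [mem_centralizer_singleton_iff, ← hwx]
          exact ((hc.zpow_left j).symm.map (MulAut.conj g).toMonoidHom).eq
        refine dvd_trans ?_ (Subgroup.card_dvd_of_le hle2)
        rw [Subgroup.card_map_of_injective (MulAut.conj g).injective,
          Subgroup.card_map_of_injective M.subtype_injective]
        refine Q.pow_dvd_card_of_pow_dvd_card ?_
        rw [← hcard, hidx] at hk
        exact ((Nat.coprime_primes hq hp).2 hqp |>.pow_left k).dvd_of_dvd_mul_right hk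
    have heq : Nat.card (centralizer ({x} : Set H)) = Nat.card H :=
      Nat.dvd_antisymm (Subgroup.card_subgroup_dvd_card _)
        ((Nat.dvd_iff_prime_pow_dvd_dvd _ _).2 fun q k hq hk => hdvd q k hq hk)
    rw [mem_center_iff]
    intro g
    have hg : g ∈ centralizer ({x} : Set H) := by
      rw [Subgroup.eq_top_of_card_eq _ heq]; exact mem_top g
    exact mem_centralizer_singleton_iff.1 hg
  obtain ⟨g, hg⟩ := hconj x y hx hy
  rw [← hg, MonoidHom.map_zpowers]
  congr 1
  show x = g * x * g⁻¹
  rw [mem_center_iff.1 hcent g, mul_inv_cancel_right]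

variable (hG : PQGroup G)
include hG

/-- Uniqueness inside a solvable subgroup. -/
theorem zpowers_eq {H : Subgroup G} (hsol : Group.IsSolvable H) {p : ℕ} (hp : p.Prime)
    (hp2 : p ≠ 2) (h5 : 5 ≤ p ∨ ¬ HasQPair H) {x y : G} (hx : x ∈ H) (hy : y ∈ H)
    (hox : orderOf x = p) (hoy : orderOf y = p) : zpowers x = zpowers y := by
  have := congrArg (Subgroup.map H.subtype) (subgroups_prime_eq _ H rfl (hG.subgroup H) hsol p hp
    hp2 (h5.imp id fun h hh => h (hasQPair_top_iff.1 hh)) ⟨x, hx⟩ ⟨y, hy⟩
    (by rw [← orderOf_coe]; exact hox) (by rw [← orderOf_coe]; exact hoy))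
  rwa [MonoidHom.map_zpowers, MonoidHom.map_zpowers] at this

omit hG in
/-- A nonsolvable subgroup has a perfect core invariant under its normalizer. -/
theorem exists_perfect_core {H : Subgroup G} (hH : ¬ Group.IsSolvable H) :
    ∃ S : Subgroup G, S ≤ H ∧ S ≠ ⊥ ∧ ⁅S, S⁆ = S ∧
      ∀ g : G, H.map (MulAut.conj g).toMonoidHom = H → S.map (MulAut.conj g).toMonoidHom = S := by
  classical
  have hK : ∀ n, (derivedSeries H n).map H.subtype = dSeries H n := by
    intro n
    induction n with
    | zero => rw [derivedSeries_zero, ← MonoidHom.range_eq_map, H.range_subtype]; rfl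
    | succ n ih => rw [derivedSeries_succ, map_commutator, ih]; rfl
  have hsucc : ∀ n, dSeries H (n + 1) ≤ dSeries H n := fun n => by
    rw [← hK, ← hK]
    exact map_mono (derivedSeries_antitone H (Nat.le_succ n))
  obtain ⟨m, hm⟩ : ∃ m, ∀ n, Nat.card (dSeries H m) ≤ Nat.card (dSeries H n) := by
    have hex : ∃ v, ∃ n, Nat.card (dSeries H n) = v := ⟨_, 0, rfl⟩
    obtain ⟨m, hm⟩ := Nat.find_spec hex
    exact ⟨m, fun n => hm.trans_le (Nat.find_min' hex ⟨n, rfl⟩)⟩
  refine ⟨dSeries H m, ?_, ?_, eq_of_le_of_card_ge (hsucc m) (hm (m + 1)), ?_⟩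
  · rw [← hK]
    exact map_subtype_le _
  · intro h
    rw [← hK, map_eq_bot_iff_of_injective _ H.subtype_injective] at h
    exact hH ((Group.isSolvable_def _).2 ⟨m, h⟩)
  · intro g hg
    clear hm
    induction m with
    | zero => exact hg
    | succ n ih =>
      show (⁅dSeries H n, dSeries H n⁆ : Subgroup G).map _ = ⁅dSeries H n, dSeries H n⁆
      rw [map_commutator, ih]

omit hG in
theorem commutator_top_of_perfect {S : Subgroup G} (hS : ⁅S, S⁆ = S) : commutator S = ⊤ := by
  refine Subgroup.map_injective S.subtype_injective ?_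
  rw [map_subtype_commutator, hS, ← MonoidHom.range_eq_map, S.range_subtype]

omit hG in
/-- Elements of a perfect subgroup normalizing a cyclic subgroup centralize it. -/
theorem commute_of_perfect {S : Subgroup G} (hS : ⁅S, S⁆ = S) {x : G}
    (hn : ∀ s ∈ S, s * x * s⁻¹ ∈ zpowers x) : ∀ s ∈ S, Commute s x := by
  intro s hs
  have hle : ⁅S, S⁆ ≤ centralizer ({x} : Set G) :=
    commutator_le.2 fun a ha b hb =>
      mem_centralizer_singleton_iff.2 (commute_commutator (hn a ha) (hn b hb)).eq
  exact mem_centralizer_singleton_iff.1 (hle (hS.symm ▸ hs))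

section Perfect

variable (hperf : commutator G = ⊤)
include hperf

omit hG in
theorem hom_comm_eq_one {A : Type*} [CommGroup A] (f : G →* A) (g : G) : f g = 1 :=
  f.mem_ker.1 (Abelianization.commutator_subset_ker f (hperf.symm ▸ mem_top g))

/-- Burnside: in a perfect group every element of odd prime order is moved by an element
normalizing its subgroup. -/
theorem exists_not_commute_sylow {x : G} {p : ℕ} [Fact p.Prime] (hp2 : p ≠ 2)
    (hx : orderOf x = p) (P : Sylow p G) (hxP : x ∈ (P : Subgroup G)) :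
    ∃ g ∈ normalizer ((P : Subgroup G) : Set G), g * x * g⁻¹ ∈ zpowers x ∧ ¬ Commute g x := by
  have hp : p.Prime := Fact.out
  have hcyc := hG.isCyclic_odd P.2 hp2
  obtain ⟨g, hgN, hgC⟩ : ∃ g ∈ normalizer ((P : Subgroup G) : Set G),
      g ∉ centralizer ((P : Subgroup G) : Set G) := by
    by_contra hno
    push Not at hno
    have hle : normalizer ((P : Subgroup G) : Set G) ≤ centralizer ((P : Subgroup G) : Set G) :=
      hno
    have hc := MonoidHom.ker_transferSylow_isComplement' P hle
    have hK : (MonoidHom.transferSylow P hle).ker = ⊤ := by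
      letI : CommGroup (P : Subgroup G) := IsCyclic.commGroup
      refine eq_top_iff.2 fun g _ => ?_
      exact hom_comm_eq_one hperf (MonoidHom.transferSylow P hle) g
    rw [hK] at hc
    have h1 := hc.card_mul_card
    rw [card_top] at h1
    have h2 : Nat.card (P : Subgroup G) = 1 :=
      Nat.eq_of_mul_eq_mul_left Nat.card_pos (h1.trans (mul_one _).symm)
    have h3 := Subgroup.orderOf_dvd_natCard _ hxP
    rw [h2, Nat.dvd_one, hx] at h3
    exact hp.ne_one h3
  obtain ⟨y, hy⟩ := hcyc.exists_generator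
  have hyP : ∀ t ∈ (P : Subgroup G), t ∈ zpowers (y : G) := fun t ht => by
    obtain ⟨j, hj⟩ := mem_zpowers_iff.1 (hy ⟨t, ht⟩)
    exact ⟨j, congrArg Subtype.val hj⟩
  obtain ⟨m, hm⟩ := IsPGroup.iff_orderOf.1 P.2 y
  rw [← orderOf_coe] at hm
  obtain ⟨k, rfl⟩ : ∃ k, m = k + 1 := by
    refine Nat.exists_eq_succ_of_ne_zero ?_
    rintro rfl
    rw [pow_zero, orderOf_eq_one_iff] at hm
    obtain ⟨j, hj⟩ := mem_zpowers_iff.1 (hyP x hxP)
    rw [hm, one_zpow] at hj
    exact hp.ne_one (by rw [← hx, ← hj, orderOf_one])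
  -- `x` generates the socle of `P`
  have hyo : orderOf ((y : G) ^ p ^ k) = p := by
    rw [orderOf_pow_of_dvd (pow_ne_zero _ hp.ne_zero) (hm ▸ pow_dvd_pow p (by omega)), hm,
      Nat.pow_div (by omega) hp.pos, show k + 1 - k = 1 by omega, pow_one]
  have hz : zpowers x = zpowers ((y : G) ^ p ^ k) :=
    H41.eq_of_card_eq_of_le_cyclic (C := zpowers (y : G)) inferInstance
      (zpowers_le.2 (hyP x hxP)) (zpowers_le.2 (pow_mem (mem_zpowers _) _))
      (by rw [Nat.card_zpowers, Nat.card_zpowers, hx, hyo])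
  -- split off the `p`-part of `g`
  obtain ⟨e, N, hN, heN⟩ := Nat.exists_eq_pow_mul_and_not_dvd (orderOf_pos g).ne' p hp.ne_one
  have hnorm : ∀ j : ℕ, (g ^ j) * (y : G) * (g ^ j)⁻¹ ∈ zpowers (y : G) := fun j =>
    hyP _ ((mem_normalizer_iff.1 (pow_mem hgN j) _).1 y.2)
  have hgy : ¬ Commute g (y : G) := fun hc => hgC (mem_centralizer_iff.2 fun t ht => by
    obtain ⟨j, rfl⟩ := mem_zpowers_iff.1 (hyP t ht)
    exact ((hc.zpow_right j).eq).symm)
  refine ⟨g ^ p ^ e, pow_mem hgN _, ?_, fun hc => hgy ?_⟩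
  · have h1 := hnorm (p ^ e)
    rw [← mem_normalizer_zpowers_iff] at h1 ⊢
    rw [hz]
    rw [mem_normalizer_zpowers_iff] at h1 ⊢
    rw [← conj_pow]
    obtain ⟨j, hj⟩ := mem_zpowers_iff.1 h1
    exact ⟨j, by
      rw [← hj]
      show ((y : G) ^ p ^ k) ^ j = ((y : G) ^ j) ^ p ^ k
      rw [← zpow_natCast, ← zpow_natCast, ← zpow_mul, ← zpow_mul, mul_comm]⟩
  · have hsoc : Commute (g ^ p ^ e) ((y : G) ^ p ^ k) := by
      obtain ⟨j, hj⟩ := mem_zpowers_iff.1 (hz.symm ▸ mem_zpowers ((y : G) ^ p ^ k) :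
        (y : G) ^ p ^ k ∈ zpowers x)
      rw [← hj]
      exact hc.zpow_right j
    have hfix : Commute (g ^ p ^ e) (y : G) := by
      refine commute_of_coprime_of_socle (N := N) hp hm (hnorm _) ?_ hN hsoc
      rw [← pow_mul, ← heN, pow_orderOf_eq_one]
      exact Commute.one_left _
    have hpart : Commute (g ^ N) (y : G) := by
      have hmem : g ^ N ∈ (P : Subgroup G) := by
        have hN0 : N ≠ 0 := fun h => hN (h ▸ dvd_zero p)
        have ho : orderOf (g ^ N) = p ^ e := by
          rw [orderOf_pow_of_dvd hN0 (heN ▸ dvd_mul_left N _), heN,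
            Nat.mul_div_cancel _ (Nat.pos_of_ne_zero hN0)]
        have hPg : g ^ N ∈ normalizer ((P : Subgroup G) : Set G) := pow_mem hgN N
        have hsup : IsPGroup p ↥((P : Subgroup G) ⊔ zpowers (g ^ N)) :=
          IsPGroup.to_sup_of_normal_left' P.2
            (IsPGroup.of_card (n := e) (by rw [Nat.card_zpowers, ho])) (zpowers_le.2 hPg)
        exact (P.3 hsup le_sup_left) ▸ mem_sup_right (mem_zpowers _)
      obtain ⟨j, hj⟩ := mem_zpowers_iff.1 (hyP _ hmem)
      rw [← hj]
      exact Commute.zpow_self _ j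
    have hco : Nat.Coprime (p ^ e) N := (hp.coprime_iff_not_dvd.2 hN).pow_left e
    have hg1 : g = (g ^ p ^ e) ^ Nat.gcdA (p ^ e) N * (g ^ N) ^ Nat.gcdB (p ^ e) N := by
      have hb := Nat.gcd_eq_gcd_ab (p ^ e) N
      rw [hco.gcd_eq_one] at hb
      rw [← zpow_natCast, ← zpow_natCast, ← zpow_mul, ← zpow_mul, ← zpow_add, ← hb]
      simp
    rw [hg1]
    exact (hfix.zpow_left _).mul_left (hpart.zpow_left _)

theorem exists_not_commute {x : G} {p : ℕ} (hp : p.Prime) (hp2 : p ≠ 2) (hx : orderOf x = p) :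
    ∃ g : G, g * x * g⁻¹ ∈ zpowers x ∧ ¬ Commute g x := by
  haveI := Fact.mk hp
  obtain ⟨P, hP⟩ := (IsPGroup.of_card (n := 1)
    (by rw [Nat.card_zpowers, hx, pow_one] : Nat.card (zpowers x) = p ^ 1)).exists_le_sylow
  obtain ⟨g, -, h⟩ := hG.exists_not_commute_sylow hperf hp2 hx P (hP (mem_zpowers x))
  exact ⟨g, h⟩

/-- A perfect nontrivial group contains a quaternion pair. -/
theorem hasQPair_of_perfect [Nontrivial G] : HasQPair (⊤ : Subgroup G) := by
  by_contra h
  have hs : Group.IsSolvable G := by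
    haveI := hG.isSolvable_of_not_hasQPair h
    exact Group.isSolvable_of_surjective (f := (⊤ : Subgroup G).subtype)
      fun g => ⟨⟨g, mem_top g⟩, rfl⟩
  exact (Group.IsSolvable.commutator_lt_top_of_nontrivial G).ne hperf

/-- All cyclic subgroups of order four are conjugate. -/
theorem exists_conj_four {i j : G} (hi : orderOf i = 4) (hj : orderOf j = 4) :
    ∃ g : G, g * i * g⁻¹ ∈ zpowers j := by
  classical
  haveI : Fact (Nat.Prime 2) := ⟨Nat.prime_two⟩
  have hne : Nontrivial G := ⟨⟨i, 1, fun h => by rw [h, orderOf_one] at hi; omega⟩⟩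
  obtain ⟨P⟩ : Nonempty (Sylow 2 G) := inferInstance
  have hnc : ¬ IsCyclic (P : Subgroup G) := by
    intro hc
    obtain ⟨i', -, j', -, hq⟩ := hG.hasQPair_of_perfect hperf
    have hi' : IsPGroup 2 (zpowers i') := IsPGroup.of_card (n := 2) (by rw [Nat.card_zpowers, hq.1]; rfl)
    have hj' : IsPGroup 2 (zpowers j') := IsPGroup.of_card (n := 2) (by rw [Nat.card_zpowers, hq.orderOf_snd]; rfl)
    have hn : zpowers j' ≤ normalizer (zpowers i' : Set G) :=
      zpowers_le.2 (mem_normalizer_zpowers_iff.2 (hq.2.1.symm ▸ inv_mem (mem_zpowers i')))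
    have hT : IsPGroup 2 ↥(zpowers i' ⊔ zpowers j') := IsPGroup.to_sup_of_normal_left' hi' hj' hn
    obtain ⟨P', hP'⟩ := hT.exists_le_sylow
    exact hq.not_isCyclic (hP' (mem_sup_left (mem_zpowers _))) (hP' (mem_sup_right (mem_zpowers _)))
      ((P'.equiv P).isCyclic.2 hc)
  obtain ⟨a, x, k, hQ⟩ := hG.exists_quat P.2 hnc
  suffices hkey : ∀ u : G, orderOf u = 4 → ∃ g : G, g * u * g⁻¹ ∈ zpowers (a ^ 2 ^ k) by
    obtain ⟨g₁, h1⟩ := hkey i hi
    obtain ⟨g₂, h2⟩ := hkey j hj
    have heq := zpowers_conj_eq h2 (hj.trans hQ.orderOf_i.symm)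
    rw [← heq] at h1
    refine ⟨g₂⁻¹ * g₁, ?_⟩
    obtain ⟨m, hm⟩ := mem_zpowers_iff.1 h1
    rw [conj_zpow] at hm
    refine ⟨m, ?_⟩
    show j ^ m = _
    calc j ^ m = g₂⁻¹ * (g₂ * j ^ m * g₂⁻¹) * g₂ := by group
      _ = g₂⁻¹ * g₁ * i * (g₂⁻¹ * g₁)⁻¹ := by rw [hm]; group
  intro u hu
  obtain ⟨P', hP'⟩ := (IsPGroup.of_card (n := 2)
    (by rw [Nat.card_zpowers, hu]; rfl : Nat.card (zpowers u) = 2 ^ 2)).exists_le_sylow
  obtain ⟨g₀, hg₀⟩ := MulAction.exists_smul_eq G P' P
  have huP : g₀ * u * g₀⁻¹ ∈ (P : Subgroup G) := by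
    rw [← hg₀]
    exact ⟨u, hP' (mem_zpowers u), rfl⟩
  set v := g₀ * u * g₀⁻¹ with hv
  have hov : orderOf v = 4 :=
    (orderOf_injective (MulAut.conj g₀).toMonoidHom (MulAut.conj g₀).injective u).trans hu
  suffices h : ∃ g : G, g * v * g⁻¹ ∈ zpowers a by
    obtain ⟨g, hg⟩ := h
    refine ⟨g * g₀, ?_⟩
    have h1 : orderOf (g * v * g⁻¹) = 4 :=
      (orderOf_injective (MulAut.conj g).toMonoidHom (MulAut.conj g).injective v).trans hov
    rw [← hQ.zpowers_i_unique hg h1, show g * g₀ * u * (g * g₀)⁻¹ = g * v * g⁻¹ by rw [hv]; group]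
    exact mem_zpowers _
  by_contra hno
  push Not at hno
  have := Fintype.ofFinite (G ⧸ zpowers a)
  let f : G →* ℤˣ := Equiv.Perm.sign.comp (MulAction.toPermHom G (G ⧸ zpowers a))
  set σ := MulAction.toPermHom G (G ⧸ zpowers a) v with hσ
  have hfix : ∀ q : G ⧸ zpowers a, v • q ≠ q := by
    intro q
    induction q using QuotientGroup.induction_on with
    | H g =>
      intro he
      rw [MulAction.Quotient.smul_mk, QuotientGroup.eq] at he
      have := (zpowers a).inv_mem he
      exact hno g⁻¹ (by simpa [smul_eq_mul, mul_assoc] using this)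
  have hsq : σ ^ 2 = 1 := by
    have h1 : v ^ 2 = a ^ 2 ^ (k + 1) := by
      refine hG.involution_unique ?_ ?_
      · rw [orderOf_pow_of_dvd two_ne_zero (hov ▸ (by norm_num)), hov]
      · rw [orderOf_pow_of_dvd (by positivity) (hQ.ord ▸ pow_dvd_pow 2 (by omega)), hQ.ord,
          Nat.pow_div (by omega) two_pos, show k + 2 - (k + 1) = 1 by omega, pow_one]
    ext q
    rw [hσ, ← map_pow, h1, Equiv.Perm.one_apply, MulAction.toPermHom_apply,
      MulAction.toPerm_apply]
    induction q using QuotientGroup.induction_on with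
    | H g =>
      rw [MulAction.Quotient.smul_mk, QuotientGroup.eq, smul_eq_mul]
      have hz : Commute g (a ^ 2 ^ (k + 1)) := hG.commute_involution (by
        rw [orderOf_pow_of_dvd (by positivity) (hQ.ord ▸ pow_dvd_pow 2 (by omega)), hQ.ord,
          Nat.pow_div (by omega) two_pos, show k + 2 - (k + 1) = 1 by omega, pow_one]) g
      rw [← hz.eq, mul_inv_rev, mul_assoc, inv_mul_cancel, mul_one]
      exact inv_mem (pow_mem (mem_zpowers a) _)
  have hidx : (zpowers a).index = 2 * (P : Subgroup G).index := by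
    have h1 := (zpowers a).card_mul_index
    have h2 := (P : Subgroup G).card_mul_index
    rw [Nat.card_zpowers, hQ.ord] at h1
    rw [hQ.card, pow_succ] at h2
    refine Nat.eq_of_mul_eq_mul_left (Nat.two_pow_pos (k + 2)) ?_
    rw [h1, ← h2]; ring
  have hm : ¬ 2 ∣ (P : Subgroup G).index := P.not_dvd_index
  have hsupp : σ.support = Finset.univ := by
    ext q; simp [hσ, hfix q]
  have hct : ∀ c ∈ σ.cycleType, c = 2 := by
    intro c hc
    have h1 := (Equiv.Perm.dvd_of_mem_cycleType hc).trans (orderOf_dvd_of_pow_eq_one hsq)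
    exact ((Nat.dvd_prime Nat.prime_two).mp h1).resolve_left
      (Equiv.Perm.one_lt_of_mem_cycleType hc).ne'
  have hrep := Multiset.eq_replicate_card.mpr hct
  have hkm : Multiset.card σ.cycleType = (P : Subgroup G).index := by
    have h1 := Equiv.Perm.sum_cycleType σ
    rw [hrep, Multiset.sum_replicate, smul_eq_mul, hsupp, Finset.card_univ,
      ← Nat.card_eq_fintype_card, ← index_eq_card, hidx] at h1
    omega
  have hfv : f v = -1 := by
    change Equiv.Perm.sign σ = -1
    rw [Equiv.Perm.sign_of_cycleType, hrep, Multiset.sum_replicate, Multiset.card_replicate,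
      hkm, smul_eq_mul, pow_add, pow_mul']
    norm_num [Odd.neg_one_pow (Nat.odd_iff.mpr (by omega : (P : Subgroup G).index % 2 = 1))]
  exact absurd (hfv.symm.trans (hom_comm_eq_one hperf f v)) (by decide)

end Perfect

end PQGroup

end Cfsg.Agent.H78.Zass
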