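import Cfsg.Agent.H78.Zass.Core
import Cfsg.Agent.H78.Zass.Char
import Mathlib.FieldTheory.Finite.Basic
import Mathlib.Tactic.Linarith

/-!
# A perfect `PQGroup` with a fixed-point-free character has order 120
-/

set_option autoImplicit false
set_option linter.unusedSectionVars false
set_option linter.style.haveILetI false

namespace Cfsg.Agent.H78.Zass

open Subgroup

variable {G : Type*} [Group G] [Finite G]

theorem three_mul_totient {M : ℕ} (hM : 0 < M) (h2 : 2 ∣ M) (h3 : 3 ∣ M) : 3 * M.totient ≤ M := by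
  obtain ⟨i, m, hm, hMm⟩ := Nat.exists_eq_pow_mul_and_not_dvd hM.ne' 2 (by norm_num)
  obtain ⟨j, l, hl, hml⟩ := Nat.exists_eq_pow_mul_and_not_dvd
    (show m ≠ 0 from fun h => hm (h ▸ dvd_zero 2)) 3 (by norm_num)
  rcases i with _ | i
  · exact absurd (by simpa [hMm] using h2) hm
  rcases j with _ | j
  · exfalso
    refine hl ?_
    have h3m : 3 ∣ m := (Nat.Coprime.dvd_mul_left ((by norm_num : Nat.Coprime 3 2).pow_right (i + 1))).1
      (hMm ▸ h3)
    simpa [hml] using h3m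
  have hc2 : Nat.Coprime (2 ^ (i + 1)) m := ((Nat.prime_two.coprime_iff_not_dvd).2 hm).pow_left _
  have hc3 : Nat.Coprime (3 ^ (j + 1)) l := ((Nat.prime_three.coprime_iff_not_dvd).2 hl).pow_left _
  rw [hMm, Nat.totient_mul hc2, hml, Nat.totient_mul hc3,
    Nat.totient_prime_pow_succ Nat.prime_two, Nat.totient_prime_pow_succ Nat.prime_three]
  calc 3 * (2 ^ i * (2 - 1) * (3 ^ j * (3 - 1) * l.totient))
      = 2 ^ (i + 1) * (3 ^ (j + 1) * l.totient) := by
        norm_num [pow_succ]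
        ring
    _ ≤ _ := Nat.mul_le_mul le_rfl (Nat.mul_le_mul le_rfl (Nat.totient_le l))

theorem one_div_natCast_le {m b : ℕ} (hm : 0 < m) (h : m ≤ b) : (1 : ℚ) / b ≤ 1 / m :=
  one_div_le_one_div_of_le (by exact_mod_cast hm) (by exact_mod_cast h)

theorem ncard_conjUnion_union {S T : Set G} (h : Disjoint S T) :
    ((S ∪ T).ncard : ℚ) = S.ncard + T.ncard := by
  exact_mod_cast Set.ncard_union_eq h (Set.toFinite _) (Set.toFinite _)

theorem sq_ne_one_of_mem_conjUnion {S : Set G} (hS : ∀ s ∈ S, s ^ 2 ≠ 1) :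
    ∀ t ∈ conjUnion S, t ^ 2 ≠ 1 := by
  rintro _ ⟨g, s, hs, rfl⟩ h
  rw [conj_pow, conj_eq_one_iff] at h
  exact hS s hs h

theorem ncard_add_two_le {S : Set G} {z : G} (hz : orderOf z = 2) (hS : ∀ t ∈ S, t ^ 2 ≠ 1) :
    (S.ncard : ℚ) + 2 ≤ Nat.card G := by
  have hz1 : (1 : G) ≠ z := fun h => by rw [← h, orderOf_one] at hz; omega
  have hd : Disjoint S {1, z} := Set.disjoint_left.2 fun t ht h => by
    rcases h with rfl | rfl
    · exact hS _ ht (one_pow 2)
    · exact hS _ ht (hz ▸ pow_orderOf_eq_one _)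
  have h1 := ncard_conjUnion_union hd
  rw [Set.ncard_pair hz1] at h1
  have h2 : ((S ∪ {1, z}).ncard : ℚ) ≤ Nat.card G := by
    exact_mod_cast (Set.ncard_le_ncard (Set.subset_univ _) (Set.toFinite _)).trans_eq
      (Set.ncard_univ G)
  rw [h1] at h2
  exact_mod_cast h2

/-- A power of order four or of odd prime order. -/
theorem exists_key_power {v : G} (hv : v ^ 2 ≠ 1) :
    ∃ w ∈ zpowers v, orderOf w = 4 ∨ ((orderOf w).Prime ∧ orderOf w ≠ 2) := by
  obtain ⟨o, ho, h, hh, hoh, hoo, e, he⟩ := exists_parts v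
  by_cases ho1 : o = 1
  · rw [ho1, one_mul] at hoh
    subst hoh
    refine ⟨h ^ 2 ^ (e - 2), pow_mem (mem_zpowers h) _, Or.inl ?_⟩
    have he2 : 2 ≤ e := by
      by_contra hlt
      refine hv (orderOf_dvd_iff_pow_eq_one.1 (he ▸ ?_))
      exact (pow_dvd_pow 2 (show e ≤ 1 by omega)).trans (dvd_of_eq (pow_one 2))
    rw [orderOf_pow_of_dvd (by positivity) (he ▸ pow_dvd_pow 2 (by omega)), he,
      Nat.pow_div (by omega) two_pos, show e - (e - 2) = 2 by omega]
    norm_num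
  · obtain ⟨w, hw, hwp, hw2⟩ := exists_odd_prime_power_mem ho1 hoo
    exact ⟨w, zpowers_le.2 ho hw, Or.inr ⟨hwp, hw2⟩⟩

/-- The noncentral part of the centralizer of an element of order four. -/
def fourCent (i : G) : Set G := {v | Commute v i ∧ v ^ 2 ≠ 1}

namespace Base

variable {P : Sylow 2 G} {a x : G} {k : ℕ} (B : Base P a x k)
include B

theorem orderOf_z : orderOf (a ^ 2 ^ (k + 1)) = 2 := by
  rw [orderOf_pow_of_dvd (by positivity) (B.quat.ord ▸ pow_dvd_pow 2 (by omega)), B.quat.ord,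
    Nat.pow_div (by omega) two_pos, show k + 2 - (k + 1) = 1 by omega, pow_one]

theorem fourCent_TI (g v : G) (hv : v ∈ fourCent (a ^ 2 ^ k))
    (hgv : g * v * g⁻¹ ∈ fourCent (a ^ 2 ^ k)) :
    g ∈ normalizer (zpowers (a ^ 2 ^ k) : Set G) := by
  obtain ⟨c, O, hU, -, -, -, -, -⟩ := B.exists_U
  obtain ⟨w, hw, hw'⟩ := exists_key_power hv.2
  have hwi : Commute w (a ^ 2 ^ k) := commute_of_mem_zpowers hw hv.1
  have hgwi : Commute (g * w * g⁻¹) (a ^ 2 ^ k) :=
    commute_of_mem_zpowers (conj_mem_zpowers_conj hw) hgv.1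
  have hmem : ∀ t : G, Commute t (a ^ 2 ^ k) → t ∈ zpowers c := fun t ht =>
    hU ▸ mem_centralizer_of_commute ht
  rw [mem_normalizer_zpowers_iff]
  rcases hw' with h4 | ⟨hwp, hw2⟩
  · have e1 := mem_zpowers_of_cyclic inferInstance (hmem _ hwi) (hmem _ (Commute.refl _))
      (h4.trans B.orderOf_i.symm)
    have e2 := mem_zpowers_of_cyclic inferInstance (hmem _ hgwi) (hmem _ (Commute.refl _))
      ((orderOf_conj' g w).trans (h4.trans B.orderOf_i.symm))
    obtain ⟨j, hj⟩ := mem_zpowers_iff.1 (e1 ▸ mem_zpowers (a ^ 2 ^ k))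
    rw [← e2]
    refine ⟨j, ?_⟩
    show (g * w * g⁻¹) ^ j = g * a ^ 2 ^ k * g⁻¹
    rw [conj_zpow, hj]
  · have e2 := mem_zpowers_of_cyclic inferInstance (hmem _ hgwi) (hmem _ hwi) (orderOf_conj' g w)
    have hgN : g ∈ normalizer (zpowers w : Set G) :=
      mem_normalizer_zpowers_iff.2 (e2 ▸ mem_zpowers _)
    have h1 : g * a ^ 2 ^ k * g⁻¹ ∈ centralizer ({a ^ 2 ^ k} : Set G) := by
      rw [← B.centralizer_prime hwp hw2 hwi]
      exact mem_centralizer_of_commute (commute_conj_of_normalizes hgN hwi.symm)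
    rw [← mem_zpowers_of_cyclic inferInstance (hmem _ (mem_centralizer_singleton_iff.1 h1))
      (hmem _ (Commute.refl _)) (orderOf_conj' g _)]
    exact mem_zpowers _

/-- The data of the centralizer of an element of order four. -/
theorem u_data : ∃ (c : G) (u : ℕ), 0 < u ∧ 2 ∣ u ∧ 2 ^ (k + 1) ∣ u ∧
    centralizer ({a ^ 2 ^ k} : Set G) = zpowers c ∧ orderOf c = 2 * u ∧
    Nat.card (normalizer (zpowers (a ^ 2 ^ k) : Set G)) = 4 * u ∧
    ((conjUnion (fourCent (a ^ 2 ^ k))).ncard : ℚ) = Nat.card G * (1 / 2 - (1 / (u : ℚ)) / 2) ∧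
    (3 ∣ u ↔ ∃ w : G, orderOf w = 3 ∧ Commute w (a ^ 2 ^ k)) := by
  obtain ⟨c, O, hU, -, -, -, hco, -⟩ := B.exists_U
  set u := Nat.card O * 2 ^ (k + 1) with hu
  have hc : orderOf c = 2 * u := by rw [hco, hu, pow_succ]; ring
  have hupos : 0 < u := Nat.mul_pos Nat.card_pos (by positivity)
  have hN : Nat.card (normalizer (zpowers (a ^ 2 ^ k) : Set G)) = 4 * u := by
    rw [B.card_N, hU, Nat.card_zpowers, hc]; ring
  have hz := B.orderOf_z
  have hset : fourCent (a ^ 2 ^ k) = (zpowers c : Set G) \ {1, a ^ 2 ^ (k + 1)} := by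
    ext v
    simp only [fourCent, Set.mem_setOf_eq, Set.mem_diff, SetLike.mem_coe, Set.mem_insert_iff,
      Set.mem_singleton_iff, ← hU]
    constructor
    · rintro ⟨h1, h2⟩
      refine ⟨mem_centralizer_of_commute h1, ?_⟩
      rintro (rfl | rfl)
      · exact h2 (one_pow 2)
      · exact h2 (orderOf_dvd_iff_pow_eq_one.1 (by rw [hz]))
    · rintro ⟨h1, h2⟩
      exact ⟨mem_centralizer_singleton_iff.1 h1, fun h => h2 (B.pq.eq_one_or_eq_of_sq hz h)⟩
  have hncard : (fourCent (a ^ 2 ^ k)).ncard = 2 * u - 2 := by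
    have hz1 : (1 : G) ≠ a ^ 2 ^ (k + 1) := fun h => by rw [← h, orderOf_one] at hz; omega
    rw [hset, Set.ncard_sdiff (by
      rintro v (rfl | rfl)
      · exact one_mem _
      · rw [← hU]
        exact mem_centralizer_of_commute ((Commute.refl a).pow_pow _ _)),
      Set.ncard_pair hz1, ← Nat.card_coe_set_eq,
      show Nat.card ((zpowers c : Set G) : Type _) = Nat.card (zpowers c) from rfl,
      Nat.card_zpowers, hc]
  refine ⟨c, u, hupos, ⟨Nat.card O * 2 ^ k, by rw [hu, pow_succ]; ring⟩, dvd_mul_left _ _, hU, hc,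
    hN, ?_, ?_⟩
  · rw [ncard_conjUnion_eq (H := normalizer (zpowers (a ^ 2 ^ k) : Set G))
      (fun g hg v hv => (show g * v * g⁻¹ ∈ fourCent (a ^ 2 ^ k) from
        ⟨commute_conj_of_normalizes hg hv.1, fun h => hv.2 (by
          rwa [conj_pow, conj_eq_one_iff] at h)⟩)) (B.fourCent_TI), hncard, hN,
      Nat.cast_sub (by omega)]
    push_cast
    field_simp
    ring
  · constructor
    · intro h3
      refine ⟨c ^ (orderOf c / 3), ?_, ?_⟩
      · exact orderOf_pow_orderOf_div (orderOf_pos c).ne' (hc ▸ h3.mul_left 2)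
      · exact mem_centralizer_singleton_iff.1 (hU ▸ pow_mem (mem_zpowers c) _)
    · rintro ⟨w, hw, hwi⟩
      have h1 : orderOf w ∣ orderOf c := Nat.card_zpowers c ▸
        Subgroup.orderOf_dvd_natCard _ (hU ▸ mem_centralizer_of_commute hwi)
      rw [hw, hc] at h1
      exact (Nat.Coprime.dvd_mul_left (by norm_num)).1 h1

/-- Conjugates of elements centralizing an element of order four centralize `a ^ 2 ^ k`. -/
theorem exists_conj_commute {t w : G} (ht : orderOf t = 4) (hc : Commute t w) :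
    ∃ g : G, Commute (g * w * g⁻¹) (a ^ 2 ^ k) := by
  obtain ⟨g, hg⟩ := B.pq.exists_conj_four B.perf ht B.orderOf_i
  exact ⟨g, commute_of_zpowers_eq (zpowers_conj_eq hg (ht.trans B.orderOf_i.symm))
    (commute_conj hc.symm)⟩

theorem classify {v : G} (hv : v ^ 2 ≠ 1) :
    v ∈ conjUnion (fourCent (a ^ 2 ^ k)) ∨ ∃ y : G, Comp y ∧ v ∈ compSet y := by
  have hback : ∀ g : G, Commute (g * v * g⁻¹) (a ^ 2 ^ k) →
      v ∈ conjUnion (fourCent (a ^ 2 ^ k)) := fun g hg =>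
    ⟨g⁻¹, g * v * g⁻¹, ⟨hg, fun h => hv (by rwa [conj_pow, conj_eq_one_iff] at h)⟩, by group⟩
  obtain ⟨y, hy, hy'⟩ := exists_key_power hv
  have hvy : Commute v y := (commute_of_mem_zpowers hy (Commute.refl v)).symm
  rcases hy' with h4 | ⟨hyp, hy2⟩
  · obtain ⟨g, hg⟩ := B.exists_conj_commute h4 hvy.symm
    exact Or.inl (hback g hg)
  by_cases hcomp : Comp y
  · exact Or.inr ⟨y, hcomp, hvy, hv⟩
  obtain ⟨w, hwy, hwp, hw2, t, ht, htw⟩ : ∃ w : G, Commute w y ∧ (orderOf w).Prime ∧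
      orderOf w ≠ 2 ∧ ∃ t : G, orderOf t = 4 ∧ Commute t w := by
    by_contra hno
    push Not at hno
    exact hcomp ⟨hyp, hy2, fun w h1 h2 h3 u h4 h5 => hno w h1 h2 h3 u h4 h5⟩
  obtain ⟨g, hg⟩ := B.exists_conj_commute ht htw
  have h1 : Commute (g * y * g⁻¹) (a ^ 2 ^ k) := mem_centralizer_singleton_iff.1 (by
    rw [← B.centralizer_prime (by rw [orderOf_conj']; exact hwp) (by rw [orderOf_conj']; exact hw2) hg]
    exact mem_centralizer_of_commute (commute_conj hwy.symm))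
  refine Or.inl (hback g (mem_centralizer_singleton_iff.1 ?_))
  rw [← B.centralizer_prime (by rw [orderOf_conj']; exact hyp) (by rw [orderOf_conj']; exact hy2) h1]
  exact mem_centralizer_of_commute (commute_conj hvy)

theorem disjoint_fourCent {y : G} (hy : Comp y) :
    Disjoint (conjUnion (fourCent (a ^ 2 ^ k))) (conjUnion (compSet y)) := by
  rw [Set.disjoint_left]
  rintro t ⟨g', v', hv', rfl⟩ ⟨g, v, hv, he⟩
  obtain ⟨w, hw, hwp, hw2, hwC⟩ := hy.exists_prime_mem B.pq B.perf B.ih hv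
  set c := g'⁻¹ * g with hc
  have hvc : c * v * c⁻¹ = v' := by
    rw [hc, show g'⁻¹ * g * v * (g'⁻¹ * g)⁻¹ = g'⁻¹ * (g * v * g⁻¹) * g' by group, he]
    group
  have h1 : Commute (c * w * c⁻¹) (a ^ 2 ^ k) :=
    commute_of_mem_zpowers (hvc ▸ conj_mem_zpowers_conj hw) hv'.1
  have h2 : Commute w (c⁻¹ * a ^ 2 ^ k * c) := by
    have := commute_conj (g := c⁻¹) h1
    rwa [inv_inv, show c⁻¹ * (c * w * c⁻¹) * c = w by group] at this
  have hwy : Commute w y := by
    have : y ∈ centralizer ({w} : Set G) := by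
      rw [hwC]; exact mem_centralizer_of_commute (Commute.refl y)
    exact (mem_centralizer_singleton_iff.1 this : Commute y w).symm
  refine hy.noFour w hwy hwp hw2 _ ?_ h2.symm
  rw [show c⁻¹ * a ^ 2 ^ k * c = c⁻¹ * a ^ 2 ^ k * c⁻¹⁻¹ by rw [inv_inv], orderOf_conj', B.orderOf_i]

theorem disjoint_comp {y y' v : G} (hy : Comp y) (hy' : Comp y') (hv : v ∈ compSet y')
    (hvn : v ∉ conjUnion (compSet y)) :
    Disjoint (conjUnion (compSet y)) (conjUnion (compSet y')) :=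
  Set.disjoint_left.2 fun _ h1 h2 =>
    hvn (hy.conjUnion_subset B.pq B.perf B.ih hy' h1 h2 (mem_conjUnion_self hv))

/-- The data of a component. -/
theorem comp_data {y : G} (hy : Comp y) : ∃ (c : G) (b e : ℕ), Odd b ∧ orderOf y ∣ b ∧
    centralizer ({y} : Set G) = zpowers c ∧ orderOf c = 2 * b ∧
    Nat.card (normalizer (zpowers y : Set G)) = 2 * b * e ∧ (∃ m, e = 2 ^ m ∧ 1 ≤ m) ∧
    e ∣ 2 ^ (k + 1) ∧ e ∣ orderOf y - 1 ∧
    (∀ (χ : G → ℂ) (n : ℕ), FPFChar G χ → χ 1 = n → e ≤ n) ∧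
    ((conjUnion (compSet y)).ncard : ℚ) = Nat.card G * ((1 - 1 / (b : ℚ)) / e) := by
  have hz := B.orderOf_z
  obtain ⟨b, e, hb, hyb, hC, hN, hncard, ⟨m, hm, hm1⟩, h, a', t, ha', ht, h2e, hae⟩ :=
    hy.exists_data B.pq B.perf B.ih hz
  obtain ⟨K, hK, hKodd, hKiff⟩ := B.pq.exists_oddPart (B.pq.noQPair_of_noFour hy.noFour')
  haveI := B.pq.isCyclic_of_odd B.perf B.ih hKodd
  obtain ⟨⟨κ, hκ⟩, hgen⟩ := (inferInstance : IsCyclic K).exists_generator
  set z := a ^ 2 ^ (k + 1) with hzdef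
  have hzc : ∀ g : G, Commute g z := fun g => B.pq.commute_involution hz g
  have hc : centralizer ({y} : Set G) = zpowers (κ * z) := by
    refine le_antisymm (fun g hg => ?_) (zpowers_le.2 (mul_mem (hK hκ)
      (mem_centralizer_of_commute (hzc y).symm)))
    have hκ1 : κ ^ orderOf κ = 1 := pow_orderOf_eq_one κ
    have hzmem : z ∈ zpowers (κ * z) := by
      refine ⟨(orderOf κ : ℤ), ?_⟩
      show (κ * z) ^ ((orderOf κ : ℕ) : ℤ) = z
      rw [zpow_natCast, (hzc κ).mul_pow, hκ1, one_mul,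
        ← pow_mod_orderOf, hz, Nat.odd_iff.1 ((hKiff κ (hK hκ)).1 hκ), pow_one]
    have hκmem : κ ∈ zpowers (κ * z) := (mul_mem_cancel_right hzmem).1 (mem_zpowers _)
    obtain ⟨o, ho, h, hh, hoh, hoo, e', he'⟩ := exists_parts g
    have hgy : Commute g y := mem_centralizer_singleton_iff.1 hg
    rw [← hoh]
    refine mul_mem ?_ ?_
    · have hoK : o ∈ K :=
        (hKiff o (mem_centralizer_of_commute (commute_of_mem_zpowers ho hgy))).2 hoo
      obtain ⟨j, hj⟩ := mem_zpowers_iff.1 (hgen ⟨o, hoK⟩)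
      rw [← show κ ^ j = o from congrArg Subtype.val hj]
      exact zpow_mem hκmem j
    · rcases B.pq.eq_one_or_eq_of_sq hz
        (B.pq.sq_eq_one_of_noFour hy.noFour' (commute_of_mem_zpowers hh hgy) he') with rfl | rfl
      · exact one_mem _
      · exact hzmem
  haveI := Fact.mk hy.prime
  refine ⟨κ * z, b, e, hb, hyb, hc, by rw [← Nat.card_zpowers, ← hc, hC], hN, ⟨m, hm, hm1⟩, ?_,
    ?_, fun χ n hχ hn => hae ▸ hχ.le_degree hy.prime ha' hn, ?_⟩
  · refine (Nat.mul_dvd_mul_iff_left two_pos).1 ?_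
    rw [← pow_succ']
    exact h2e.trans (B.two_elt_dvd h t ht)
  · rw [← hae]
    refine ZMod.orderOf_dvd_card_sub_one fun h0 => ?_
    rw [ZMod.natCast_eq_zero_iff] at h0
    have h1 : h * y * h⁻¹ = 1 := by rw [ha', orderOf_dvd_iff_pow_eq_one.1 h0]
    rw [conj_eq_one_iff] at h1
    exact hy.prime.ne_one (orderOf_eq_one_iff.2 h1)
  · rw [ncard_conjUnion_eq (H := normalizer (zpowers y : Set G))
      (fun g hg v hv => hy.compSet_conj g v hg hv) (hy.compSet_TI B.pq B.perf B.ih), hncard, hN,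
      Nat.cast_sub (by have := hb.pos; omega)]
    have hb0 : (b : ℚ) ≠ 0 := Nat.cast_ne_zero.2 hb.pos.ne'
    have he0 : (e : ℚ) ≠ 0 := Nat.cast_ne_zero.2 (by rw [hm]; positivity)
    push_cast
    field_simp

set_option maxHeartbeats 1600000 in
theorem card_eq {χ : G → ℂ} (hχ : FPFChar G χ) : Nat.card G = 120 ∧ k = 0 := by
  haveI : Fact (Nat.Prime 3) := ⟨Nat.prime_three⟩
  haveI : Nontrivial G := ⟨⟨a, 1, fun h => by
    have := B.quat.ord
    rw [h, orderOf_one] at this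
    exact absurd this.symm (Nat.one_lt_two_pow (by omega)).ne'⟩⟩
  obtain ⟨n, hn0, hn⟩ := hχ.exists_degree
  have hz := B.orderOf_z
  obtain ⟨c, u, hupos, hu2, huk, hU, hc, hNU, hSU, hu3⟩ := B.u_data
  set SU := conjUnion (fourCent (a ^ 2 ^ k)) with hSUdef
  have hGpos : (0 : ℚ) < Nat.card G := Nat.cast_pos.2 Nat.card_pos
  have hG4 : 4 * u ≤ Nat.card G := hNU ▸ Subgroup.card_le_card_group _
  have hu0 : (0 : ℚ) < u := Nat.cast_pos.2 hupos
  have hG4' : 2 ≤ (Nat.card G : ℚ) * ((1 / (u : ℚ)) / 2) := by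
    rw [show (Nat.card G : ℚ) * ((1 / (u : ℚ)) / 2) = (Nat.card G : ℚ) / (2 * u) by ring,
      le_div_iff₀ (by positivity)]
    have : ((4 * u : ℕ) : ℚ) ≤ Nat.card G := by exact_mod_cast hG4
    push_cast at this
    linarith
  have hSU2 : ∀ t ∈ SU, t ^ 2 ≠ 1 := sq_ne_one_of_mem_conjUnion fun s hs => hs.2
  have hY2 : ∀ y : G, ∀ t ∈ conjUnion (compSet y), t ^ 2 ≠ 1 := fun y =>
    sq_ne_one_of_mem_conjUnion fun s hs => hs.2
  have hnew : ∀ W : Set G, SU ⊆ W → (W.ncard : ℚ) + 2 < Nat.card G →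
      ∃ y v : G, Comp y ∧ v ∈ compSet y ∧ v ∉ W := by
    intro W hW h
    obtain ⟨v, hvW, hv1, hvz⟩ := exists_notMem_of_ncard (z := a ^ 2 ^ (k + 1)) h
    have hv2 : v ^ 2 ≠ 1 := fun h => (B.pq.eq_one_or_eq_of_sq hz h).elim hv1 hvz
    rcases B.classify hv2 with h' | ⟨y, hy, hvy⟩
    · exact absurd (hW h') hvW
    · exact ⟨y, v, hy, hvy, hvW⟩
  have hTIc : ∀ g v : G, v ∈ zpowers c → v ^ 2 ≠ 1 → g * v * g⁻¹ ∈ zpowers c →
      g ∈ normalizer (zpowers (a ^ 2 ^ k) : Set G) := fun g v hv hv2 hgv =>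
    B.fourCent_TI g v ⟨mem_centralizer_singleton_iff.1 (hU ▸ hv), hv2⟩
      ⟨mem_centralizer_singleton_iff.1 (hU ▸ hgv), fun h => hv2 (by
        rwa [conj_pow, conj_eq_one_iff] at h)⟩
  by_cases h3u : 3 ∣ u
  · -- the centralizer of `a ^ 2 ^ k` contains an element of order three
    exfalso
    obtain ⟨w₃, hw₃, hw₃i⟩ := hu3.1 h3u
    have hu6 : 6 ≤ u := Nat.le_of_dvd hupos (Nat.Coprime.mul_dvd_of_dvd_of_dvd (by norm_num) hu2 h3u)
    have hu6' : (1 : ℚ) / u ≤ 1 / 6 := one_div_natCast_le (by norm_num) hu6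
    have hn6 : n ≤ 6 := by
      have hb := (hχ.bounds (z := a ^ 2 ^ (k + 1)) hc ⟨u, rfl⟩ hTIc
        (fun v _ h => B.pq.eq_one_or_eq_of_sq hz h) hn).1
      rw [hNU] at hb
      have hphi := three_mul_totient (M := 2 * u) (by omega) ⟨u, rfl⟩ (h3u.mul_left 2)
      have h1 : 2 * u * n ≤ 3 * ((2 * u - 2 * (2 * u).totient) * n) := by
        rw [← mul_assoc]
        exact Nat.mul_le_mul (by omega) le_rfl
      have h2 : 2 * u * n ≤ 2 * u * 6 := by linarith
      exact Nat.le_of_mul_le_mul_left h2 (by omega)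
    -- every component has index two or four, and order at least five
    have hdat : ∀ y : G, Comp y → ∃ f : ℚ, ((conjUnion (compSet y)).ncard : ℚ) = Nat.card G * f ∧
        ((f < 1 / 2 ∧ 2 / 5 ≤ f) ∨ (f < 1 / 4 ∧ 1 / 5 ≤ f)) := by
      intro y hy
      obtain ⟨cy, b, e, hb, hyb, hCy, hcy, -, ⟨m, hm, hm1⟩, -, -, hle, hcard⟩ := B.comp_data hy
      refine ⟨_, hcard, ?_⟩
      have hb3 : ¬ 3 ∣ b := by
        intro h3
        obtain ⟨⟨t, htC⟩, ht⟩ := exists_prime_orderOf_dvd_card' (G := centralizer ({y} : Set G)) 3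
          (by rw [hCy, Nat.card_zpowers, hcy]; exact h3.mul_left 2)
        rw [← orderOf_coe] at ht
        change orderOf t = 3 at ht
        obtain ⟨g, hg⟩ := B.pq.exists_conj_prime B.perf Nat.prime_three (by norm_num) hw₃ ht
        have hty : Commute y (g * w₃ * g⁻¹) := commute_of_zpowers_eq
          (zpowers_conj_eq hg (hw₃.trans ht.symm)).symm (mem_centralizer_singleton_iff.1 htC).symm
        exact hy.noFour _ hty.symm (by rw [orderOf_conj', hw₃]; norm_num)
          (by rw [orderOf_conj', hw₃]; norm_num) (g * a ^ 2 ^ k * g⁻¹)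
          (by rw [orderOf_conj', B.orderOf_i]) (commute_conj hw₃i.symm)
      have hb1 : b ≠ 1 := fun h => hy.prime.ne_one (Nat.dvd_one.1 (h ▸ hyb))
      have hb5 : 5 ≤ b := by
        have := Nat.odd_iff.1 hb
        omega
      have hb5' : (1 : ℚ) / b ≤ 1 / 5 := one_div_natCast_le (by norm_num) hb5
      have hbpos : (0 : ℚ) < 1 / b := one_div_pos.2 (Nat.cast_pos.2 hb.pos)
      have hm2 : m ≤ 2 := by
        by_contra h
        have := Nat.pow_le_pow_right two_pos (show 3 ≤ m by omega)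
        have := hle χ n hχ hn
        omega
      interval_cases m
      · left; rw [hm]; constructor <;> push_cast <;> linarith
      · right; rw [hm]; constructor <;> push_cast <;> linarith
    obtain ⟨y₁, v₁, hy₁, hv₁, -⟩ := hnew SU subset_rfl (by
      rw [hSU]; linarith [hG4', hGpos])
    obtain ⟨f₁, hf₁, hf₁'⟩ := hdat y₁ hy₁
    set W₁ := SU ∪ conjUnion (compSet y₁) with hW₁
    have hW₁c : (W₁.ncard : ℚ) = Nat.card G * (1 / 2 - (1 / (u : ℚ)) / 2 + f₁) := by
      rw [hW₁, ncard_conjUnion_union (B.disjoint_fourCent hy₁), hSU, hf₁]; ring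
    have hf₁lt : (Nat.card G : ℚ) * f₁ < Nat.card G * (1 / 2) :=
      mul_lt_mul_of_pos_left (by rcases hf₁' with h | h <;> linarith) hGpos
    obtain ⟨y₂, v₂, hy₂, hv₂, hv₂n⟩ := hnew W₁ Set.subset_union_left (by
      rw [hW₁c]; linarith)
    obtain ⟨f₂, hf₂, hf₂'⟩ := hdat y₂ hy₂
    set W₂ := W₁ ∪ conjUnion (compSet y₂) with hW₂
    have hd₂ : Disjoint W₁ (conjUnion (compSet y₂)) := Set.disjoint_union_left.2
      ⟨B.disjoint_fourCent hy₂, B.disjoint_comp hy₁ hy₂ hv₂ fun h => hv₂n (Or.inr h)⟩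
    have hW₂c : (W₂.ncard : ℚ) = Nat.card G * (1 / 2 - (1 / (u : ℚ)) / 2 + f₁ + f₂) := by
      rw [hW₂, ncard_conjUnion_union hd₂, hW₁c, hf₂]; ring
    have hW₂2 : ∀ t ∈ W₂, t ^ 2 ≠ 1 := fun t ht => by
      rcases ht with (ht | ht) | ht
      exacts [hSU2 t ht, hY2 _ t ht, hY2 _ t ht]
    have hle₂ := ncard_add_two_le hz hW₂2
    rw [hW₂c] at hle₂
    have hsum : f₁ + f₂ < 3 / 5 := by
      by_contra h
      have := mul_le_mul_of_nonneg_left (not_lt.1 h) hGpos.le
      have := mul_le_mul_of_nonneg_left hu6' hGpos.le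
      linarith
    have h4 : f₁ < 1 / 4 ∧ 1 / 5 ≤ f₁ ∧ f₂ < 1 / 4 ∧ 1 / 5 ≤ f₂ := by
      rcases hf₁' with h | h <;> rcases hf₂' with h' | h' <;>
        refine ⟨?_, ?_, ?_, ?_⟩ <;> linarith
    have hsum' : (Nat.card G : ℚ) * (f₁ + f₂) < Nat.card G * (1 / 2) :=
      mul_lt_mul_of_pos_left (by linarith) hGpos
    obtain ⟨y₃, v₃, hy₃, hv₃, hv₃n⟩ := hnew W₂
      (Set.subset_union_left.trans Set.subset_union_left) (by rw [hW₂c]; linarith)
    obtain ⟨f₃, hf₃, hf₃'⟩ := hdat y₃ hy₃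
    have hd₃ : Disjoint W₂ (conjUnion (compSet y₃)) := Set.disjoint_union_left.2
      ⟨Set.disjoint_union_left.2 ⟨B.disjoint_fourCent hy₃,
        B.disjoint_comp hy₁ hy₃ hv₃ fun h => hv₃n (Or.inl (Or.inr h))⟩,
        B.disjoint_comp hy₂ hy₃ hv₃ fun h => hv₃n (Or.inr h)⟩
    have hle₃ := ncard_add_two_le hz (S := W₂ ∪ conjUnion (compSet y₃)) fun t ht => by
      rcases ht with ht | ht
      exacts [hW₂2 t ht, hY2 _ t ht]
    rw [ncard_conjUnion_union hd₃, hW₂c, hf₃] at hle₃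
    have h35 : 3 / 5 ≤ f₁ + f₂ + f₃ := by rcases hf₃' with h | h <;> linarith
    have := mul_le_mul_of_nonneg_left h35 hGpos.le
    have := mul_le_mul_of_nonneg_left hu6' hGpos.le
    linarith
  · -- no element of order three commutes with an element of order four
    haveI := B.pq
    obtain ⟨y₁, hy₁o⟩ := exists_prime_orderOf_dvd_card' (G := G) 3 (B.pq.three_dvd_card B.perf)
    have hy₁ : Comp y₁ := by
      refine ⟨by rw [hy₁o]; norm_num, by rw [hy₁o]; norm_num, fun w hwy hwp hw2 t ht htw => ?_⟩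
      obtain ⟨g, hg⟩ := B.exists_conj_commute ht htw
      refine h3u (hu3.2 ⟨g * y₁ * g⁻¹, by rw [orderOf_conj', hy₁o],
        mem_centralizer_singleton_iff.1 ?_⟩)
      rw [← B.centralizer_prime (by rw [orderOf_conj']; exact hwp)
        (by rw [orderOf_conj']; exact hw2) hg]
      exact mem_centralizer_of_commute (commute_conj hwy.symm)
    obtain ⟨c₁, b, e, hb, hyb, hC₁, hc₁, hN₁, ⟨m, hm, hm1⟩, -, he3, -, hcard₁⟩ := B.comp_data hy₁
    have he2 : e = 2 := by
      rw [hy₁o] at he3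
      have := Nat.le_of_dvd (by norm_num) he3
      have : 2 ^ 1 ≤ 2 ^ m := Nat.pow_le_pow_right two_pos hm1
      omega
    subst he2
    rw [hy₁o] at hyb
    have hb3 : 3 ≤ b := Nat.le_of_dvd hb.pos hyb
    have hphi := three_mul_totient (M := 2 * b) (by omega) ⟨b, rfl⟩ (hyb.mul_left 2)
    obtain ⟨hb₁, hb₂⟩ := hχ.bounds (z := a ^ 2 ^ (k + 1)) hc₁ ⟨b, rfl⟩
      (H := normalizer (zpowers y₁ : Set G))
      (fun g v hv hv2 hgv => hy₁.compSet_TI B.pq B.perf B.ih g v
        ⟨mem_centralizer_singleton_iff.1 (hC₁ ▸ hv), hv2⟩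
        ⟨mem_centralizer_singleton_iff.1 (hC₁ ▸ hgv), fun h => hv2 (by
          rwa [conj_pow, conj_eq_one_iff] at h)⟩)
      (fun v _ h => B.pq.eq_one_or_eq_of_sq hz h) hn
    rw [hN₁] at hb₁ hb₂
    have hA : 2 * b ≤ 3 * (2 * b - 2 * (2 * b).totient) := by omega
    have hn6 : n ≤ 6 := by
      have h1 := Nat.mul_le_mul_right n hA
      have h2 : 2 * b * n ≤ 2 * b * 6 := by nlinarith
      exact Nat.le_of_mul_le_mul_left h2 (by omega)
    have hnb : n ^ 2 ≤ 4 * b := by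
      have h1 := Nat.mul_le_mul_right (n ^ 2) hA
      have h2 := Nat.mul_le_mul_left (2 * b * 2) hphi
      have h3 : 2 * b * n ^ 2 ≤ 2 * b * (4 * b) := by nlinarith
      exact Nat.le_of_mul_le_mul_left h3 (by omega)
    -- the other components
    have hother : ∀ y v : G, Comp y → v ∈ compSet y → v ∉ conjUnion (compSet y₁) →
        ∃ (b' e' : ℕ), 5 ≤ b' ∧ Odd b' ∧ ¬ 3 ∣ b' ∧ (e' = 2 ∨ e' = 4) ∧ e' ∣ 2 ^ (k + 1) ∧
          e' ≤ n ∧ Nat.card (normalizer (zpowers y : Set G)) = 2 * b' * e' ∧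
          ((conjUnion (compSet y)).ncard : ℚ) = Nat.card G * ((1 - 1 / (b' : ℚ)) / e') := by
      intro y v hy hv hvn
      obtain ⟨cy, b', e', hb', hyb', hCy, hcy, hN', ⟨m', hm', hm1'⟩, hek, -, hle, hcard⟩ :=
        B.comp_data hy
      have h3b : ¬ 3 ∣ b' := by
        intro h3
        obtain ⟨⟨t, htC⟩, ht⟩ := exists_prime_orderOf_dvd_card' (G := centralizer ({y} : Set G)) 3
          (by rw [hCy, Nat.card_zpowers, hcy]; exact h3.mul_left 2)
        rw [← orderOf_coe] at ht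
        change orderOf t = 3 at ht
        obtain ⟨g, hg⟩ := B.pq.exists_conj_prime B.perf Nat.prime_three (by norm_num) ht hy₁o
        have h1 : Commute (g * y * g⁻¹) y₁ := commute_of_zpowers_eq
          (zpowers_conj_eq hg (ht.trans hy₁o.symm))
          (commute_conj (mem_centralizer_singleton_iff.1 htC).symm)
        have h2 : g * y * g⁻¹ ∈ compSet y₁ := ⟨h1, fun h => by
          rw [conj_pow, conj_eq_one_iff] at h
          exact hy.ne_two ((Nat.prime_dvd_prime_iff_eq hy.prime Nat.prime_two).1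
            (orderOf_dvd_of_pow_eq_one h))⟩
        have h3' : y ∈ conjUnion (compSet y₁) := ⟨g⁻¹, _, h2, by group⟩
        exact hvn (hy₁.conjUnion_subset B.pq B.perf B.ih hy h3'
          (mem_conjUnion_self hy.compSet_ne_empty) (mem_conjUnion_self hv))
      have hb1 : b' ≠ 1 := fun h => hy.prime.ne_one (Nat.dvd_one.1 (h ▸ hyb'))
      have hb5 : 5 ≤ b' := by
        have := Nat.odd_iff.1 hb'
        omega
      have he' : e' = 2 ∨ e' = 4 := by
        have := hle χ n hχ hn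
        have hm2 : m' ≤ 2 := by
          by_contra h
          have := Nat.pow_le_pow_right two_pos (show 3 ≤ m' by omega)
          omega
        interval_cases m' <;> simp [hm']
      exact ⟨b', e', hb5, hb', h3b, he', hek, hle χ n hχ hn, hN', hcard⟩
    set W₁ := SU ∪ conjUnion (compSet y₁) with hW₁
    have hb0 : (0 : ℚ) < 1 / b := one_div_pos.2 (Nat.cast_pos.2 hb.pos)
    have hW₁c : (W₁.ncard : ℚ) =
        Nat.card G * (1 / 2 - (1 / (u : ℚ)) / 2 + (1 / 2 - (1 / (b : ℚ)) / 2)) := by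
      rw [hW₁, ncard_conjUnion_union (B.disjoint_fourCent hy₁), hSU, hcard₁]; push_cast; ring
    obtain ⟨y₂, v₂, hy₂, hv₂, hv₂n⟩ := hnew W₁ Set.subset_union_left (by
      rw [hW₁c]; linarith [mul_pos hGpos hb0])
    obtain ⟨b₂, e₂, hb₂5, hb₂o, hb₂3, he₂, hek₂, hen₂, hN₂, hcard₂⟩ :=
      hother y₂ v₂ hy₂ hv₂ fun h => hv₂n (Or.inr h)
    set W₂ := W₁ ∪ conjUnion (compSet y₂) with hW₂
    have hd₂ : Disjoint W₁ (conjUnion (compSet y₂)) := Set.disjoint_union_left.2
      ⟨B.disjoint_fourCent hy₂, B.disjoint_comp hy₁ hy₂ hv₂ fun h => hv₂n (Or.inr h)⟩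
    have hW₂c : (W₂.ncard : ℚ) = Nat.card G * (1 / 2 - (1 / (u : ℚ)) / 2 +
        (1 / 2 - (1 / (b : ℚ)) / 2) + (1 - 1 / (b₂ : ℚ)) / e₂) := by
      rw [hW₂, ncard_conjUnion_union hd₂, hW₁c, hcard₂]; ring
    have hW₂2 : ∀ t ∈ W₂, t ^ 2 ≠ 1 := fun t ht => by
      rcases ht with (ht | ht) | ht
      exacts [hSU2 t ht, hY2 _ t ht, hY2 _ t ht]
    have hle₂ := ncard_add_two_le hz hW₂2
    rw [hW₂c] at hle₂
    have hlt : (1 - 1 / (b₂ : ℚ)) / e₂ < 1 / (u : ℚ) / 2 + 1 / (b : ℚ) / 2 := by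
      by_contra h
      have := mul_le_mul_of_nonneg_left (not_lt.1 h) hGpos.le
      linarith
    have hb₂5' : (1 : ℚ) / b₂ ≤ 1 / 5 := one_div_natCast_le (by norm_num) hb₂5
    rcases he₂ with rfl | rfl
    swap
    · exfalso
      have hu4 : 4 ≤ u := Nat.le_of_dvd hupos (hek₂.trans huk)
      have hb9 : 9 ≤ b := by
        have h16 : 4 ^ 2 ≤ n ^ 2 := Nat.pow_le_pow_left hen₂ 2
        have := Nat.odd_iff.1 hb
        omega
      have h4 : (1 : ℚ) / u ≤ 1 / 4 := one_div_natCast_le (by norm_num) hu4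
      have h9 : (1 : ℚ) / b ≤ 1 / 9 := one_div_natCast_le (by norm_num) hb9
      linarith
    push_cast at hlt hW₂c hle₂
    have hbeq : b = 3 := by
      by_contra h
      have hb9 : 9 ≤ b := by
        have := Nat.odd_iff.1 hb
        omega
      have h9 : (1 : ℚ) / b ≤ 1 / 9 := one_div_natCast_le (by norm_num) hb9
      have h2 : (1 : ℚ) / u ≤ 1 / 2 := one_div_natCast_le (by norm_num) (Nat.le_of_dvd hupos hu2)
      linarith
    subst hbeq
    push_cast at hlt hW₂c hle₂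
    have hueq : u = 2 := by
      by_contra h
      have hu4 : 4 ≤ u := by omega
      have h4 : (1 : ℚ) / u ≤ 1 / 4 := one_div_natCast_le (by norm_num) hu4
      linarith
    subst hueq
    push_cast at hlt hW₂c hle₂
    have hb₂eq : b₂ = 5 := by
      by_contra h
      have hb7 : 7 ≤ b₂ := by
        have := Nat.odd_iff.1 hb₂o
        omega
      have h7 : (1 : ℚ) / b₂ ≤ 1 / 7 := one_div_natCast_le (by norm_num) hb7
      linarith
    subst hb₂eq
    push_cast at hlt hW₂c hle₂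
    have hk0 : k = 0 := by
      by_contra h
      have := Nat.pow_le_pow_right two_pos (show 2 ≤ k + 1 by omega)
      have := Nat.le_of_dvd two_pos huk
      omega
    refine ⟨?_, hk0⟩
    have hcover : ¬ ((W₂.ncard : ℚ) + 2 < Nat.card G) := by
      intro h
      obtain ⟨y₃, v₃, hy₃, hv₃, hv₃n⟩ := hnew W₂ (Set.subset_union_left.trans Set.subset_union_left) h
      obtain ⟨b₃, e₃, hb₃5, -, -, -, hek₃, -, -, hcard₃⟩ :=
        hother y₃ v₃ hy₃ hv₃ fun h => hv₃n (Or.inl (Or.inr h))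
      have hd₃ : Disjoint W₂ (conjUnion (compSet y₃)) := Set.disjoint_union_left.2
        ⟨Set.disjoint_union_left.2 ⟨B.disjoint_fourCent hy₃,
          B.disjoint_comp hy₁ hy₃ hv₃ fun h => hv₃n (Or.inl (Or.inr h))⟩,
          B.disjoint_comp hy₂ hy₃ hv₃ fun h => hv₃n (Or.inr h)⟩
      have hle₃ := ncard_add_two_le hz (S := W₂ ∪ conjUnion (compSet y₃)) fun t ht => by
        rcases ht with ht | ht
        exacts [hW₂2 t ht, hY2 _ t ht]
      rw [ncard_conjUnion_union hd₃, hW₂c, hcard₃] at hle₃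
      have he₃ : (e₃ : ℚ) ≤ 2 := by
        exact_mod_cast Nat.le_of_dvd two_pos (by rwa [hk0] at hek₃)
      have he₃0 : (0 : ℚ) < e₃ := Nat.cast_pos.2 (Nat.pos_of_dvd_of_pos hek₃ (by positivity))
      have h1 : (2 / 5 : ℚ) ≤ (1 - 1 / (b₃ : ℚ)) / e₃ := by
        rw [le_div_iff₀ he₃0]
        have h5 : (1 : ℚ) / b₃ ≤ 1 / 5 := one_div_natCast_le (by norm_num) hb₃5
        nlinarith
      have := mul_le_mul_of_nonneg_left h1 hGpos.le
      linarith
    rw [hW₂c] at hcover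
    have hle120 : (Nat.card G : ℚ) ≤ 120 := by
      push_cast at hcover
      linarith
    have hle' : Nat.card G ≤ 120 := by exact_mod_cast hle120
    have h8 : 8 ∣ Nat.card G := by
      have := Subgroup.card_subgroup_dvd_card (P : Subgroup G)
      rwa [B.quat.card, hk0] at this
    have h3 : 3 ∣ Nat.card G := B.pq.three_dvd_card B.perf
    have h5 : 5 ∣ Nat.card G := by
      have := Subgroup.card_subgroup_dvd_card (normalizer (zpowers y₂ : Set G))
      rw [hN₂] at this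
      exact (show 5 ∣ 2 * 5 * 2 by norm_num).trans this
    have := Nat.card_pos (α := G)
    omega

end Base

end Cfsg.Agent.H78.Zass
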