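import Cfsg.Agent.H78.Zass.Core
import Mathlib.GroupTheory.SpecificGroups.ZGroup
import Mathlib.GroupTheory.PresentedGroup

/-!
# Presentations of Z-groups in which the subgroups of order `pq` are cyclic
-/

set_option autoImplicit false
set_option linter.unusedSectionVars false
set_option linter.style.haveILetI false

namespace Cfsg.Agent.H78.Zass

open Subgroup
open scoped commutatorElement

variable {G : Type*} [Group G] [Finite G]

theorem conj_zpowers_pow {y b : G} (h : y * b * y⁻¹ ∈ zpowers b) (N : ℕ) :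
    y * b ^ N * y⁻¹ ∈ zpowers (b ^ N) := by
  obtain ⟨j, hj⟩ := mem_zpowers_iff.1 h
  refine ⟨j, ?_⟩
  show (b ^ N) ^ j = _
  rw [← conj_pow, ← hj, ← zpow_natCast, ← zpow_natCast, ← zpow_mul, ← zpow_mul, mul_comm]

namespace PQGroup

variable (hG : PQGroup G)
include hG

/-- An element of prime order centralizes the cyclic coprime groups it normalizes. -/
theorem commute_prime_cyclic {y : G} (hy : (orderOf y).Prime) :
    ∀ M : ℕ, ∀ b : G, orderOf b = M → ¬ orderOf y ∣ M → y * b * y⁻¹ ∈ zpowers b → Commute y b := by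
  intro M
  induction M using Nat.strong_induction_on with
  | _ M ih =>
    intro b hb hcop hn
    by_cases h1 : M = 1
    · rw [h1, orderOf_eq_one_iff] at hb
      rw [hb]; exact Commute.one_right y
    have hp := Nat.minFac_prime h1
    have hM0 : M ≠ 0 := hb ▸ (orderOf_pos b).ne'
    obtain ⟨e, N, hN, hMN⟩ := Nat.exists_eq_pow_mul_and_not_dvd hM0 M.minFac hp.ne_one
    have hNpos : 0 < N := Nat.pos_of_ne_zero fun h => hN (h ▸ dvd_zero _)
    have he : e ≠ 0 := fun h => hN <| by
      rw [h, pow_zero, one_mul] at hMN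
      exact hMN ▸ Nat.minFac_dvd M
    have hpos : 0 < M.minFac ^ e := pow_pos hp.pos e
    have hdN : N ∣ orderOf b := by rw [hb]; exact ⟨_, hMN.trans (mul_comm _ _)⟩
    have hdp : M.minFac ^ e ∣ orderOf b := by rw [hb]; exact ⟨_, hMN⟩
    refine (commute_of_parts ((hp.coprime_iff_not_dvd.2 hN).pow_left e) ?_ ?_).symm
    · have hoN : orderOf (b ^ M.minFac ^ e) = N := by
        rw [orderOf_pow_of_dvd hpos.ne' hdp, hb]
        exact Nat.div_eq_of_eq_mul_right hpos hMN
      have hlt : N < M := by
        conv_rhs => rw [hMN]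
        exact lt_mul_of_one_lt_left hNpos (Nat.one_lt_pow he hp.one_lt)
      exact (ih N hlt _ hoN (fun h => hcop (h.trans (hb ▸ hdN))) (conj_zpowers_pow hn _)).symm
    · have hop : orderOf (b ^ N) = M.minFac ^ e := by
        rw [orderOf_pow_of_dvd hNpos.ne' hdN, hb]
        exact Nat.div_eq_of_eq_mul_left hNpos hMN
      obtain ⟨e, rfl⟩ : ∃ e', e = e' + 1 := ⟨e - 1, by omega⟩
      refine (commute_of_coprime_of_socle (N := orderOf y) hp hop (conj_zpowers_pow hn _) ?_ ?_ ?_).symm
      · rw [pow_orderOf_eq_one]; exact Commute.one_left _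
      · intro h
        have h' := (Nat.prime_dvd_prime_iff_eq hp hy).1 h
        exact hcop (h' ▸ Nat.minFac_dvd M)
      · refine hG.commute_of_normalizes hp hy rfl ?_ (conj_zpowers_pow (conj_zpowers_pow hn _) _)
        rw [orderOf_pow_of_dvd (pow_ne_zero _ hp.ne_zero) (hop ▸ pow_dvd_pow _ e.le_succ), hop,
          Nat.pow_div e.le_succ hp.pos, Nat.sub_eq_of_eq_add (show e + 1 = 1 + e by omega), pow_one]

/-- A cyclic group of squarefree order normalizing a coprime cyclic group centralizes it. -/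
theorem commute_squarefree_cyclic {b : G} :
    ∀ k : ℕ, ∀ c : G, orderOf c = k → Squarefree k → Nat.Coprime k (orderOf b) →
      (∀ j : ℕ, c ^ j * b * (c ^ j)⁻¹ ∈ zpowers b) → Commute c b := by
  intro k
  induction k using Nat.strong_induction_on with
  | _ k ih =>
    intro c hc hsq hco hn
    by_cases h1 : k = 1
    · rw [h1, orderOf_eq_one_iff] at hc
      rw [hc]; exact Commute.one_left b
    have hp := Nat.minFac_prime h1
    obtain ⟨N, hkN⟩ := Nat.minFac_dvd k
    have hNp : ¬ k.minFac ∣ N := by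
      intro h
      exact hp.not_isUnit (hsq _ ((mul_dvd_mul_left k.minFac h).trans (dvd_of_eq hkN.symm)))
    have hNpos : 0 < N := Nat.pos_of_ne_zero fun h => hNp (h ▸ dvd_zero _)
    have hdN : N ∣ orderOf c := by rw [hc]; exact ⟨_, hkN.trans (mul_comm _ _)⟩
    have hdp : k.minFac ∣ orderOf c := by rw [hc]; exact ⟨_, hkN⟩
    refine commute_of_parts (p := k.minFac) (e := 1) (N := N)
      (by rw [pow_one]; exact hp.coprime_iff_not_dvd.2 hNp) ?_ ?_
    · rw [pow_one]
      have hoN : orderOf (c ^ k.minFac) = N := by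
        rw [orderOf_pow_of_dvd hp.ne_zero hdp, hc]
        exact Nat.div_eq_of_eq_mul_right hp.pos hkN
      have hNk : N ∣ k := ⟨_, hkN.trans (mul_comm _ _)⟩
      refine ih N ?_ _ hoN (hsq.squarefree_of_dvd hNk) (Nat.Coprime.of_dvd_left hNk hco) fun j => ?_
      · conv_rhs => rw [hkN]
        exact lt_mul_of_one_lt_left hNpos hp.one_lt
      · rw [← pow_mul]; exact hn _
    · have hop : orderOf (c ^ N) = k.minFac := by
        rw [orderOf_pow_of_dvd hNpos.ne' hdN, hc]
        exact Nat.div_eq_of_eq_mul_left hNpos hkN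
      refine hG.commute_prime_cyclic (hop ▸ hp) _ b rfl ?_ (hn N)
      rw [hop]
      exact hp.coprime_iff_not_dvd.1 (Nat.Coprime.of_dvd_left (Nat.minFac_dvd k) hco)

/-- The presentation of a Z-group. -/
theorem exists_presentation [IsZGroup G] :
    ∃ n m r : ℕ, 0 < n ∧ 0 < m ∧ Nat.Coprime (r - 1) m ∧ Nat.Coprime n m ∧ 1 ≤ r ∧
      r ^ (n / ∏ p ∈ n.primeFactors, p) % m = 1 % m ∧
      Nonempty (G ≃* PresentedGroup
        ({FreeGroup.of (0 : Fin 2) ^ n, FreeGroup.of (1 : Fin 2) ^ m,
          (FreeGroup.of (0 : Fin 2))⁻¹ * FreeGroup.of 1 * FreeGroup.of 0 * (FreeGroup.of (1 : Fin 2) ^ r)⁻¹} :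
          Set (FreeGroup (Fin 2)))) := by
  haveI := IsZGroup.isCyclic_commutator (G := G)
  obtain ⟨⟨b, hb⟩, hbgen⟩ := (inferInstance : IsCyclic (commutator G)).exists_generator
  have hA : commutator G = zpowers b := by
    refine le_antisymm (fun g hg => ?_) (zpowers_le.2 hb)
    obtain ⟨j, hj⟩ := mem_zpowers_iff.1 (hbgen ⟨g, hg⟩)
    exact ⟨j, congrArg Subtype.val hj⟩
  obtain ⟨K, hK⟩ := Subgroup.exists_right_complement'_of_coprime (N := commutator G)
    (IsZGroup.coprime_commutator_index G)
  haveI : IsCyclic K := by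
    have e : G ⧸ commutator G ≃* K := hK.symm.QuotientMulEquiv
    haveI : IsCyclic (G ⧸ commutator G) := inferInstanceAs (IsCyclic (Abelianization G))
    exact isCyclic_of_surjective e e.surjective
  obtain ⟨⟨a, ha⟩, hagen⟩ := (inferInstance : IsCyclic K).exists_generator
  have hKa : K = zpowers a := by
    refine le_antisymm (fun g hg => ?_) (zpowers_le.2 ha)
    obtain ⟨j, hj⟩ := mem_zpowers_iff.1 (hagen ⟨g, hg⟩)
    exact ⟨j, congrArg Subtype.val hj⟩
  set n := orderOf a with hn
  set m := orderOf b with hm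
  have hcard : m * n = Nat.card G := by
    rw [← hK.card_mul_card, hA, hKa, Nat.card_zpowers, Nat.card_zpowers]
  have hco : Nat.Coprime m n := by
    have h := IsZGroup.coprime_commutator_index G
    rwa [← hK.symm.index_eq_card.symm, hA, hKa, Nat.card_zpowers, Nat.card_zpowers] at h
  have hconj : ∀ g : G, g * b * g⁻¹ ∈ zpowers b := fun g => by
    rw [← hA]
    exact (inferInstance : (commutator G).Normal).conj_mem b hb g
  obtain ⟨r₀, hr₀⟩ := exists_conj_eq_pow (hconj a⁻¹)
  rw [inv_inv] at hr₀
  set r := r₀ + m with hr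
  have hbr : a⁻¹ * b * a = b ^ r := by
    rw [hr₀, hr, pow_add, hm, pow_orderOf_eq_one, mul_one]
  have hr1 : 1 ≤ r := (orderOf_pos b).trans_le (Nat.le_add_left _ _)
  -- the derived group is generated by `b ^ (r - 1)`
  have hsup : commutator G ⊔ K = ⊤ := hK.sup_eq_top
  have hgen : ∀ g : G, ∃ i j : ℤ, g = a ^ i * b ^ j := by
    intro g
    have hg : g ∈ K ⊔ commutator G := by rw [sup_comm, hsup]; exact mem_top g
    rw [mem_sup_of_normal_right] at hg
    obtain ⟨u, hu, v, hv, rfl⟩ := hg
    rw [hKa, mem_zpowers_iff] at hu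
    rw [hA, mem_zpowers_iff] at hv
    obtain ⟨i, rfl⟩ := hu
    obtain ⟨j, rfl⟩ := hv
    exact ⟨i, j, rfl⟩
  have hrco : Nat.Coprime (r - 1) m := by
    set B : Subgroup G := zpowers (b ^ (r - 1)) with hB
    have hBn : B.Normal := by
      constructor
      intro w hw g
      obtain ⟨j, rfl⟩ := mem_zpowers_iff.1 hw
      rw [← conj_zpow]
      exact zpow_mem (conj_zpowers_pow (hconj g) _) j
    haveI := hBn
    have hcomm : Commute (QuotientGroup.mk' B a) (QuotientGroup.mk' B b) := by
      show _ * _ = _ * _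
      rw [← map_mul, ← map_mul]
      refine QuotientGroup.eq.2 ?_
      have h1 : (a * b)⁻¹ * (b * a) = b ^ (r - 1) := by
        calc (a * b)⁻¹ * (b * a) = b⁻¹ * (a⁻¹ * b * a) := by group
          _ = b ^ (r - 1) := by
            rw [hbr, show r = r - 1 + 1 by omega, pow_succ', ← mul_assoc, inv_mul_cancel, one_mul,
              Nat.add_sub_cancel]
      rw [h1]
      exact mem_zpowers _
    have hle : commutator G ≤ B := by
      rw [_root_.commutator_def, Subgroup.commutator_le]
      intro g _ h _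
      rw [← QuotientGroup.eq_one_iff, ← QuotientGroup.mk'_apply, map_commutatorElement,
        commutatorElement_eq_one_iff_commute]
      obtain ⟨i, j, rfl⟩ := hgen g
      obtain ⟨i', j', rfl⟩ := hgen h
      rw [map_mul, map_mul, map_zpow, map_zpow, map_zpow, map_zpow]
      exact (((Commute.refl _).zpow_zpow i i').mul_right (hcomm.zpow_zpow i j')).mul_left
        ((hcomm.symm.zpow_zpow j i').mul_right ((Commute.refl _).zpow_zpow j j'))
    have h1 := Subgroup.card_dvd_of_le hle
    rw [hA, hB, Nat.card_zpowers, Nat.card_zpowers, orderOf_pow, ← hm] at h1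
    have h2 : Nat.gcd m (r - 1) ∣ m := Nat.gcd_dvd_left _ _
    have h3 : Nat.gcd m (r - 1) * (m / Nat.gcd m (r - 1)) = m := Nat.mul_div_cancel' h2
    have h4 := Nat.le_of_dvd (Nat.pos_of_ne_zero fun h => by
      rw [h, mul_zero] at h3; exact (orderOf_pos b).ne' h3.symm) h1
    rw [Nat.coprime_comm]
    by_contra hne
    have h5 : 2 ≤ Nat.gcd m (r - 1) := by
      have h0 : Nat.gcd m (r - 1) ≠ 0 := fun h => (orderOf_pos b).ne' (Nat.gcd_eq_zero_iff.1 h).1
      have h1' : Nat.gcd m (r - 1) ≠ 1 := hne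
      omega
    have h6 : 0 < m / Nat.gcd m (r - 1) := Nat.pos_of_ne_zero fun h => by
      rw [h, mul_zero] at h3; exact (orderOf_pos b).ne' h3.symm
    nlinarith
  -- the rad condition
  have hnpos : 0 < n := orderOf_pos a
  set R := ∏ p ∈ n.primeFactors, p with hR
  have hRn : R ∣ n := Nat.prod_primeFactors_dvd n
  have hiter : ∀ k : ℕ, (a ^ k)⁻¹ * b * a ^ k = b ^ r ^ k := by
    intro k
    have := conj_pow_eq (x := a⁻¹) (y := b) (a := r) (by rw [inv_inv]; exact hbr) k
    rwa [inv_pow, inv_inv] at this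
  have hrpow : r ^ (n / R) % m = 1 % m := by
    have hoR : orderOf (a ^ (n / R)) = R := by
      rw [orderOf_pow_of_dvd (Nat.div_pos (Nat.le_of_dvd hnpos hRn)
        (Nat.pos_of_dvd_of_pos hRn hnpos)).ne' (Nat.div_dvd_of_dvd hRn), ← hn,
        Nat.div_div_self hRn hnpos.ne']
    have hsq : Squarefree R := by
      rw [hR]
      exact Finset.squarefree_prod_of_pairwise_isCoprime
        (fun p hp q hq hpq => (Nat.coprime_primes (Nat.prime_of_mem_primeFactors hp)
          (Nat.prime_of_mem_primeFactors hq)).2 hpq |> Nat.coprime_iff_isRelPrime.1)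
        fun p hp => (Nat.prime_of_mem_primeFactors hp).squarefree
    have hc := hG.commute_squarefree_cyclic (b := b) R (a ^ (n / R)) hoR hsq
      (Nat.Coprime.of_dvd_left hRn hco.symm) (fun j => hconj _)
    have h1 : b ^ r ^ (n / R) = b := by
      rw [← hiter, mul_assoc, hc.symm.eq, inv_mul_cancel_left]
    have h2 : b ^ r ^ (n / R) = b ^ 1 := by rw [h1, pow_one]
    exact pow_eq_pow_iff_modEq.1 h2
  refine ⟨n, m, r, hnpos, orderOf_pos b, hrco, hco.symm, hr1, hrpow, ?_⟩
  set rels : Set (FreeGroup (Fin 2)) := {FreeGroup.of (0 : Fin 2) ^ n, FreeGroup.of (1 : Fin 2) ^ m,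
    (FreeGroup.of (0 : Fin 2))⁻¹ * FreeGroup.of 1 * FreeGroup.of 0 * (FreeGroup.of (1 : Fin 2) ^ r)⁻¹}
    with hrels
  let f : Fin 2 → G := ![a, b]
  have hf : ∀ w ∈ rels, FreeGroup.lift f w = 1 := by
    rintro w (rfl | rfl | rfl)
    · rw [map_pow, FreeGroup.lift_apply_of]
      exact pow_orderOf_eq_one a
    · rw [map_pow, FreeGroup.lift_apply_of]
      exact pow_orderOf_eq_one b
    · rw [map_mul, map_mul, map_mul, map_inv, map_inv, map_pow, FreeGroup.lift_apply_of,
        FreeGroup.lift_apply_of]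
      show a⁻¹ * b * a * (b ^ r)⁻¹ = 1
      rw [hbr, mul_inv_cancel]
  let φ : PresentedGroup rels →* G := PresentedGroup.toGroup hf
  set X : PresentedGroup rels := PresentedGroup.of 0 with hX
  set Y : PresentedGroup rels := PresentedGroup.of 1 with hY
  have hφX : φ X = a := PresentedGroup.toGroup.of hf
  have hφY : φ Y = b := PresentedGroup.toGroup.of hf
  have hXn : X ^ n = 1 := PresentedGroup.one_of_mem (rels := rels) (Or.inl rfl)
  have hYm : Y ^ m = 1 := PresentedGroup.one_of_mem (rels := rels) (Or.inr (Or.inl rfl))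
  have hXY : X⁻¹ * Y * X = Y ^ r := by
    refine eq_of_mul_inv_eq_one ?_
    exact PresentedGroup.one_of_mem (rels := rels) (Or.inr (Or.inr rfl))
  have hYX : Y * X = X * Y ^ r := by rw [← hXY]; group
  have hmove : ∀ (j i : ℕ), Y ^ j * X ^ i = X ^ i * Y ^ (j * r ^ i) := by
    have h1 : ∀ j : ℕ, Y ^ j * X = X * Y ^ (j * r) := by
      intro j
      induction j with
      | zero => simp
      | succ j ihj =>
        rw [pow_succ, mul_assoc, hYX, ← mul_assoc, ihj, mul_assoc, ← pow_add]
        congr 2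
        ring
    intro j i
    induction i with
    | zero => simp
    | succ i ihi =>
      rw [pow_succ X i, ← mul_assoc, ihi, mul_assoc, h1, ← mul_assoc, pow_succ r i, mul_assoc j]
  have hall : ∀ g : PresentedGroup rels, ∃ i j : ℕ, g = X ^ i * Y ^ j := by
    intro g
    have hg : g ∈ Submonoid.closure ({X, Y} : Set (PresentedGroup rels)) := by
      have h1 : g ∈ Subgroup.closure (Set.range (PresentedGroup.of (rels := rels))) := by
        rw [PresentedGroup.closure_range_of]; exact mem_top g
      have h2 : Subgroup.closure (Set.range (PresentedGroup.of (rels := rels))) ≤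
          { Submonoid.closure ({X, Y} : Set (PresentedGroup rels)) with
            inv_mem' := fun {u} hu => by
              refine Submonoid.closure_induction (motive := fun u _ => u⁻¹ ∈ Submonoid.closure ({X, Y} : Set (PresentedGroup rels))) ?_ ?_ ?_ hu
              · rintro u (rfl | rfl)
                · rw [inv_eq_of_mul_eq_one_left (b := X) (a := X ^ (n - 1)) (by
                    rw [← pow_succ, Nat.sub_add_cancel hnpos, hXn])]
                  exact pow_mem (Submonoid.subset_closure (show X ∈ ({X, Y} : Set (PresentedGroup rels)) from Or.inl rfl)) _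
                · rw [inv_eq_of_mul_eq_one_left (b := Y) (a := Y ^ (m - 1)) (by
                    rw [← pow_succ, Nat.sub_add_cancel (orderOf_pos b), hYm])]
                  exact pow_mem (Submonoid.subset_closure (show Y ∈ ({X, Y} : Set (PresentedGroup rels)) from Or.inr rfl)) _
              · rw [inv_one]; exact one_mem _
              · intro u v _ _ hu hv
                rw [mul_inv_rev]
                exact mul_mem hv hu } := by
        rw [Subgroup.closure_le]
        rintro _ ⟨i, rfl⟩
        fin_cases i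
        · exact Submonoid.subset_closure (Or.inl rfl)
        · exact Submonoid.subset_closure (Or.inr rfl)
      exact h2 h1
    refine Submonoid.closure_induction (motive := fun u _ => ∃ i j : ℕ, u = X ^ i * Y ^ j) ?_ ?_ ?_ hg
    · rintro u (rfl | rfl)
      · exact ⟨1, 0, by simp⟩
      · exact ⟨0, 1, by simp⟩
    · exact ⟨0, 0, by simp⟩
    · rintro u v _ _ ⟨i, j, rfl⟩ ⟨i', j', rfl⟩
      refine ⟨i + i', j * r ^ i' + j', ?_⟩
      rw [mul_assoc (X ^ i), ← mul_assoc (Y ^ j), hmove, pow_add X, pow_add Y]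
      simp only [mul_assoc]
  let θ : Fin n × Fin m → PresentedGroup rels := fun p => X ^ (p.1 : ℕ) * Y ^ (p.2 : ℕ)
  have hθ : Function.Surjective θ := fun g => by
    obtain ⟨i, j, rfl⟩ := hall g
    refine ⟨(⟨i % n, Nat.mod_lt _ hnpos⟩, ⟨j % m, Nat.mod_lt _ (orderOf_pos b)⟩), ?_⟩
    show X ^ (i % n) * Y ^ (j % m) = _
    rw [← pow_eq_pow_mod i hXn, ← pow_eq_pow_mod j hYm]
  haveI : Finite (PresentedGroup rels) := Finite.of_surjective θ hθ
  have hφ : Function.Surjective φ := fun g => by
    obtain ⟨i, j, rfl⟩ := hgen g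
    exact ⟨X ^ i * Y ^ j, by rw [map_mul, map_zpow, map_zpow, hφX, hφY]⟩
  have hle : Nat.card (PresentedGroup rels) ≤ Nat.card G := by
    refine (Nat.card_le_card_of_surjective θ hθ).trans ?_
    rw [Nat.card_prod, Nat.card_fin, Nat.card_fin, ← hcard, mul_comm]
  have hbij : Function.Bijective φ :=
    (Nat.bijective_iff_surjective_and_card φ).2 ⟨hφ, le_antisymm hle
      (Nat.card_le_card_of_surjective φ hφ)⟩
  exact ⟨(MulEquiv.ofBijective φ hbij).symm⟩

end PQGroup

end Cfsg.Agent.H78.Zass
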