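import Cfsg.Agent.H78.Zass.Nonsolvable
import Cfsg.Agent.Frobenius.Construct
import Cfsg.Agent.Arith.LargePrimDiv
import Mathlib.RingTheory.Adjoin.Polynomial.Basic
import Mathlib.FieldTheory.Finite.Basic

/-!
# Nonsolvable linear groups regular on nonzero vectors
-/

set_option autoImplicit false
set_option linter.unusedSectionVars false
set_option linter.style.haveILetI false

namespace Cfsg.Agent.H78.Zass

open Subgroup

variable {p : ℕ} [Fact p.Prime] {V : Type*} [AddCommGroup V] [Module (ZMod p) V]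

/-- The centralizer of an endomorphism with a cyclic vector is commutative. -/
theorem commute_of_cyclic_vector {Y f g : Module.End (ZMod p) V} {v : V}
    (hv : ∀ W : Submodule (ZMod p) V, (∀ w ∈ W, Y w ∈ W) → v ∈ W → W = ⊤)
    (hf : Commute f Y) (hg : Commute g Y) : Commute f g := by
  have key : ∀ h : Module.End (ZMod p) V, Commute h Y →
      ∃ q : Polynomial (ZMod p), h = Polynomial.aeval Y q := by
    intro h hh
    set A := Algebra.adjoin (ZMod p) ({Y} : Set (Module.End (ZMod p) V)) with hA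
    set W : Submodule (ZMod p) V := (Subalgebra.toSubmodule A).map (LinearMap.applyₗ v) with hW
    have hW' : W = ⊤ := by
      refine hv W ?_ ⟨1, Subalgebra.one_mem A, rfl⟩
      rintro _ ⟨P, hP, rfl⟩
      exact ⟨Y * P, A.mul_mem (Algebra.subset_adjoin (Set.mem_singleton Y)) hP, rfl⟩
    obtain ⟨P, hP, hPv⟩ : h v ∈ W := hW' ▸ Submodule.mem_top
    rw [SetLike.mem_coe, Subalgebra.mem_toSubmodule, hA,
      Algebra.adjoin_singleton_eq_range_aeval] at hP
    obtain ⟨q, rfl⟩ := hP
    refine ⟨q, ?_⟩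
    have hY : Commute (Polynomial.aeval Y q) Y := by
      conv in (occs := 2) Y => rw [← Polynomial.aeval_X (R := ZMod p) Y]
      exact (Commute.all q Polynomial.X).map (Polynomial.aeval Y)
    have hK : LinearMap.eqLocus h (Polynomial.aeval Y q) = ⊤ := by
      refine hv _ (fun w hw => ?_) hPv.symm
      show h (Y w) = Polynomial.aeval Y q (Y w)
      rw [← Module.End.mul_apply, ← Module.End.mul_apply, hh.eq, hY.eq, Module.End.mul_apply,
        Module.End.mul_apply, show h w = Polynomial.aeval Y q w from hw]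
    exact LinearMap.ext fun w => (hK ▸ Submodule.mem_top : w ∈ LinearMap.eqLocus h (Polynomial.aeval Y q))
  obtain ⟨a, rfl⟩ := key f hf
  obtain ⟨b, rfl⟩ := key g hg
  exact (Commute.all a b).map _

/-- An endomorphism mapping each vector to a multiple is scalar. -/
theorem exists_scalar {g : Module.End (ZMod p) V} (h : ∀ v, ∃ c : ZMod p, g v = c • v) :
    ∃ c : ZMod p, ∀ v, g v = c • v := by
  by_cases h0 : ∀ v : V, v = 0
  · exact ⟨0, fun v => by rw [h0 v, map_zero, smul_zero]⟩
  push Not at h0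
  obtain ⟨v, hv⟩ := h0
  obtain ⟨c, hc⟩ := h v
  refine ⟨c, fun w => ?_⟩
  obtain ⟨d, hd⟩ := h w
  by_cases hw : ∃ t : ZMod p, w = t • v
  · obtain ⟨t, rfl⟩ := hw
    rw [map_smul, hc, smul_comm]
  obtain ⟨e, he⟩ := h (v + w)
  rw [map_add, hc, hd, smul_add] at he
  have h1 : (d - e) • w = (e - c) • v := by
    rw [sub_smul, sub_smul, sub_eq_sub_iff_add_eq_add, add_comm (d • w), he]
  by_cases hde : d = e
  · rw [hde, sub_self, zero_smul, eq_comm, smul_eq_zero] at h1
    rw [hd, hde, sub_eq_zero.1 (h1.resolve_right hv)]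
  · exact absurd ⟨(d - e)⁻¹ * (e - c), by
      rw [mul_smul, ← h1, smul_smul, inv_mul_cancel₀ (sub_ne_zero.2 hde), one_smul]⟩ hw

set_option synthInstance.maxSize 2000 in
theorem nearfield_arith : ∀ p < 120, p.Prime → ∀ R ∈ [60, 120],
    (p * p - 1) % (2 * R) = 0 → Nat.gcd ((p * p - 1) / (2 * R)) 30 = 1 →
      (p + 1) ∣ R → R = 60 ∧ (p, (p * p - 1) / (2 * R)) ∈ [(11, 1), (29, 7), (59, 29)] := by
  decide +kernel

theorem nearfield_arith' : ∀ p ≤ 15, p.Prime → p ^ 2 + 1 ∣ 240 → p = 2 ∨ p = 3 := by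
  decide +kernel

variable [Finite V]

/-- The regular linear group as a Frobenius complement, and irreducibility. -/
theorem eq_top_of_invariant {H : Subgroup (V ≃ₗ[ZMod p] V)}
    (hfpf : ∀ h : H, h ≠ 1 → ∀ v : V, (h : V ≃ₗ[ZMod p] V) v = v → v = 0) {y : H} {r : ℕ}
    (hr : r.Prime) (hy : orderOf y = r)
    (hprim : ∀ k, 0 < k → k < Module.finrank (ZMod p) V → ¬ r ∣ p ^ k - 1)
    (W : Submodule (ZMod p) V) (hW : ∀ w ∈ W, (y : V ≃ₗ[ZMod p] V) w ∈ W) (hne : W ≠ ⊥) :
    W = ⊤ := by
  haveI := Fact.mk hr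
  haveI : Finite (V ≃ₗ[ZMod p] V) := Finite.of_injective (fun e => (e : V → V)) DFunLike.coe_injective
  by_contra hnt
  have hpow : ∀ k : ℕ, ∀ w ∈ W, ((y ^ k : H) : V ≃ₗ[ZMod p] V) w ∈ W := by
    intro k
    induction k with
    | zero => intro w hw; simpa using hw
    | succ k ih =>
      intro w hw
      rw [pow_succ']
      exact hW _ (ih w hw)
  have hmem : ∀ g : zpowers y, ∀ w ∈ W, ((g : H) : V ≃ₗ[ZMod p] V) w ∈ W := by
    rintro ⟨g, hg⟩ w hw
    obtain ⟨k, -, rfl⟩ : ∃ k : ℕ, k < orderOf y ∧ y ^ k = g := by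
      classical
      rw [← mem_powers_iff_mem_zpowers, mem_powers_iff_mem_range_orderOf, Finset.mem_image] at hg
      obtain ⟨k, hk, hk'⟩ := hg
      exact ⟨k, Finset.mem_range.1 hk, hk'⟩
    exact hpow k w hw
  letI : MulAction (zpowers y) W :=
    { smul := fun g w => ⟨((g : H) : V ≃ₗ[ZMod p] V) w, hmem g w w.2⟩
      one_smul := fun w => Subtype.ext rfl
      mul_smul := fun a b w => Subtype.ext rfl }
  have hmod := (IsPGroup.of_card (G := zpowers y) (p := r) (n := 1)
    (by rw [Nat.card_zpowers, hy, pow_one])).card_modEq_card_fixedPoints W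
  have hfix : Nat.card (MulAction.fixedPoints (zpowers y) W) = 1 := by
    rw [Nat.card_eq_one_iff_unique]
    refine ⟨⟨fun a b => ?_⟩, ⟨⟨0, fun g => Subtype.ext (map_zero _)⟩⟩⟩
    have hy1 : y ≠ 1 := fun h => hr.ne_one (by rw [← hy, h, orderOf_one])
    have hz : ∀ c : MulAction.fixedPoints (zpowers y) W, ((c : W) : V) = 0 := fun c =>
      hfpf y hy1 _ (congrArg Subtype.val (c.2 ⟨y, mem_zpowers y⟩))
    exact Subtype.ext (Subtype.ext ((hz a).trans (hz b).symm))
  rw [hfix, Module.natCard_eq_pow_finrank (K := ZMod p), Nat.card_zmod] at hmod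
  refine hprim _ (Nat.pos_of_ne_zero fun h => hne (Submodule.finrank_eq_zero.1 h))
    (Submodule.finrank_lt hnt) ?_
  exact (Nat.modEq_iff_dvd' (Nat.one_le_pow _ _ (Fact.out : p.Prime).pos)).1 hmod.symm

theorem nearfield_structure (H : Subgroup (V ≃ₗ[ZMod p] V))
    (hreg : ∀ v w : V, v ≠ 0 → w ≠ 0 → ∃! h : H, (h : V ≃ₗ[ZMod p] V) v = w)
    (hsolv : ¬ Group.IsSolvable H) :
    (Nat.card V = 121 ∧ Nonempty (H ≃* Matrix.SpecialLinearGroup (Fin 2) (ZMod 5))) ∨
      (Nat.card V = 841 ∧
        Nonempty (H ≃* Matrix.SpecialLinearGroup (Fin 2) (ZMod 5) × Multiplicative (ZMod 7))) ∨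
      (Nat.card V = 3481 ∧
        Nonempty (H ≃* Matrix.SpecialLinearGroup (Fin 2) (ZMod 5) × Multiplicative (ZMod 29))) := by
  have hp : p.Prime := Fact.out
  have hfpf : ∀ h : H, h ≠ 1 → ∀ v : V, (h : V ≃ₗ[ZMod p] V) v = v → v = 0 := by
    intro h h1 v hv
    by_contra hv0
    exact h1 ((hreg v v hv0 hv0).unique hv rfl)
  haveI : Nontrivial H := by
    by_contra hn
    rw [not_nontrivial_iff_subsingleton] at hn
    exact hsolv inferInstance
  haveI : Nontrivial V := by
    by_contra hn
    rw [not_nontrivial_iff_subsingleton] at hn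
    obtain ⟨h, h1⟩ := exists_ne (1 : H)
    exact h1 (Subtype.ext (LinearEquiv.ext fun v => Subsingleton.elim _ _))
  obtain ⟨v₀, hv₀⟩ := exists_ne (0 : V)
  haveI : Finite H := Finite.of_injective (fun h : H => (h : V ≃ₗ[ZMod p] V) v₀) fun a b hab => by
    have hne : (b : V ≃ₗ[ZMod p] V) v₀ ≠ 0 := fun h => hv₀ ((LinearEquiv.map_eq_zero_iff _).1 h)
    exact (hreg v₀ _ hv₀ hne).unique hab rfl
  have hcardH : Nat.card H + 1 = Nat.card V := by
    have e : H ≃ {v : V // v ≠ 0} := Equiv.ofBijective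
      (fun h => ⟨(h : V ≃ₗ[ZMod p] V) v₀, fun hh => hv₀ ((LinearEquiv.map_eq_zero_iff _).1 hh)⟩)
      ⟨fun a b hab => (hreg v₀ _ hv₀ (fun h => hv₀ ((LinearEquiv.map_eq_zero_iff _).1 h))).unique
          (congrArg Subtype.val hab) rfl,
        fun w => (hreg v₀ w hv₀ w.2).exists.imp fun h hh => Subtype.ext hh⟩
    classical
    cases nonempty_fintype V
    rw [Nat.card_congr e, Nat.card_eq_fintype_card, Nat.card_eq_fintype_card,
      Fintype.card_subtype_compl, Fintype.card_subtype_eq]
    have := Fintype.card_pos (α := V)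
    omega
  set n := Module.finrank (ZMod p) V with hn
  have hV : Nat.card V = p ^ n := by rw [Module.natCard_eq_pow_finrank (K := ZMod p), Nat.card_zmod]
  let φ : H →* MulAut (Multiplicative V) :=
    { toFun := fun h => AddEquiv.toMultiplicative (h : V ≃ₗ[ZMod p] V).toAddEquiv
      map_one' := MulEquiv.ext fun _ => rfl
      map_mul' := fun _ _ => MulEquiv.ext fun _ => rfl }
  obtain ⟨L, _, _, K, hK, ⟨e⟩⟩ := Frobenius.exists_of_action φ fun h h1 v hv =>
    hfpf h h1 (Multiplicative.toAdd v) hv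
  obtain ⟨S, D⟩ := exists_slNormal hsolv hK e.toMonoidHom e.injective
  haveI := D.normal
  obtain ⟨M, hMn, hMC, hM30, hSM, hCle, -⟩ := D.exists_M
  obtain ⟨f, hker, hmap, hA⟩ := D.exists_perm
  obtain ⟨i, hi, j, hj, t₀, _, hij, _⟩ := D.exists_triple
  -- linear maps of elements
  set T : H → Module.End (ZMod p) V := fun h => ((h : V ≃ₗ[ZMod p] V) : V →ₗ[ZMod p] V) with hT
  have hTmul : ∀ a b : H, T (a * b) = T a * T b := fun a b => rfl
  have hTinj : Function.Injective T := fun a b hab =>
    Subtype.ext (LinearEquiv.toLinearMap_injective hab)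
  have hTc : ∀ a b : H, Commute a b → Commute (T a) (T b) := fun a b hab => by
    show _ = _
    rw [← hTmul, ← hTmul, hab.eq]
  have hnocyc : ∀ (Y : Module.End (ZMod p) V) (v : V),
      (∀ W : Submodule (ZMod p) V, (∀ w ∈ W, Y w ∈ W) → v ∈ W → W = ⊤) →
      Commute (T i) Y → Commute (T j) Y → False := fun Y v hv h1 h2 => by
    refine hij.not_commute (hTinj ?_)
    rw [hTmul, hTmul]
    exact (commute_of_cyclic_vector hv h2 h1).eq
  -- orders
  set m := Nat.card M with hm
  set R := Nat.card f.range with hR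
  have hC : Nat.card f.ker = 2 * m := by
    have h1 : Nat.card (S ⊔ M : Subgroup H) = 120 * m := by
      rw [Coprime.card_sup (fun g _ => by rw [normalizer_eq_top_iff.2 D.normal]; exact mem_top g) hSM, D.card_eq]
    set fr := f.comp (S ⊔ M : Subgroup H).subtype with hfr
    have h2 := fr.ker.card_mul_index
    rw [index_ker, h1] at h2
    have hrange : fr.range = S.map f := by
      rw [hfr, MonoidHom.range_comp, range_subtype, Subgroup.map_sup]
      refine sup_eq_left.2 ?_
      rintro _ ⟨w, hw, rfl⟩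
      rw [show f w = 1 from MonoidHom.mem_ker.1 (hker ▸ hMC hw)]
      exact one_mem _
    have hkr : fr.ker = f.ker.subgroupOf (S ⊔ M) := rfl
    rw [hrange, hmap, hkr,
      Nat.card_congr (Subgroup.subgroupOfEquivOfLe (hker.le.trans hCle)).toEquiv] at h2
    omega
  have hH : Nat.card H = 2 * m * R := by
    rw [← f.ker.card_mul_index, index_ker, hC]
  have hR120 : R ∣ 120 := by
    have := Subgroup.card_subgroup_dvd_card f.range
    rwa [Nat.card_eq_fintype_card (α := Equiv.Perm (Fin 5)), Fintype.card_perm, Fintype.card_fin,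
      show Nat.factorial 5 = 120 by decide] at this
  have hR60 : 60 ∣ R := hmap ▸ Subgroup.card_dvd_of_le (Subgroup.map_le_range f S)
  have hRcases : R = 60 ∨ R = 120 := by
    have := Nat.le_of_dvd (by norm_num) hR120
    have : 0 < R := Nat.card_pos
    omega
  have hmpos : 0 < m := Nat.card_pos
  have heq : 2 * m * R + 1 = p ^ n := by rw [← hH, hcardH, hV]
  have hn1 : 2 ≤ n := by
    by_contra hlt
    refine hnocyc 1 v₀ (fun W _ hW => ?_) (Commute.one_right _) (Commute.one_right _)
    refine Submodule.eq_top_of_finrank_eq (le_antisymm (Submodule.finrank_le W) ?_)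
    have : 0 < Module.finrank (ZMod p) W := by
      refine Nat.pos_of_ne_zero fun h => hv₀ ?_
      rw [Submodule.finrank_eq_zero.1 h] at hW
      exact hW
    omega
  rcases (show n = 2 ∨ 3 ≤ n by omega) with hn2 | hn3
  · -- dimension two
    have hscal : ∀ g ∈ f.ker, ∃ c : ZMod p, ∀ v, (g : V ≃ₗ[ZMod p] V) v = c • v := by
      intro g hg
      refine exists_scalar (g := T g) ?_
      by_contra hno
      push Not at hno
      obtain ⟨v, hv⟩ := hno
      rw [hker] at hg
      refine hnocyc (T g) v (fun W hW hvW => ?_) (hTc _ _ (mem_centralizer_iff.1 hg i hi))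
        (hTc _ _ (mem_centralizer_iff.1 hg j hj))
      refine Submodule.eq_top_of_finrank_eq (le_antisymm (Submodule.finrank_le W) ?_)
      have hind : LinearIndependent (ZMod p) ![(⟨v, hvW⟩ : W), ⟨T g v, hW v hvW⟩] := by
        rw [LinearIndependent.pair_iff' fun h => hv 0 (by
          rw [show v = 0 from congrArg Subtype.val h, map_zero, smul_zero])]
        intro c hc
        exact hv c (congrArg Subtype.val hc).symm
      have := hind.fintype_card_le_finrank
      rw [Fintype.card_fin] at this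
      omega
    choose cf hcf using hscal
    have hne0 : ∀ g (hg : g ∈ f.ker), cf g hg ≠ 0 := fun g hg h => hv₀ (by
      have := hcf g hg v₀
      rwa [h, zero_smul, LinearEquiv.map_eq_zero_iff] at this)
    let ψ : f.ker →* (ZMod p)ˣ :=
      { toFun := fun g => Units.mk0 (cf g g.2) (hne0 g g.2)
        map_one' := Units.ext (by
          refine smul_left_injective (ZMod p) hv₀ ?_
          show cf (1 : f.ker) _ • v₀ = (1 : ZMod p) • v₀
          rw [← hcf, one_smul]
          rfl)
        map_mul' := fun a b => Units.ext (by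
          refine smul_left_injective (ZMod p) hv₀ ?_
          show cf (a * b : f.ker) _ • v₀ = (cf a a.2 * cf b b.2) • v₀
          rw [← hcf]
          show ((a : H) : V ≃ₗ[ZMod p] V) (((b : H) : V ≃ₗ[ZMod p] V) v₀) = _
          rw [hcf b b.2, map_smul, hcf a a.2, smul_smul, mul_comm]) }
    have hψ : Function.Injective ψ := by
      intro a b hab
      have h1 : cf a a.2 = cf b b.2 := congrArg Units.val hab
      exact Subtype.ext (Subtype.ext (LinearEquiv.ext fun v => by rw [hcf a a.2, hcf b b.2, h1]))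
    have hdiv : 2 * m ∣ p - 1 := by
      rw [← hC, ← ZMod.card_units p, ← Nat.card_eq_fintype_card]
      exact Subgroup.card_dvd_of_injective ψ hψ
    haveI : IsCyclic f.ker := isCyclic_of_injective ψ hψ
    haveI : IsCyclic M := by
      have hle : M ≤ f.ker := hker ▸ hMC
      exact isCyclic_of_injective (Subgroup.inclusion hle) (Subgroup.inclusion_injective hle)
    obtain ⟨t, ht⟩ := hdiv
    have hp2 : 2 ≤ p := hp.two_le
    have hfac : (p + 1) * (p - 1) = p * p - 1 := by
      have := Nat.sq_sub_sq p 1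
      simp only [pow_two, one_pow, mul_one] at this
      exact this.symm
    rw [hn2, pow_two] at heq
    have hkey : (p + 1) * t = R := by
      refine Nat.eq_of_mul_eq_mul_left (show 0 < 2 * m by omega) ?_
      calc 2 * m * ((p + 1) * t) = (p + 1) * (2 * m * t) := by ring
        _ = 2 * m * R := by rw [← ht, hfac]; omega
    have hdvd : (p + 1) ∣ R := ⟨t, hkey.symm⟩
    have hplt : p < 120 := by
      have := Nat.le_of_dvd Nat.card_pos hdvd
      omega
    have hmeq : (p * p - 1) / (2 * R) = m := by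
      rw [show p * p - 1 = m * (2 * R) by rw [← heq, Nat.add_sub_cancel]; ring]
      exact Nat.mul_div_cancel _ (by omega)
    have hres := nearfield_arith p hplt hp R (by rcases hRcases with h | h <;> simp [h])
      (by rw [show p * p - 1 = m * (2 * R) by rw [← heq, Nat.add_sub_cancel]; ring]
          exact Nat.mul_mod_left _ _)
      (by rw [hmeq]; exact hM30) hdvd
    obtain ⟨hR6, hlist⟩ := hres
    rw [hmeq] at hlist
    -- the isomorphism
    let μ : S × M →* H :=
      { toFun := fun q => (q.1 : H) * q.2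
        map_one' := by simp
        map_mul' := fun q q' => by
          have hc : Commute (q'.1 : H) (q.2 : H) := mem_centralizer_iff.1 (hMC q.2.2) _ q'.1.2
          show ((q.1 * q'.1 : S) : H) * ((q.2 * q'.2 : M) : H) = _
          rw [Subgroup.coe_mul, Subgroup.coe_mul, mul_assoc, ← mul_assoc (q'.1 : H), hc.eq]
          simp only [mul_assoc] }
    have hμ : Function.Injective μ := by
      rw [injective_iff_map_eq_one]
      rintro ⟨s, m'⟩ h
      have h' : (s : H) * m' = 1 := h
      have hs : (s : H) ∈ S ⊓ M := ⟨s.2, by rw [eq_inv_of_mul_eq_one_left h']; exact M.inv_mem m'.2⟩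
      rw [hSM, mem_bot] at hs
      rw [hs, one_mul] at h'
      exact Prod.ext (Subtype.ext hs) (Subtype.ext h')
    have hbij : Function.Bijective μ := (Nat.bijective_iff_injective_and_card μ).2 ⟨hμ, by
      rw [Nat.card_prod, D.card_eq, hH, hR6, ← hm]; ring⟩
    obtain ⟨eS⟩ := D.iso
    have eH : H ≃* Matrix.SpecialLinearGroup (Fin 2) (ZMod 5) × M :=
      (MulEquiv.ofBijective μ hbij).symm.trans (MulEquiv.prodCongr eS (MulEquiv.refl M))
    have hV2 : Nat.card V = p * p := by rw [hV, hn2, pow_two]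
    simp only [List.mem_cons, List.not_mem_nil, or_false, Prod.mk.injEq] at hlist
    rcases hlist with ⟨rfl, h1⟩ | ⟨rfl, h1⟩ | ⟨rfl, h1⟩
    · refine Or.inl ⟨by rw [hV2], ?_⟩
      haveI : Unique M := (Nat.card_eq_one_iff_unique.1 h1).1.elim |> fun _ => ⟨⟨1⟩, fun _ =>
        (Nat.card_eq_one_iff_unique.1 h1).1.allEq _ _⟩
      exact ⟨eH.trans MulEquiv.prodUnique⟩
    · refine Or.inr (Or.inl ⟨by rw [hV2], ⟨eH.trans (MulEquiv.prodCongr (MulEquiv.refl _)
        (mulEquivOfCyclicCardEq ?_))⟩⟩)
      rw [← hm, h1, Nat.card_congr Multiplicative.toAdd, Nat.card_zmod]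
    · refine Or.inr (Or.inr ⟨by rw [hV2], ⟨eH.trans (MulEquiv.prodCongr (MulEquiv.refl _)
        (mulEquivOfCyclicCardEq ?_))⟩⟩)
      rw [← hm, h1, Nat.card_congr Multiplicative.toAdd, Nat.card_zmod]
  · -- dimension at least three
    exfalso
    have hnot6 : ¬ (p = 2 ∧ n = 6) := by
      rintro ⟨rfl, h6⟩
      rw [h6] at heq
      rcases hRcases with h | h <;> rw [h] at heq <;> omega
    have hprim : ∀ q : ℕ, q.Prime → q ∣ p ^ n - 1 → (∀ k, 0 < k → k < n → ¬ q ∣ p ^ k - 1) →
        q ∣ R := by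
      intro q hq hqd hqp
      haveI := Fact.mk hq
      obtain ⟨y, hy⟩ := exists_prime_orderOf_dvd_card' (G := H) q
        (by rw [show Nat.card H = p ^ n - 1 by rw [← hV, ← hcardH, Nat.add_sub_cancel]]; exact hqd)
      have hyker : y ∉ f.ker := fun hyk => by
        rw [hker] at hyk
        refine hnocyc (T y) v₀ (fun W hW hvW => ?_) (hTc _ _ (mem_centralizer_iff.1 hyk i hi))
          (hTc _ _ (mem_centralizer_iff.1 hyk j hj))
        exact eq_top_of_invariant hfpf hq hy hqp W hW fun h => hv₀ (by rw [h] at hvW; exact hvW)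
      have ho : orderOf (f y) = q := orderOf_eq_prime
        (by rw [← map_pow, ← hy, pow_orderOf_eq_one, map_one]) fun h => hyker (MonoidHom.mem_ker.2 h)
      rw [← ho]
      exact Subgroup.orderOf_dvd_natCard _ ⟨y, rfl⟩
    obtain ⟨r, hrp, hrd, hrk⟩ := Arith.exists_isPPD (a := p) hp.one_lt (by omega : 1 < n) hnot6
      (by rintro ⟨h, -⟩; omega)
    haveI := Fact.mk hrp
    have hrord : orderOf (p : ZMod r) = n := by
      rw [orderOf_eq_iff (by omega)]
      have hcast : ∀ k, (p : ZMod r) ^ k = 1 ↔ r ∣ p ^ k - 1 := fun k => by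
        rw [← Nat.cast_pow, ← Nat.cast_one (R := ZMod r), ZMod.natCast_eq_natCast_iff,
          Nat.ModEq.comm, Nat.modEq_iff_dvd' (Nat.one_le_pow _ _ hp.pos)]
      exact ⟨(hcast n).2 hrd, fun k hk hk0 h => hrk k hk0 hk ((hcast k).1 h)⟩
    have hnr : n ∣ r - 1 := hrord ▸ ZMod.orderOf_dvd_card_sub_one (fun h0 => by
      rw [h0, orderOf_zero] at hrord
      omega)
    have hr120 : r ∣ 120 := (hprim r hrp hrd hrk).trans hR120
    have hrle := Nat.le_of_dvd (Nat.sub_pos_of_lt hrp.one_lt) hnr
    have hr5 : r = 5 := by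
      have h1 : r ∣ 2 ^ 3 * 15 := hr120
      have h2 := ((Nat.coprime_primes hrp Nat.prime_two).2 (by omega) |>.pow_right 3).dvd_mul_left.1 h1
      rcases (Nat.Prime.dvd_mul hrp).1 (show r ∣ 3 * 5 from h2) with h | h
      · have := (Nat.prime_dvd_prime_iff_eq hrp Nat.prime_three).1 h
        omega
      · exact (Nat.prime_dvd_prime_iff_eq hrp (by norm_num)).1 h
    have hn4 : n = 4 := by
      rw [hr5] at hnr
      have := Nat.le_of_dvd (by norm_num) hnr
      interval_cases n <;> omega
    rw [hn4] at heq hprim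
    have hfac : p ^ 4 - 1 = (p ^ 2 + 1) * (p ^ 2 - 1) := by
      rw [← Nat.sq_sub_sq, ← pow_mul, one_pow]
    have hq5 : ∀ q : ℕ, q.Prime → q ∣ p ^ 2 + 1 → q = 2 ∨ q = 5 := by
      intro q hq hqd
      by_contra hno
      push Not at hno
      haveI := Fact.mk hq
      have hqR : q ∣ R := by
        refine hprim q hq (hfac ▸ hqd.mul_right _) fun k hk0 hk4 hd => ?_
        have h1 : ((p : ZMod q)) ^ 2 = -1 := by
          rw [eq_neg_iff_add_eq_zero]
          exact_mod_cast (ZMod.natCast_eq_zero_iff _ _).2 hqd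
        have h2 : ((p : ZMod q)) ^ k = 1 := by
          rw [← Nat.cast_pow, ← Nat.cast_one (R := ZMod q), ZMod.natCast_eq_natCast_iff,
            Nat.ModEq.comm, Nat.modEq_iff_dvd' (Nat.one_le_pow _ _ hp.pos)]
          exact hd
        have h3 : ((2 : ℕ) : ZMod q) = 0 := by
          have h4 : (-1 : ZMod q) = 1 := by
            interval_cases k
            · rw [pow_one] at h2
              rw [← h1, h2, one_pow]
            · rw [← h1, h2]
            · have h5 : (p : ZMod q) ^ 3 = (p : ZMod q) * (p : ZMod q) ^ 2 := by ring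
              rw [h5, h1, mul_neg, mul_one, neg_eq_iff_eq_neg] at h2
              rw [← h1, h2]
              ring
          push_cast
          linear_combination -h4
        exact hno.1 ((Nat.prime_dvd_prime_iff_eq hq Nat.prime_two).1 ((ZMod.natCast_eq_zero_iff _ _).1 h3))
      have h1 : q ∣ 2 ^ 3 * 15 := hqR.trans hR120
      have h2 := ((Nat.coprime_primes hq Nat.prime_two).2 hno.1 |>.pow_right 3).dvd_mul_left.1 h1
      rcases (Nat.Prime.dvd_mul hq).1 (show q ∣ 3 * 5 from h2) with h | h
      · have h3 := (Nat.prime_dvd_prime_iff_eq hq Nat.prime_three).1 h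
        subst h3
        have h4 : ((p : ZMod 3)) ^ 2 + 1 = 0 := by exact_mod_cast (ZMod.natCast_eq_zero_iff _ _).2 hqd
        revert h4
        generalize (p : ZMod 3) = c
        decide +revert
      · exact hno.2 ((Nat.prime_dvd_prime_iff_eq hq (by norm_num)).1 h)
    have hdvd : p ^ 2 + 1 ∣ 240 := by
      have h1 : p ^ 2 + 1 ∣ m * 240 := by
        have h2 : p ^ 2 + 1 ∣ 2 * m * R := by
          rw [show 2 * m * R = p ^ 4 - 1 by omega, hfac]
          exact dvd_mul_right _ _
        exact h2.trans (show 2 * m * R ∣ m * 240 by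
          rw [show m * 240 = 2 * m * 120 by ring]; exact mul_dvd_mul_left _ hR120)
      refine Nat.Coprime.dvd_of_dvd_mul_left (Nat.coprime_of_dvd fun q hq hqd hqm => ?_) h1
      rcases hq5 q hq hqd with rfl | rfl
      · exact absurd (hM30.coprime_dvd_left hqm) (by norm_num)
      · exact absurd (hM30.coprime_dvd_left hqm) (by norm_num)
    have hp15 : p ≤ 15 := by
      by_contra h
      have := Nat.le_of_dvd (by norm_num) hdvd
      nlinarith
    have hp2 := hp.two_le
    have hmR : 60 ≤ m * R := by nlinarith [Nat.le_of_dvd Nat.card_pos hR60]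
    have heq' : p ^ 4 = 2 * (m * R) + 1 := by rw [← heq]; ring
    rcases nearfield_arith' p hp15 hp hdvd with h | h <;> rw [h] at heq' <;> omega

end Cfsg.Agent.H78.Zass
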