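import Cfsg.Agent.H78.Zass.NoQOrders
import Mathlib.Tactic.Linarith

/-!
# No element of odd prime order centralizes a quaternion group
-/

set_option autoImplicit false
set_option linter.unusedSectionVars false
set_option linter.style.haveILetI false

namespace Cfsg.Agent.H78.Zass

open Subgroup

variable {G : Type*} [Group G] [Finite G]

theorem orderOf_conj' (g v : G) : orderOf (g * v * g⁻¹) = orderOf v :=
  orderOf_injective (MulAut.conj g).toMonoidHom (MulAut.conj g).injective v

theorem commute_conj {g u v : G} (h : Commute u v) : Commute (g * u * g⁻¹) (g * v * g⁻¹) :=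
  h.map (MulAut.conj g).toMonoidHom

theorem conj_mem_zpowers_conj {g u v : G} (h : u ∈ zpowers v) :
    g * u * g⁻¹ ∈ zpowers (g * v * g⁻¹) := by
  obtain ⟨j, rfl⟩ := mem_zpowers_iff.1 h
  exact ⟨j, conj_zpow⟩

theorem commute_of_zpowers_eq {u v w : G} (h : zpowers u = zpowers v) (hc : Commute w u) :
    Commute w v := by
  obtain ⟨j, rfl⟩ := mem_zpowers_iff.1 (h ▸ mem_zpowers v : v ∈ zpowers u)
  exact hc.zpow_right j

/-- A commutation with `w` moved along a conjugation fixing `zpowers w`. -/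
theorem commute_conj_of_normalizes {g v w : G} (hg : g ∈ normalizer (zpowers w : Set G))
    (hc : Commute v w) : Commute (g * v * g⁻¹) w :=
  commute_of_zpowers_eq (zpowers_conj_eq (mem_normalizer_zpowers_iff.1 hg) rfl) (commute_conj hc)

theorem Comp.compSet_ne_empty {y : G} (hy : Comp y) : y ∈ compSet y := by
  refine ⟨Commute.refl y, fun h => ?_⟩
  exact hy.ne_two ((Nat.prime_dvd_prime_iff_eq hy.prime Nat.prime_two).1 (orderOf_dvd_of_pow_eq_one h))

namespace PQGroup

variable (hG : PQGroup G) (hperf : commutator G = ⊤) (hIH : SubSL G)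
include hG hperf hIH

set_option maxHeartbeats 800000 in
/-- No element of odd prime order centralizes a quaternion pair. -/
theorem not_commute_qpair {x₀ i j : G} (hx₀ : (orderOf x₀).Prime) (hx₀2 : orderOf x₀ ≠ 2)
    (hij : IsQPair i j) (hi : Commute i x₀) (hj : Commute j x₀) : False := by
  classical
  haveI : Fact (Nat.Prime 2) := ⟨Nat.prime_two⟩
  haveI : Fact (Nat.Prime 3) := ⟨Nat.prime_three⟩
  set q := orderOf x₀ with hqdef
  obtain ⟨a, W, f⟩ := hG.exists_frame hperf hIH hx₀ hx₀2 rfl hij hi hj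
  obtain ⟨A, h1, h2, h3, h4, h5, h6, h7, h8, h9⟩ :=
    f.exists_A hG hperf hIH hx₀ hx₀2 rfl
  have F : FrameA x₀ a W A := ⟨f, h1, h2, h3, h4, h5, h6, h7, h8, h9⟩
  have hcardC := F.card_C hG hperf hIH hx₀ hx₀2 rfl
  have hcardL := F.card_L hG hperf hIH hx₀ hx₀2 rfl
  have hcardNi := F.card_Ni hG hperf hIH hx₀ hx₀2 rfl
  have h4i := f.orderOf_i
  set α := Nat.card A with hα
  set z := a ^ 4 with hz
  have hzo : orderOf z = 2 := f.orderOf_z
  -- 2-elements have order dividing 8
  have hexp : ∀ h : G, ∀ e, orderOf h = 2 ^ e → orderOf h ∣ 8 := by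
    intro h e he
    obtain ⟨P, hP⟩ := (IsPGroup.of_card (n := e)
      (by rw [Nat.card_zpowers, he] : Nat.card (zpowers h) = 2 ^ e)).exists_le_sylow
    have hhP : h ∈ (P : Subgroup G) := hP (mem_zpowers h)
    have hnc : ¬ IsCyclic (P : Subgroup G) := by
      intro hc
      obtain ⟨P', hP'⟩ := f.isPGroup_W.exists_le_sylow
      haveI := (P.equiv P').isCyclic.1 hc
      exact f.notCyclic (isCyclic_of_injective (Subgroup.inclusion hP') (Subgroup.inclusion_injective _))
    obtain ⟨b, x', k, hQ⟩ := hG.exists_quat P.2 hnc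
    have hk : k ≤ 1 := by
      have := f.le16 _ P.2
      rw [hQ.card, show (16 : ℕ) = 2 ^ 4 from rfl, Nat.pow_le_pow_iff_right (by norm_num)] at this
      omega
    by_cases hb : h ∈ zpowers b
    · have := Subgroup.orderOf_dvd_natCard _ hb
      rw [Nat.card_zpowers, hQ.ord] at this
      exact this.trans (show (2 : ℕ) ^ (k + 2) ∣ 2 ^ 3 from pow_dvd_pow 2 (by omega))
    · rw [hQ.orderOf_eq_four hhP hb]; norm_num
  -- an element of order four commuting with an element moves it into `C(a ^ 2)`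
  have hmove : ∀ w u : G, orderOf u = 4 → Commute u w → ∃ g, Commute (g * w * g⁻¹) (a ^ 2) := by
    intro w u hu huw
    obtain ⟨g, hg⟩ := hG.exists_conj_four hperf hu h4i
    exact ⟨g, commute_of_zpowers_eq (zpowers_conj_eq hg (hu.trans h4i.symm))
      (commute_conj huw.symm)⟩
  -- prime order elements of `C(x₀)`
  have hprimeC : ∀ w : G, (orderOf w).Prime → orderOf w ≠ 2 → Commute w x₀ →
      w ∈ A ∨ orderOf w = 3 ∧ ¬ 3 ∣ α := by
    intro w hw hw2 hwx
    have hd : orderOf w ∣ 24 * α :=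
      hcardC ▸ Subgroup.orderOf_dvd_natCard _ (mem_centralizer_of_commute hwx)
    have hA : orderOf w ∣ α → w ∈ A := fun hd => by
      haveI := Fact.mk hw
      obtain ⟨y', hy'⟩ := exists_prime_orderOf_dvd_card' (G := A) (orderOf w) hd
      rw [← orderOf_coe] at hy'
      exact F.mem_A_of_prime_comm hG y'.2 (by rw [hy']; exact hw) hy'.symm hwx
    rcases hw.dvd_mul.1 hd with h | h
    · have h3' : orderOf w = 3 := by
        rcases hw.dvd_mul.1 (show orderOf w ∣ 2 ^ 3 * 3 from h) with h | h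
        · exact absurd ((Nat.prime_dvd_prime_iff_eq hw Nat.prime_two).1 (hw.dvd_of_dvd_pow h)) hw2
        · exact (Nat.prime_dvd_prime_iff_eq hw Nat.prime_three).1 h
      by_cases h3 : 3 ∣ α
      · exact Or.inl (hA (h3' ▸ h3))
      · exact Or.inr ⟨h3', h3⟩
    · exact Or.inl (hA h)
  have hApow : ∀ v, v ∈ wSet x₀ A → ∃ y ∈ zpowers v, y ∈ A ∧ (orderOf y).Prime := by
    rintro v ⟨-, β, hβ, hβv, hβ1⟩
    obtain ⟨y, hy, hyp, -⟩ := exists_prime_power_mem hβ1
    exact ⟨y, zpowers_le.2 hβv hy, (zpowers_le.2 hβ : zpowers β ≤ A) hy, hyp⟩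
  -- the four families
  have hW1 : ((conjUnion (wSet x₀ A)).ncard : ℚ) =
      Nat.card G * (((wSet x₀ A).ncard : ℚ) / Nat.card (normalizer (zpowers x₀ : Set G))) := by
    refine ncard_conjUnion_eq (H := normalizer (zpowers x₀ : Set G)) ?_ ?_
    · rintro g hg v ⟨hvx, β, hβ, hβv, hβ1⟩
      exact ⟨commute_conj_of_normalizes hg hvx, g * β * g⁻¹, F.conj g hg β hβ,
        conj_mem_zpowers_conj hβv, fun h => hβ1 (conj_eq_one_iff.1 h)⟩
    · intro g v hv hgv
      obtain ⟨y, hyv, hyA, hyp⟩ := hApow v hv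
      have hcy : Commute (g * y * g⁻¹) x₀ :=
        commute_of_mem_zpowers (conj_mem_zpowers_conj hyv) hgv.1
      have heq := hG.zpowers_eq_of_commute hyp (F.central _ hcy y hyA) (orderOf_conj' g y) rfl
      rw [← (F.prime y hyA hyp).1, mem_normalizer_zpowers_iff, ← heq]
      exact mem_zpowers _
  have hTIi : ∀ g v : G, Commute v (a ^ 2) → orderOf v = 4 → Commute (g * v * g⁻¹) (a ^ 2) →
      g ∈ normalizer (zpowers (a ^ 2) : Set G) := by
    intro g v hv hv4 hgv
    have e1 := hG.zpowers_eq_of_commute_two (m := 2) hv (by rw [hv4]; rfl) (by rw [h4i]; rfl)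
    have e2 := hG.zpowers_eq_of_commute_two (m := 2) hgv (by rw [orderOf_conj', hv4]; rfl)
      (by rw [h4i]; rfl)
    rw [mem_normalizer_zpowers_iff, ← e2]
    exact conj_mem_zpowers_conj (e1 ▸ mem_zpowers (a ^ 2))
  have hB8 : ((conjUnion (eightSet a)).ncard : ℚ) =
      Nat.card G * (((eightSet a).ncard : ℚ) / Nat.card (normalizer (zpowers (a ^ 2) : Set G))) := by
    refine ncard_conjUnion_eq (H := normalizer (zpowers (a ^ 2) : Set G)) ?_ ?_
    · rintro g hg v ⟨hv, hv8⟩
      exact ⟨commute_conj_of_normalizes hg hv, by rw [orderOf_conj', hv8]⟩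
    · rintro g v ⟨hv, hv8⟩ ⟨hgv, -⟩
      refine hTIi g (v ^ 2) (hv.pow_left 2) ?_ ?_
      · rw [orderOf_pow_of_dvd two_ne_zero (hv8 ▸ (by norm_num)), hv8]
      · rw [← conj_pow]; exact hgv.pow_left 2
  have hB4 : ((conjUnion (fourSet a)).ncard : ℚ) =
      Nat.card G * (((fourSet a).ncard : ℚ) / Nat.card (normalizer (zpowers (a ^ 2) : Set G))) := by
    refine ncard_conjUnion_eq (H := normalizer (zpowers (a ^ 2) : Set G)) ?_ ?_
    · rintro g hg v ⟨hv, hv4⟩
      exact ⟨(zpowers_conj_eq (mem_normalizer_zpowers_iff.1 hg) rfl) ▸ conj_mem_zpowers_conj hv,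
        by rw [orderOf_conj', hv4]⟩
    · rintro g v ⟨hv, hv4⟩ ⟨hgv, -⟩
      exact hTIi g v (commute_of_mem_zpowers hv (Commute.refl _)) hv4
        (commute_of_mem_zpowers hgv (Commute.refl _))
  -- elements of order three
  obtain ⟨y3, hy3o, hy3x⟩ : ∃ y : G, orderOf y = 3 ∧ Commute y x₀ := by
    obtain ⟨y, hy⟩ := exists_prime_orderOf_dvd_card' (G := centralizer ({x₀} : Set G)) 3
      (hcardC ▸ dvd_mul_of_dvd_left (by norm_num) _)
    exact ⟨y, by rw [orderOf_coe, hy], mem_centralizer_singleton_iff.1 y.2⟩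
  have hno3 : ¬ 3 ∣ α → ∀ u : G, orderOf u = 4 → ¬ Commute u y3 := by
    intro h3 u hu huy
    obtain ⟨g, hg⟩ := hmove y3 u hu huy
    have hmem := F.mem_of_comm _ (by rw [orderOf_conj', hy3o]; decide) hg
    exact h3 (hy3o ▸ orderOf_conj' g y3 ▸ Subgroup.orderOf_dvd_natCard _ hmem)
  set T3 : Set G := if 3 ∣ α then ∅ else conjUnion (threeSet y3) with hT3
  have hT3card : (T3.ncard : ℚ) = Nat.card G * (if 3 ∣ α then (0 : ℚ) else 1 / (3 * α)) := by
    by_cases h3 : 3 ∣ α
    · rw [hT3, if_pos h3, if_pos h3, Set.ncard_empty, mul_zero, Nat.cast_zero]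
    rw [hT3, if_neg h3, if_neg h3]
    have hno := hno3 h3
    obtain ⟨K, hK, hKodd, hKiff⟩ := hG.exists_oddPart (hG.noQPair_of_noFour hno)
    haveI := hG.isCyclic_of_odd hperf hIH hKodd
    have hmemK : ∀ o : G, Commute o y3 → Odd (orderOf o) → o ∈ K := fun o ho hoo =>
      (hKiff o (mem_centralizer_of_commute ho)).2 hoo
    have hxK : x₀ ∈ K := hmemK x₀ hy3x.symm (hqdef ▸ hx₀.odd_of_ne_two hx₀2)
    have hyK : y3 ∈ K := hmemK y3 (Commute.refl _) (by rw [hy3o]; decide)
    have hAy : A ⊓ zpowers y3 = ⊥ := by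
      refine Coprime.inf_eq_bot ?_
      rw [Nat.card_zpowers, hy3o]
      exact (Nat.prime_three.coprime_iff_not_dvd.2 h3).symm
    have hcardK : Nat.card K = 3 * α := by
      refine Nat.dvd_antisymm ?_ ?_
      · have hKC : K ≤ centralizer ({x₀} : Set G) := fun o ho => by
          letI : CommGroup K := IsCyclic.commGroup
          exact mem_centralizer_of_commute
            (congrArg Subtype.val (mul_comm (⟨o, ho⟩ : K) ⟨x₀, hxK⟩))
        have hd : Nat.card K ∣ 2 ^ 3 * (3 * α) := by
          have := Subgroup.card_dvd_of_le hKC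
          rw [hcardC] at this
          rwa [← mul_assoc]
        exact ((Nat.coprime_two_right.2 hKodd).pow_right 3).dvd_of_dvd_mul_left hd
      · have hle : A ⊔ zpowers y3 ≤ K := sup_le (fun β hβ => hmemK β
          (F.central y3 hy3x β hβ).symm (F.odd_mem hβ)) (zpowers_le.2 hyK)
        have hc := Coprime.card_sup (N := A) (H := zpowers y3)
          (zpowers_le.2 (mem_normalizer_iff.2 fun β => ⟨fun hβ => by
            rw [(F.central y3 hy3x β hβ).eq, mul_inv_cancel_right]; exact hβ, fun hβ => by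
            have hb : y3 * β * y3⁻¹ = β := by
              have h5 := F.central y3 hy3x _ hβ
              have h6 : y3 * (y3 * β * y3⁻¹) * y3⁻¹ = y3 * β * y3⁻¹ := by
                rw [h5.eq, mul_inv_cancel_right]
              exact (MulAut.conj y3).injective h6
            rwa [hb] at hβ⟩)) hAy
        rw [Nat.card_zpowers, hy3o] at hc
        exact (mul_comm α 3 ▸ hc) ▸ Subgroup.card_dvd_of_le hle
    have hC2 : Nat.card (centralizer ({y3} : Set G)) = 2 * (3 * α) := by
      rw [← hcardK]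
      refine card_eq_two_mul hK (mem_centralizer_of_commute (hG.commute_involution hzo y3).symm)
        (fun h => by
          have := (hKiff z (hK h)).1 h
          rw [hzo] at this
          exact absurd this (by decide)) fun g hg => ?_
      have hgy : Commute g y3 := mem_centralizer_singleton_iff.1 hg
      obtain ⟨o, ho, h, hh, hoh, hoo, e, he⟩ := exists_parts g
      have hoK := hmemK o (commute_of_mem_zpowers ho hgy) hoo
      rcases hG.eq_one_or_eq_of_sq hzo
        (hG.sq_eq_one_of_noFour hno (commute_of_mem_zpowers hh hgy) he) with rfl | rfl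
      · exact Or.inl (by rwa [← hoh, mul_one])
      · exact Or.inr ⟨o, hoK, hoh.symm⟩
    have hN : Nat.card (normalizer (zpowers y3 : Set G)) = 2 * (2 * (3 * α)) := by
      obtain ⟨g₀, hg₀, hg₀y⟩ := hG.exists_not_commute hperf Nat.prime_three (by norm_num) hy3o
      rw [← hC2]
      refine card_eq_two_mul (centralizer_le_normalizer_zpowers y3)
        (mem_normalizer_zpowers_iff.2 hg₀) (fun h => hg₀y (mem_centralizer_singleton_iff.1 h))
        fun t ht => ?_
      have hinv : ∀ s : G, s * y3 * s⁻¹ ∈ zpowers y3 → ¬ Commute s y3 → s * y3 * s⁻¹ = y3⁻¹ := by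
        intro s hs hsc
        obtain ⟨m, hm⟩ := exists_conj_eq_pow hs
        rw [← pow_mod_orderOf, hy3o] at hm
        have : m % 3 = 0 ∨ m % 3 = 1 ∨ m % 3 = 2 := by omega
        rcases this with h | h | h <;> rw [h] at hm
        · rw [pow_zero, conj_eq_one_iff] at hm
          rw [hm, orderOf_one] at hy3o
          omega
        · rw [pow_one] at hm
          exact absurd (mul_inv_eq_iff_eq_mul.1 hm) hsc
        · rw [hm]
          refine eq_inv_of_mul_eq_one_left ?_
          rw [← pow_succ, show (2 + 1 : ℕ) = orderOf y3 from hy3o.symm, pow_orderOf_eq_one]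
      by_cases hc : Commute t y3
      · exact Or.inl (mem_centralizer_of_commute hc)
      refine Or.inr ⟨t * g₀⁻¹, mem_centralizer_of_commute (mul_inv_eq_iff_eq_mul.1 ?_),
        (inv_mul_cancel_right t g₀).symm⟩
      have h1 := hinv t (mem_normalizer_zpowers_iff.1 ht) hc
      have h2 := hinv g₀ hg₀ hg₀y
      calc t * g₀⁻¹ * y3 * (t * g₀⁻¹)⁻¹ = t * (g₀⁻¹ * (g₀ * y3 * g₀⁻¹)⁻¹ * g₀) * t⁻¹ := by
            rw [h2]; group
        _ = (t * y3 * t⁻¹)⁻¹ := by group
        _ = y3 := by rw [h1, inv_inv]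
    have hset : threeSet y3 = {y3, y3⁻¹, y3 * z, y3⁻¹ * z} := by
      ext v
      constructor
      · rintro ⟨hvy, hv6, hv2⟩
        obtain ⟨o, ho, h, hh, hoh, hoo, e, he⟩ := exists_parts v
        have hh2 := hG.eq_one_or_eq_of_sq hzo
          (hG.sq_eq_one_of_noFour hno (commute_of_mem_zpowers hh hvy) he)
        have ho1 : o ≠ 1 := by
          rintro rfl
          rw [one_mul] at hoh
          subst hoh
          rcases hh2 with h | h <;> apply hv2 <;> rw [h]
          · exact one_pow 2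
          · exact hzo ▸ pow_orderOf_eq_one _
        have ho3 : orderOf o = 3 := by
          have hd : orderOf o ∣ 2 * 3 := by
            refine orderOf_dvd_of_pow_eq_one ?_
            obtain ⟨j, rfl⟩ := mem_zpowers_iff.1 ho
            rw [← zpow_natCast, ← zpow_mul, mul_comm, zpow_mul, zpow_natCast, hv6, one_zpow]
          exact (Nat.prime_three.eq_one_or_self_of_dvd _
            ((Nat.coprime_two_right.2 hoo).dvd_of_dvd_mul_left hd)).resolve_left
            fun h => ho1 (orderOf_eq_one_iff.1 h)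
        have heq := hG.zpowers_eq_of_commute Nat.prime_three (commute_of_mem_zpowers ho hvy) ho3 hy3o
        obtain ⟨m, hm⟩ := mem_powers_iff_mem_zpowers.2 (heq ▸ mem_zpowers o : o ∈ zpowers y3)
        change y3 ^ m = o at hm
        rw [← pow_mod_orderOf, hy3o] at hm
        have : m % 3 = 0 ∨ m % 3 = 1 ∨ m % 3 = 2 := by omega
        have hinv2 : y3 ^ 2 = y3⁻¹ := by
          refine eq_inv_of_mul_eq_one_left ?_
          rw [← pow_succ, show (2 + 1 : ℕ) = orderOf y3 from hy3o.symm, pow_orderOf_eq_one]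
        rcases this with h0 | h0 | h0 <;> rw [h0] at hm
        · exact absurd (by rw [← hm, pow_zero]) ho1
        · rw [pow_one] at hm
          rcases hh2 with rfl | rfl <;> rw [← hoh, ← hm]
          · exact Or.inl (mul_one _)
          · exact Or.inr (Or.inr (Or.inl rfl))
        · rw [hinv2] at hm
          rcases hh2 with rfl | rfl <;> rw [← hoh, ← hm]
          · exact Or.inr (Or.inl (mul_one _))
          · exact Or.inr (Or.inr (Or.inr rfl))
      · have hz2 : z ^ 2 = 1 := hzo ▸ pow_orderOf_eq_one z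
        have hkey : ∀ u : G, Commute u y3 → orderOf u = 3 →
            u ∈ threeSet y3 ∧ u * z ∈ threeSet y3 := by
          intro u hu hu3
          have hu3' : u ^ 3 = 1 := hu3 ▸ pow_orderOf_eq_one u
          have hcz : Commute u z := hG.commute_involution hzo u
          have hu2 : u ^ 2 ≠ 1 := fun h => by
            have := orderOf_dvd_of_pow_eq_one h
            rw [hu3] at this
            norm_num at this
          refine ⟨⟨hu, by rw [show 6 = 3 * 2 from rfl, pow_mul, hu3', one_pow], hu2⟩,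
            ⟨hu.mul_left (hG.commute_involution hzo y3).symm, ?_, ?_⟩⟩
          · rw [hcz.mul_pow, show 6 = 3 * 2 from rfl, pow_mul, hu3', one_pow, mul_comm 3 2, pow_mul,
              hz2, one_pow, mul_one]
          · rwa [hcz.mul_pow, hz2, mul_one]
        rintro (h | h | h | h) <;> rw [h]
        · exact (hkey y3 (Commute.refl _) hy3o).1
        · exact (hkey y3⁻¹ (Commute.refl y3).inv_left (by rw [orderOf_inv, hy3o])).1
        · exact (hkey y3 (Commute.refl _) hy3o).2
        · exact (hkey y3⁻¹ (Commute.refl y3).inv_left (by rw [orderOf_inv, hy3o])).2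
    have hset4 : (threeSet y3).ncard = 4 := by
      have hy2 : y3 ≠ y3⁻¹ := fun h => by
        have h1 : y3 ^ 2 = 1 := by rw [pow_two]; nth_rewrite 1 [h]; exact inv_mul_cancel _
        have := orderOf_dvd_of_pow_eq_one h1
        rw [hy3o] at this
        norm_num at this
      have hz1 : z ≠ 1 := fun h => by rw [h, orderOf_one] at hzo; omega
      have hodd3 : ∀ u : G, orderOf u = 3 → ∀ w : G, orderOf w = 3 → u ≠ w * z := by
        intro u hu w hw h
        have h1 := congrArg orderOf h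
        rw [(hG.commute_involution hzo w).orderOf_mul_eq_mul_orderOf_of_coprime
          (by rw [hw, hzo]; norm_num), hu, hw, hzo] at h1
        omega
      have hyi : orderOf y3⁻¹ = 3 := by rw [orderOf_inv, hy3o]
      rw [hset, Set.ncard_insert_of_notMem (by
          rintro (h | h | h)
          · exact hy2 h
          · exact hodd3 _ hy3o _ hy3o h
          · exact hodd3 _ hy3o _ hyi h),
        Set.ncard_insert_of_notMem (by
          rintro (h | h)
          · exact hodd3 _ hyi _ hy3o h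
          · exact hodd3 _ hyi _ hyi h),
        Set.ncard_pair (fun h => hy2 (mul_right_cancel h))]
    have hT : ((conjUnion (threeSet y3)).ncard : ℚ) =
        Nat.card G * (((threeSet y3).ncard : ℚ) / Nat.card (normalizer (zpowers y3 : Set G))) := by
      refine ncard_conjUnion_eq (H := normalizer (zpowers y3 : Set G)) ?_ ?_
      · rintro g hg v ⟨hv, hv6, hv2⟩
        refine ⟨commute_conj_of_normalizes hg hv, ?_, fun h => hv2 ?_⟩
        · rw [conj_pow, hv6, mul_one, mul_inv_cancel]
        · rwa [conj_pow, conj_eq_one_iff] at h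
      · rintro g v ⟨hv, hv6, hv2⟩ ⟨hgv, -, -⟩
        have ho : orderOf (v ^ 2) = 3 := orderOf_eq_prime (by rw [← pow_mul]; exact hv6) hv2
        have e1 := hG.zpowers_eq_of_commute Nat.prime_three (hv.pow_left 2) ho hy3o
        have e2 := hG.zpowers_eq_of_commute Nat.prime_three (hgv.pow_left 2)
          (by rw [conj_pow, orderOf_conj', ho]) hy3o
        rw [mem_normalizer_zpowers_iff, ← e2, conj_pow]
        exact conj_mem_zpowers_conj (e1 ▸ mem_zpowers y3)
    rw [hT, hset4, hN]
    push_cast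
    congr 1
    have hαp : (0 : ℚ) < α := Nat.cast_pos.2 Nat.card_pos
    rw [div_eq_div_iff (by positivity) (by positivity)]
    ring
  -- the union and its size
  set U := conjUnion (wSet x₀ A) ∪ conjUnion (eightSet a) ∪ conjUnion (fourSet a) ∪ T3 with hU
  have hmemW : ∀ t ∈ conjUnion (wSet x₀ A),
      ∃ u ∈ zpowers t, u ≠ 1 ∧ Odd (orderOf u) ∧ orderOf u ∣ α := by
    rintro _ ⟨g, v, ⟨-, β, hβ, hβv, hβ1⟩, rfl⟩
    refine ⟨g * β * g⁻¹, conj_mem_zpowers_conj hβv, fun h => hβ1 (conj_eq_one_iff.1 h), ?_, ?_⟩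
    · rw [orderOf_conj']; exact F.odd_mem hβ
    · rw [orderOf_conj']; exact Subgroup.orderOf_dvd_natCard _ hβ
  have hmem8 : ∀ t ∈ conjUnion (eightSet a), orderOf t = 8 := by
    rintro _ ⟨g, v, ⟨-, hv⟩, rfl⟩; rw [orderOf_conj', hv]
  have hmem4 : ∀ t ∈ conjUnion (fourSet a), orderOf t = 4 := by
    rintro _ ⟨g, v, ⟨-, hv⟩, rfl⟩; rw [orderOf_conj', hv]
  have hmem3 : ∀ t ∈ T3, ¬ 3 ∣ α ∧ t ^ 6 = 1 ∧ t ^ 2 ≠ 1 := by
    intro t ht
    rw [hT3] at ht
    split_ifs at ht with h3
    · exact absurd ht (Set.notMem_empty t)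
    obtain ⟨g, v, ⟨-, hv6, hv2⟩, rfl⟩ := ht
    exact ⟨h3, by rw [conj_pow, hv6, mul_one, mul_inv_cancel],
      fun h => hv2 (by rwa [conj_pow, conj_eq_one_iff] at h)⟩
  have hWnot : ∀ t ∈ conjUnion (wSet x₀ A), ¬ orderOf t ∣ 8 := by
    intro t ht hd
    obtain ⟨u, hu, hu1, huo, -⟩ := hmemW t ht
    have h1 : orderOf u ∣ 2 ^ 3 :=
      ((Nat.card_zpowers t).symm ▸ Subgroup.orderOf_dvd_natCard _ hu : orderOf u ∣ orderOf t).trans hd
    exact hu1 (orderOf_eq_one_iff.1 (Nat.eq_one_of_dvd_coprimes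
      ((Nat.coprime_two_right.2 huo).pow_right 3) dvd_rfl h1))
  have hd1 : Disjoint (conjUnion (wSet x₀ A)) (conjUnion (eightSet a)) :=
    Set.disjoint_left.2 fun t h h' => hWnot t h (by rw [hmem8 t h'])
  have hd2 : Disjoint (conjUnion (wSet x₀ A) ∪ conjUnion (eightSet a)) (conjUnion (fourSet a)) := by
    refine Set.disjoint_left.2 fun t h h' => ?_
    rcases h with h | h
    · exact hWnot t h (by rw [hmem4 t h']; norm_num)
    · have := hmem8 t h; rw [hmem4 t h'] at this; omega
  have hd3 : Disjoint (conjUnion (wSet x₀ A) ∪ conjUnion (eightSet a) ∪ conjUnion (fourSet a)) T3 := by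
    refine Set.disjoint_left.2 fun t h h' => ?_
    obtain ⟨h3, ht6, ht2⟩ := hmem3 t h'
    have hd := orderOf_dvd_of_pow_eq_one ht6
    rcases h with (h | h) | h
    · obtain ⟨u, hu, hu1, huo, huα⟩ := hmemW t h
      have h1 : orderOf u ∣ 2 * 3 :=
        ((Nat.card_zpowers t).symm ▸ Subgroup.orderOf_dvd_natCard _ hu : orderOf u ∣ orderOf t).trans hd
      exact hu1 (orderOf_eq_one_iff.1 (Nat.eq_one_of_dvd_coprimes
        (Nat.prime_three.coprime_iff_not_dvd.2 h3)
        ((Nat.coprime_two_right.2 huo).dvd_of_dvd_mul_left h1) huα))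
    · rw [hmem8 t h] at hd; norm_num at hd
    · rw [hmem4 t h] at hd; norm_num at hd
  have hαpos : (0 : ℚ) < α := Nat.cast_pos.2 Nat.card_pos
  have hUcard : (U.ncard : ℚ) = Nat.card G * (3 / 4 - 1 / (24 * α)) := by
    rw [hU, Set.ncard_union_eq hd3, Set.ncard_union_eq hd2, Set.ncard_union_eq hd1, Nat.cast_add,
      Nat.cast_add, Nat.cast_add, hW1, hB8, hB4, hT3card, hcardL, hcardNi,
      F.eightSet_ncard hG hperf hIH hx₀ hx₀2 rfl, F.fourSet_ncard hG]
    have hw := F.wSet_ncard hG hperf hIH hx₀ hx₀2 rfl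
    rw [← mul_add, ← mul_add, ← mul_add]
    congr 1
    split_ifs with h3
    · rw [if_pos h3] at hw
      have hw' : ((wSet x₀ A).ncard : ℚ) + 8 = 24 * α := by exact_mod_cast hw
      rw [show ((wSet x₀ A).ncard : ℚ) = 24 * α - 8 by linarith]
      push_cast
      field_simp
      ring
    · rw [if_neg h3] at hw
      have hw' : ((wSet x₀ A).ncard : ℚ) + 24 = 24 * α := by exact_mod_cast hw
      rw [show ((wSet x₀ A).ncard : ℚ) = 24 * α - 24 by linarith]
      push_cast
      field_simp
      ring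
  have hmemU : ∀ v : G, v ∈ wSet x₀ A → v ∈ U := fun v h =>
    Or.inl (Or.inl (Or.inl (mem_conjUnion_self h)))
  have hUconj : ∀ t ∈ U, ∀ g : G, g * t * g⁻¹ ∈ U := by
    intro t ht g
    rcases ht with ((h | h) | h) | h
    · exact Or.inl (Or.inl (Or.inl (conjUnion_conj h g)))
    · exact Or.inl (Or.inl (Or.inr (conjUnion_conj h g)))
    · exact Or.inl (Or.inr (conjUnion_conj h g))
    · refine Or.inr ?_
      rw [hT3] at h ⊢
      split_ifs at h ⊢ with h3
      · exact h
      · exact conjUnion_conj h g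
  -- every other element lies in a component
  have hpick : ∀ v : G, v ∉ U → v ≠ 1 → v ≠ z → ∃ y : G, Comp y ∧ 5 ≤ orderOf y ∧
      v ∈ conjUnion (compSet y) ∧ Disjoint U (conjUnion (compSet y)) := by
    intro v hvU hv1 hvz
    have hnotU : ∀ g : G, g * v * g⁻¹ ∉ U := fun g h => hvU (by
      simpa [mul_assoc] using hUconj _ h g⁻¹)
    have hnotA : ∀ y ∈ zpowers v, (orderOf y).Prime → ∀ g : G, g * y * g⁻¹ ∉ A := by
      intro y hy hyp g hgy
      refine hnotU g (hmemU _ ⟨?_, g * y * g⁻¹, hgy, conj_mem_zpowers_conj hy, fun h => ?_⟩)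
      · refine (F.prime _ hgy (by rw [orderOf_conj']; exact hyp)).2 _ ?_
        exact (commute_of_mem_zpowers (conj_mem_zpowers_conj hy) (Commute.refl _)).symm
      · rw [conj_eq_one_iff] at h
        rw [h, orderOf_one] at hyp
        exact Nat.not_prime_one hyp
    obtain ⟨o, ho, h, hh, hoh, hoo, e, he⟩ := exists_parts v
    have hh2 : h ^ 2 = 1 := by
      by_contra hne
      have he2 : 2 ≤ e := by
        by_contra hlt
        exact hne (orderOf_dvd_iff_pow_eq_one.1
          (he ▸ (pow_dvd_pow 2 (show e ≤ 1 by omega)).trans (by norm_num)))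
      have hu : orderOf (h ^ 2 ^ (e - 2)) = 4 := by
        rw [orderOf_pow_of_dvd (by positivity) (he ▸ pow_dvd_pow 2 (by omega)), he,
          Nat.pow_div (by omega) two_pos, show e - (e - 2) = 2 by omega]
        norm_num
      obtain ⟨g, hg⟩ := hmove v _ hu
        (commute_of_mem_zpowers hh (Commute.refl v) |>.pow_left _)
      have ho1 : o = 1 := by
        by_contra ho1
        obtain ⟨y, hy, hyp, hy2⟩ := exists_odd_prime_power_mem ho1 hoo
        have hyv : y ∈ zpowers v := zpowers_le.2 ho hy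
        refine hnotA y hyv hyp g (F.mem_of_comm _ ?_
          (commute_of_mem_zpowers (conj_mem_zpowers_conj hyv) hg))
        rw [orderOf_conj']
        exact hyp.odd_of_ne_two hy2
      rw [ho1, one_mul] at hoh
      subst hoh
      have h8 := hexp h e he
      rw [he, show (8 : ℕ) = 2 ^ 3 from rfl, Nat.pow_dvd_pow_iff_le_right (by norm_num)] at h8
      rcases (show e = 2 ∨ e = 3 by omega) with rfl | rfl
      · refine hnotU g (Or.inl (Or.inr (mem_conjUnion_self ⟨?_, by rw [orderOf_conj', he]; rfl⟩)))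
        exact hG.zpowers_eq_of_commute_two (m := 2) hg (by rw [orderOf_conj', he])
          (by rw [h4i]; rfl) ▸ mem_zpowers _
      · exact hnotU g (Or.inl (Or.inl (Or.inr
          (mem_conjUnion_self ⟨hg, by rw [orderOf_conj', he]; rfl⟩))))
    have ho1 : o ≠ 1 := by
      intro ho1
      rw [ho1, one_mul] at hoh
      subst hoh
      rcases hG.eq_one_or_eq_of_sq hzo hh2 with h | h
      · exact hv1 h
      · exact hvz h
    have hv2 : v ^ 2 ≠ 1 := by
      intro h0
      refine ho1 (orderOf_eq_one_iff.1 (Nat.eq_one_of_dvd_coprimes (Nat.coprime_two_right.2 hoo)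
        dvd_rfl (orderOf_dvd_of_pow_eq_one ?_)))
      obtain ⟨j, rfl⟩ := mem_zpowers_iff.1 ho
      rw [← zpow_natCast, ← zpow_mul, mul_comm, zpow_mul, zpow_natCast, h0, one_zpow]
    obtain ⟨y, hy, hyp, hy2⟩ := exists_odd_prime_power_mem ho1 hoo
    have hyv : y ∈ zpowers v := zpowers_le.2 ho hy
    -- `y` has order at least five
    have hy3 : orderOf y ≠ 3 := by
      intro hy3
      -- all subgroups of order three are conjugate
      obtain ⟨P, hP⟩ := (IsPGroup.of_card (n := 1) (by rw [Nat.card_zpowers, hy3, pow_one] :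
        Nat.card (zpowers y) = 3 ^ 1)).exists_le_sylow
      obtain ⟨P', hP'⟩ := (IsPGroup.of_card (n := 1) (by rw [Nat.card_zpowers, hy3o, pow_one] :
        Nat.card (zpowers y3) = 3 ^ 1)).exists_le_sylow
      obtain ⟨g, hg⟩ := MulAction.exists_smul_eq G P P'
      have hgy : g * y * g⁻¹ ∈ (P' : Subgroup G) := hg ▸ ⟨y, hP (mem_zpowers y), rfl⟩
      have heq : zpowers (g * y * g⁻¹) = zpowers y3 :=
        H41.eq_of_card_eq_of_le_cyclic (hG.isCyclic_odd P'.2 (by norm_num)) (zpowers_le.2 hgy)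
          (zpowers_le.2 (hP' (mem_zpowers y3))) (by
            rw [Nat.card_zpowers, Nat.card_zpowers, orderOf_conj', hy3, hy3o])
      by_cases h3 : 3 ∣ α
      · refine hnotA y hyv (hy3 ▸ Nat.prime_three) g ?_
        have hy3A : y3 ∈ A := (hprimeC y3 (hy3o ▸ Nat.prime_three) (by omega) hy3x).resolve_right
          fun h => h.2 h3
        exact (zpowers_le.2 hy3A : zpowers y3 ≤ A) (heq ▸ mem_zpowers _)
      · set v' := g * v * g⁻¹ with hv'
        have hv'y : Commute v' y3 := commute_of_zpowers_eq heq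
          ((commute_of_mem_zpowers (conj_mem_zpowers_conj hyv) (Commute.refl v')).symm)
        have ho6 : v' ^ 6 = 1 := by
          have hoy : Commute (g * o * g⁻¹) y3 := commute_of_mem_zpowers (conj_mem_zpowers_conj ho) hv'y
          obtain ⟨K, hK, hKodd, hKiff⟩ := hG.exists_oddPart (hG.noQPair_of_noFour (hno3 h3))
          haveI := hG.isCyclic_of_odd hperf hIH hKodd
          letI : CommGroup K := IsCyclic.commGroup
          have h5 : Commute (g * o * g⁻¹) x₀ := congrArg Subtype.val (mul_comm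
            (⟨g * o * g⁻¹, (hKiff _ (mem_centralizer_of_commute hoy)).2
              (by rw [orderOf_conj']; exact hoo)⟩ : K)
            ⟨x₀, (hKiff x₀ (mem_centralizer_of_commute hy3x.symm)).2
              (hqdef ▸ hx₀.odd_of_ne_two hx₀2)⟩)
          have ho3 : o ^ 3 = 1 := by
            have hd : orderOf (g * o * g⁻¹) ∣ 2 ^ 3 * (3 * α) := by
              rw [← mul_assoc]
              exact hcardC ▸ Subgroup.orderOf_dvd_natCard _ (mem_centralizer_of_commute h5)
            rw [orderOf_conj'] at hd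
            have hd3 : orderOf o ∣ 3 * α :=
              ((Nat.coprime_two_right.2 hoo).pow_right 3).dvd_of_dvd_mul_left hd
            have hco : Nat.Coprime (orderOf o) α := by
              refine Nat.coprime_of_dvd fun r hr hro hrα => ?_
              haveI := Fact.mk hr
              have hwo : orderOf (o ^ (orderOf o / r)) = r :=
                orderOf_pow_orderOf_div (orderOf_pos o).ne' hro
              have hwv : o ^ (orderOf o / r) ∈ zpowers v := pow_mem ho _
              refine hnotA _ hwv (by rw [hwo]; exact hr) g ?_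
              obtain ⟨y', hy'⟩ := exists_prime_orderOf_dvd_card' (G := A) r hrα
              rw [← orderOf_coe] at hy'
              refine F.mem_A_of_prime_comm hG y'.2 (by rw [hy']; exact hr)
                (by rw [orderOf_conj', hwo, hy']) ?_
              rw [← conj_pow]
              exact h5.pow_left _
            exact orderOf_dvd_iff_pow_eq_one.1 (hco.dvd_of_dvd_mul_right hd3)
          have hcoh : Commute o h :=
            commute_of_mem_zpowers ho (commute_of_mem_zpowers hh (Commute.refl v)).symm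
          rw [hv', conj_pow, ← hoh, hcoh.mul_pow, show 6 = 3 * 2 from rfl, pow_mul, ho3, one_pow,
            mul_comm 3 2, pow_mul, hh2, one_pow, one_mul, mul_one, mul_inv_cancel]
        refine hnotU g (Or.inr ?_)
        rw [hT3, if_neg h3]
        refine mem_conjUnion_self ⟨hv'y, ho6, fun h => hv2 ?_⟩
        rwa [conj_pow, conj_eq_one_iff] at h
    have hy5 : 5 ≤ orderOf y := by
      have h2 := hyp.two_le
      rcases Nat.lt_or_ge (orderOf y) 5 with h | h
      · interval_cases hh : orderOf y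
        · omega
        · omega
        · exact absurd hyp (by norm_num)
      · exact h
    have hnotC : ∀ g : G, ¬ Commute (g * y * g⁻¹) x₀ := by
      intro g hc
      rcases hprimeC _ (by rw [orderOf_conj']; exact hyp) (by rw [orderOf_conj']; exact hy2) hc with
        h | ⟨h, -⟩
      · exact hnotA y hyv hyp g h
      · rw [orderOf_conj'] at h; exact hy3 h
    have hcomp : Comp y := by
      refine ⟨hyp, hy2, fun w hwy hwp hw2 u hu huw => ?_⟩
      obtain ⟨g, hg⟩ := hmove w u hu huw
      have hwA := F.mem_of_comm _ (by rw [orderOf_conj']; exact hwp.odd_of_ne_two hw2) hg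
      exact hnotC g ((F.prime _ hwA (by rw [orderOf_conj']; exact hwp)).2 _ (commute_conj hwy.symm))
    refine ⟨y, hcomp, hy5, mem_conjUnion_self
      ⟨(commute_of_mem_zpowers hyv (Commute.refl v)).symm, hv2⟩, ?_⟩
    rw [Set.disjoint_left]
    rintro t htU ⟨g, v₀, hv₀, rfl⟩
    have hv₀U : v₀ ∈ U := by simpa [mul_assoc] using hUconj _ htU g⁻¹
    have hnoA : ∀ w ∈ zpowers v₀, (orderOf w).Prime → orderOf w ≠ 2 →
        ∀ g : G, g * w * g⁻¹ ∉ A := by
      intro w hw hwp hw2 g hgw
      refine hcomp.noFour w (commute_of_mem_zpowers hw hv₀.1) hwp hw2 (g⁻¹ * a ^ 2 * g) ?_ ?_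
      · have := orderOf_conj' g⁻¹ (a ^ 2)
        rw [inv_inv] at this
        rw [this, h4i]
      · have := commute_conj (g := g⁻¹) (F.commW _ hgw _ f.sq_a).symm
        rw [inv_inv, show g⁻¹ * (g * w * g⁻¹) * g = w by group] at this
        exact this
    rcases hv₀U with ((h | h) | h) | h
    · obtain ⟨g', v₁, hv₁, rfl⟩ := h
      obtain ⟨w, hw, hwA, hwp⟩ := hApow v₁ hv₁
      refine hnoA (g' * w * g'⁻¹) (conj_mem_zpowers_conj hw) (by rw [orderOf_conj']; exact hwp)
        (by
          rw [orderOf_conj']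
          intro h2
          have := F.odd_mem hwA
          rw [h2, Nat.odd_iff] at this
          omega) g'⁻¹ ?_
      rw [inv_inv, show g'⁻¹ * (g' * w * g'⁻¹) * g' = w by group]
      exact hwA
    · exact hcomp.noFour' (v₀ ^ 2) (by
        rw [orderOf_pow_of_dvd two_ne_zero (hmem8 v₀ h ▸ (by norm_num)), hmem8 v₀ h]) (hv₀.1.pow_left 2)
    · exact hcomp.noFour' v₀ (hmem4 v₀ h) hv₀.1
    · rw [hT3] at h
      split_ifs at h with h3
      · exact Set.notMem_empty _ h
      obtain ⟨g', v₁, ⟨hv₁, hv₁6, hv₁2⟩, rfl⟩ := h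
      have ho : orderOf (v₁ ^ 2) = 3 := orderOf_eq_prime (by rw [← pow_mul]; exact hv₁6) hv₁2
      have e1 := hG.zpowers_eq_of_commute Nat.prime_three (hv₁.pow_left 2) ho hy3o
      have hc0 : Commute (g' * v₁ * g'⁻¹) y := hv₀.1
      have hc1 : Commute (g'⁻¹ * y * g') y3 := by
        refine commute_of_zpowers_eq e1 ?_
        have h5 := commute_conj (g := g'⁻¹) (hc0.pow_left 2).symm
        rwa [inv_inv, conj_pow, show g'⁻¹ * (g' * v₁ ^ 2 * g'⁻¹) * g' = v₁ ^ 2 by group] at h5
      refine hnotC g'⁻¹ ?_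
      rw [inv_inv]
      obtain ⟨K, hK, hKodd, hKiff⟩ := hG.exists_oddPart (hG.noQPair_of_noFour (hno3 h3))
      haveI := hG.isCyclic_of_odd hperf hIH hKodd
      letI : CommGroup K := IsCyclic.commGroup
      have hoy : orderOf (g'⁻¹ * y * g') = orderOf y := by
        have := orderOf_conj' g'⁻¹ y
        rwa [inv_inv] at this
      exact congrArg Subtype.val (mul_comm
        (⟨g'⁻¹ * y * g', (hKiff _ (mem_centralizer_of_commute hc1)).2
          (by rw [hoy]; exact hyp.odd_of_ne_two hy2)⟩ : K)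
        ⟨x₀, (hKiff x₀ (mem_centralizer_of_commute hy3x.symm)).2
          (hqdef ▸ hx₀.odd_of_ne_two hx₀2)⟩)
  -- the size of a component
  have hcompcard : ∀ y : G, Comp y → 5 ≤ orderOf y → ∃ (b : ℕ) (e : ℕ), 5 ≤ b ∧ (e = 2 ∨ e = 4) ∧
      ((conjUnion (compSet y)).ncard : ℚ) = Nat.card G * ((1 - 1 / b) / e) := by
    intro y hy hy5
    obtain ⟨b, e, hbodd, hyb, -, hN, hcs, ⟨m, hem, hm⟩, h, a', t, -, ht, h2e, -⟩ :=
      hy.exists_data hG hperf hIH hzo
    have hb5 : 5 ≤ b := hy5.trans (Nat.le_of_dvd (by obtain ⟨r, hr⟩ := hbodd; omega) hyb)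
    have he4 : 2 ^ (m + 1) ∣ 2 ^ 3 := by
      rw [pow_succ, ← hem, mul_comm]
      exact h2e.trans (hexp h t ht)
    rw [Nat.pow_dvd_pow_iff_le_right (by norm_num)] at he4
    refine ⟨b, e, hb5, ?_, ?_⟩
    · rcases (show m = 1 ∨ m = 2 by omega) with rfl | rfl
      · exact Or.inl hem
      · exact Or.inr hem
    rw [ncard_conjUnion_eq (H := normalizer (zpowers y : Set G))
      (fun g hg v hv => hy.compSet_conj g v hg hv)
      (fun g v hv hgv => hy.compSet_TI hG hperf hIH g v hv hgv), hN, hcs]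
    rw [Nat.cast_sub (by omega), Nat.cast_mul, Nat.cast_mul]
    have hb0 : (b : ℚ) ≠ 0 := by exact_mod_cast (show b ≠ 0 by omega)
    have he0 : (e : ℚ) ≠ 0 := by exact_mod_cast (show e ≠ 0 by rw [hem]; positivity)
    congr 1
    field_simp
    push_cast
    ring
  -- the contradiction
  have hN48 : (48 : ℚ) * α ≤ Nat.card G := by
    have : 48 * α ≤ Nat.card G := hcardL ▸ Nat.le_of_dvd Nat.card_pos (Subgroup.card_subgroup_dvd_card _)
    exact_mod_cast this
  have hG0 : (0 : ℚ) < Nat.card G := Nat.cast_pos.2 Nat.card_pos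
  have hα24 : (2 : ℚ) / Nat.card G ≤ 1 / (24 * α) := by
    rw [div_le_div_iff₀ hG0 (by positivity)]
    linarith
  have hinv1 : (1 : ℚ) / (24 * α) ≤ 1 / 24 := by
    refine one_div_le_one_div_of_le (by norm_num) ?_
    have : (1 : ℚ) ≤ α := by exact_mod_cast (Nat.card_pos : 0 < Nat.card A)
    linarith
  have hlt : ∀ (S : Set G) (c : ℚ), (S.ncard : ℚ) = Nat.card G * c → c + 2 / Nat.card G < 1 →
      (S.ncard : ℚ) + 2 < Nat.card G := by
    intro S c hS hc
    have h1 := mul_lt_mul_of_pos_left hc hG0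
    rw [mul_add, mul_one, mul_div_cancel₀ _ hG0.ne'] at h1
    rw [hS]; exact h1
  have htot : ∀ S : Set G, (S.ncard : ℚ) ≤ Nat.card G := fun S => by exact_mod_cast Set.ncard_le_card S
  obtain ⟨v₁, hv₁U, hv₁1, hv₁z⟩ := exists_notMem_of_ncard (z := z)
    (hlt U _ hUcard (by linarith))
  obtain ⟨y₁, hy₁, hy₁5, hv₁y, hd₁⟩ := hpick v₁ hv₁U hv₁1 hv₁z
  obtain ⟨b₁, e₁, hb₁, he₁, hc₁⟩ := hcompcard y₁ hy₁ hy₁5
  have hb : ∀ b : ℕ, 5 ≤ b → (4 : ℚ) / 5 ≤ 1 - 1 / b := by
    intro b hb
    have hb' : (5 : ℚ) ≤ b := by exact_mod_cast hb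
    have := one_div_le_one_div_of_le (by norm_num : (0 : ℚ) < 5) hb'
    linarith
  have hU1 : ((U ∪ conjUnion (compSet y₁)).ncard : ℚ) =
      Nat.card G * ((3 / 4 - 1 / (24 * α)) + (1 - 1 / b₁) / e₁) := by
    rw [Set.ncard_union_eq hd₁, Nat.cast_add, hUcard, hc₁, mul_add]
  have hle1 : (3 / 4 - 1 / (24 * (α : ℚ))) + (1 - 1 / b₁) / e₁ ≤ 1 :=
    le_of_mul_le_mul_left (by rw [mul_one, ← hU1]; exact htot _) hG0
  have hbp : (0 : ℚ) < 1 / b₁ := by
    have : (0 : ℚ) < b₁ := by exact_mod_cast (show 0 < b₁ by omega)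
    positivity
  rcases he₁ with rfl | rfl
  · push_cast at hle1
    have := hb b₁ hb₁
    linarith
  obtain ⟨v₂, hv₂U, hv₂1, hv₂z⟩ := exists_notMem_of_ncard (z := z) (hlt _ _ hU1 (by
    push_cast
    linarith))
  rw [Set.mem_union, not_or] at hv₂U
  obtain ⟨y₂, hy₂, hy₂5, hv₂y, hd₂⟩ := hpick v₂ hv₂U.1 hv₂1 hv₂z
  obtain ⟨b₂, e₂, hb₂, he₂, hc₂⟩ := hcompcard y₂ hy₂ hy₂5
  have hd12 : Disjoint (U ∪ conjUnion (compSet y₁)) (conjUnion (compSet y₂)) := by
    rw [Set.disjoint_union_left]
    refine ⟨hd₂, Set.disjoint_left.2 fun t ht ht' => hv₂U.2 ?_⟩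
    exact hy₁.conjUnion_subset hG hperf hIH hy₂ ht ht' hv₂y
  have hle2 : ((3 / 4 - 1 / (24 * (α : ℚ))) + (1 - 1 / b₁) / (4 : ℕ)) + (1 - 1 / b₂) / e₂ ≤ 1 := by
    refine le_of_mul_le_mul_left ?_ hG0
    rw [mul_one, mul_add, ← hU1, ← hc₂]
    have := htot ((U ∪ conjUnion (compSet y₁)) ∪ conjUnion (compSet y₂))
    rwa [Set.ncard_union_eq hd12, Nat.cast_add] at this
  have h1 := hb b₁ hb₁
  have h2 := hb b₂ hb₂
  rcases he₂ with rfl | rfl <;> push_cast at hle2 <;> linarith

end PQGroup

end Cfsg.Agent.H78.Zass
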