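import Cfsg.Agent.H78.Zass.Frame

/-!
# Consequences of a frame: the subgroup `A`, orders of the local subgroups
-/

set_option autoImplicit false
set_option linter.unusedSectionVars false
set_option linter.style.haveILetI false

namespace Cfsg.Agent.H78.Zass

open Subgroup
open scoped commutatorElement

variable {G : Type*} [Group G] [Finite G]

theorem not_dvd_orderOf_odd {o : G} (ho : Odd (orderOf o)) {u : G} (hu : u ∈ zpowers o) :
    Odd (orderOf u) :=
  ho.of_dvd_nat (by rw [← Nat.card_zpowers o]; exact Subgroup.orderOf_dvd_natCard _ hu)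

namespace Frame

variable {x a : G} {W : Subgroup G} (f : Frame x a W)
include f

theorem orderOf_i : orderOf (a ^ 2) = 4 := by
  rw [orderOf_pow_of_dvd two_ne_zero (f.ord_a ▸ (by norm_num)), f.ord_a]

theorem orderOf_z : orderOf (a ^ 4) = 2 := by
  rw [orderOf_pow_of_dvd (by norm_num) (f.ord_a ▸ (by norm_num)), f.ord_a]

theorem isPGroup_W : IsPGroup 2 W := IsPGroup.of_card (n := 3) (by rw [f.card_W]; rfl)

theorem conj_W_eq {g : G} (h : ∀ w ∈ W, g * w * g⁻¹ ∈ W) :
    W.map (MulAut.conj g).toMonoidHom = W := by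
  refine eq_of_le_of_card_ge ?_ (Subgroup.card_map_of_injective (MulAut.conj g).injective).ge
  rintro _ ⟨w, hw, rfl⟩
  exact h w hw

variable (hG : PQGroup G) (hperf : commutator G = ⊤) (hIH : SubSL G)
  {q : ℕ} (hq : q.Prime) (hq2 : q ≠ 2) (hx : orderOf x = q)

include hG in
theorem exists_w : ∃ w ∈ W, orderOf w = 4 ∧ w ∉ zpowers (a ^ 2) ∧
    w * a ^ 2 * w⁻¹ = (a ^ 2)⁻¹ ∧
    ∀ v ∈ W, ∃ m : ℕ, v = (a ^ 2) ^ m ∨ v = (a ^ 2) ^ m * w := by
  haveI : Fact (Nat.Prime 2) := ⟨Nat.prime_two⟩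
  obtain ⟨b, x', k, hQ⟩ := hG.exists_quat f.isPGroup_W f.notCyclic
  have hk : k = 0 := by
    have h := hQ.card
    rw [f.card_W, show (8 : ℕ) = 2 ^ 3 from rfl] at h
    have := Nat.pow_right_injective (le_refl 2) h
    omega
  subst hk
  set i0 := a ^ 2 with hi0
  obtain ⟨w, hw, hwi⟩ : ∃ w ∈ W, w ∉ zpowers i0 := by
    by_contra hno
    push Not at hno
    exact f.notCyclic (isCyclic_of_injective (Subgroup.inclusion (fun s hs => hno s hs))
      (Subgroup.inclusion_injective _))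
  have hsub : ∀ v ∈ W, orderOf v ∣ 4 := by
    intro v hv
    by_cases hvb : v ∈ zpowers b
    · have := Subgroup.orderOf_dvd_natCard _ hvb
      rw [Nat.card_zpowers, hQ.ord] at this
      simpa using this
    · rw [hQ.orderOf_eq_four hv hvb]
  have hw4 : orderOf w = 4 := by
    obtain ⟨e, he, hwe⟩ := (Nat.dvd_prime_pow Nat.prime_two).1 (show orderOf w ∣ 2 ^ 2 from hsub w hw)
    interval_cases e
    · rw [pow_zero, orderOf_eq_one_iff] at hwe
      exact absurd (hwe ▸ one_mem _) hwi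
    · exfalso
      rw [show a ^ 2 = i0 from rfl] at *
      exact hwi (hG.involution_unique (show orderOf (i0 ^ 2) = 2 by
        rw [hi0, ← pow_mul]; exact f.orderOf_z) (by rw [hwe]; rfl) ▸ pow_mem (mem_zpowers i0) 2)
    · exact hwe
  have hidx : ((zpowers i0).subgroupOf W).index = 2 := by
    have h1 := ((zpowers i0).subgroupOf W).card_mul_index
    rw [Nat.card_congr (Subgroup.subgroupOfEquivOfLe (zpowers_le.2 f.sq_a)).toEquiv, Nat.card_zpowers,
      f.orderOf_i, f.card_W] at h1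
    omega
  have hcl : ∀ v ∈ W, ∃ m : ℕ, v = i0 ^ m ∨ v = i0 ^ m * w := by
    intro v hv
    by_cases hvi : v ∈ zpowers i0
    · obtain ⟨m, hm⟩ := mem_powers_iff_mem_zpowers.2 hvi
      exact ⟨m, Or.inl hm.symm⟩
    · have h1 : (⟨v, hv⟩ : W) * ⟨w, hw⟩⁻¹ ∈ (zpowers i0).subgroupOf W :=
        (Subgroup.mul_mem_iff_of_index_two hidx).2 (iff_of_false (fun h => hvi h)
          (fun h => hwi (by simpa using inv_mem (show w⁻¹ ∈ zpowers i0 from h))))
      obtain ⟨m, hm⟩ := mem_powers_iff_mem_zpowers.2 (show v * w⁻¹ ∈ zpowers i0 from h1)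
      refine ⟨m, Or.inr ?_⟩
      change i0 ^ m = v * w⁻¹ at hm
      rw [hm, inv_mul_cancel_right]
  refine ⟨w, hw, hw4, hwi, ?_, hcl⟩
  have hn : w * i0 * w⁻¹ ∈ zpowers i0 := by
    haveI := Subgroup.normal_of_index_eq_two hidx
    exact this.conj_mem ⟨i0, f.sq_a⟩ (show i0 ∈ zpowers i0 from mem_zpowers i0) ⟨w, hw⟩
  obtain ⟨m, hm⟩ := mem_powers_iff_mem_zpowers.2 hn
  change i0 ^ m = w * i0 * w⁻¹ at hm
  rw [← pow_mod_orderOf, show orderOf i0 = 4 from f.orderOf_i] at hm
  have hlt := Nat.mod_lt m (show 4 > 0 by norm_num)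
  have hord : orderOf (w * i0 * w⁻¹) = 4 :=
    (orderOf_injective (MulAut.conj w).toMonoidHom (MulAut.conj w).injective i0).trans f.orderOf_i
  rw [← hm] at hord
  interval_cases h : m % 4
  · rw [pow_zero, orderOf_one] at hord; omega
  · exfalso
    have hc : Commute w i0 := mul_inv_eq_iff_eq_mul.1 (by rw [← hm, pow_one])
    exact hwi ((hG.zpowers_eq_of_commute_two (m := 2) hc hw4 f.orderOf_i) ▸ mem_zpowers w)
  · rw [orderOf_pow, show orderOf i0 = 4 from f.orderOf_i] at hord; norm_num at hord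
  · rw [← hm]
    refine eq_inv_of_mul_eq_one_left ?_
    rw [← pow_succ, show (3 + 1 : ℕ) = orderOf i0 from f.orderOf_i.symm, pow_orderOf_eq_one]

include hG hperf hIH hq hq2 hx

omit hperf hIH in
theorem normalizer_i_le {g : G} (h : g * a ^ 2 * g⁻¹ ∈ zpowers (a ^ 2)) :
    g ∈ normalizer (zpowers x : Set G) := by
  have hxi : Commute (a ^ 2) x := f.cent _ f.sq_a
  have h4 := f.orderOf_i
  obtain ⟨m, hm⟩ := mem_zpowers_iff.1 ((zpowers_conj_eq h rfl).symm ▸ mem_zpowers (a ^ 2) :
    a ^ 2 ∈ zpowers (g * a ^ 2 * g⁻¹))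
  have hc : Commute (g * x * g⁻¹) (a ^ 2) :=
    hm ▸ ((hxi.symm.map (MulAut.conj g).toMonoidHom :
      Commute (g * x * g⁻¹) (g * a ^ 2 * g⁻¹)).zpow_right m)
  rw [mem_normalizer_zpowers_iff, ← hG.zpowers_eq
    (hG.isSolvable_of_not_hasQPair (hG.not_hasQPair_centralizer_four h4)) hq hq2
    (Or.inr (hG.not_hasQPair_centralizer_four h4)) (mem_centralizer_of_commute hc)
    (mem_centralizer_of_commute hxi.symm)
    ((orderOf_injective (MulAut.conj g).toMonoidHom (MulAut.conj g).injective x).trans hx) hx]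
  exact mem_zpowers _

omit hperf hIH in
theorem normalizer_W_le {g : G} (h : ∀ w ∈ W, g * w * g⁻¹ ∈ W) :
    g ∈ normalizer (zpowers x : Set G) := by
  have h4 := f.orderOf_i
  have hxi : Commute (a ^ 2) x := f.cent _ f.sq_a
  have hc : Commute (g * x * g⁻¹) (a ^ 2) := by
    have h1 : a ^ 2 ∈ W.map (MulAut.conj g).toMonoidHom := (f.conj_W_eq h).symm ▸ f.sq_a
    obtain ⟨w, hw, hwe⟩ := h1
    exact hwe ▸ ((f.cent w hw).symm.map (MulAut.conj g).toMonoidHom)
  rw [mem_normalizer_zpowers_iff, ← hG.zpowers_eq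
    (hG.isSolvable_of_not_hasQPair (hG.not_hasQPair_centralizer_four h4)) hq hq2
    (Or.inr (hG.not_hasQPair_centralizer_four h4)) (mem_centralizer_of_commute hc)
    (mem_centralizer_of_commute hxi.symm)
    ((orderOf_injective (MulAut.conj g).toMonoidHom (MulAut.conj g).injective x).trans hx) hx]
  exact mem_zpowers _

theorem commute_x_of_odd {g : G} (hg : g ∈ normalizer (zpowers x : Set G)) (ho : Odd (orderOf g)) :
    Commute g x :=
  hG.commute_odd hperf hIH hq hq2 hx (mem_normalizer_zpowers_iff.1 hg) ho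

omit hperf hIH hq hq2 hx in
theorem commute_W_two {h : G} {e : ℕ} (he : orderOf h = 2 ^ e) (hc : Commute h x) : h ∈ W :=
  f.two_le (zpowers h) (IsPGroup.of_card (n := e) (by rw [Nat.card_zpowers, he]))
    (fun v hv => commute_of_mem_zpowers hv hc) (mem_zpowers h)

/-- The odd part of the centralizer of `W`, with all its properties. -/
theorem exists_A : ∃ A : Subgroup G, Odd (Nat.card A) ∧ x ∈ A ∧
    (∀ α ∈ A, ∀ w ∈ W, Commute α w) ∧ (∀ α ∈ A, Commute α x) ∧
    (∀ g : G, Commute g x → ∀ α ∈ A, Commute g α) ∧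
    (∀ g ∈ normalizer (zpowers x : Set G), ∀ α ∈ A, g * α * g⁻¹ ∈ A) ∧
    (∀ o : G, Odd (orderOf o) → Commute o (a ^ 2) → o ∈ A) ∧
    (∀ y ∈ A, (orderOf y).Prime →
      normalizer (zpowers y : Set G) = normalizer (zpowers x : Set G) ∧
        ∀ g : G, Commute g y → Commute g x) ∧
    ∀ α ∈ A, a * α * a⁻¹ = α⁻¹ := by
  haveI : Fact (Nat.Prime 2) := ⟨Nat.prime_two⟩
  have h4 := f.orderOf_i
  have hq' : ¬ HasQPair (centralizer (W : Set G)) := fun h =>
    hG.not_hasQPair_centralizer_four h4 (h.mono fun g hg => mem_centralizer_singleton_iff.2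
      ((mem_centralizer_iff.1 hg) _ f.sq_a).symm)
  obtain ⟨A, hAle, hAodd, hAiff⟩ := hG.exists_oddPart hq'
  have hAW : ∀ α ∈ A, ∀ w ∈ W, Commute α w := fun α hα w hw =>
    ((mem_centralizer_iff.1 (hAle hα)) w hw).symm
  have hAodd' : ∀ α ∈ A, Odd (orderOf α) := fun α hα =>
    hAodd.of_dvd_nat (Subgroup.orderOf_dvd_natCard _ hα)
  have hxodd : Odd (orderOf x) := hx ▸ hq.odd_of_ne_two hq2
  have hxA : x ∈ A := (hAiff x (mem_centralizer_iff.2 fun w hw => (f.cent w hw).eq)).2 hxodd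
  have hAL : ∀ α ∈ A, α ∈ normalizer (zpowers x : Set G) := fun α hα =>
    f.cent_le α (hAW α hα _ f.sq_a)
  have hAx : ∀ α ∈ A, Commute α x := fun α hα =>
    f.commute_x_of_odd hG hperf hIH hq hq2 hx (hAL α hα) (hAodd' α hα)
  have hmemA : ∀ o : G, Odd (orderOf o) → (∀ w ∈ W, Commute o w) → o ∈ A := fun o ho hc =>
    (hAiff o (mem_centralizer_iff.2 fun w hw => (hc w hw).symm.eq)).2 ho
  have hconj : ∀ g ∈ normalizer (zpowers x : Set G), ∀ α ∈ A, g * α * g⁻¹ ∈ A := by
    intro g hg α hα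
    refine hmemA _ ?_ fun w hw => ?_
    · have : orderOf (g * α * g⁻¹) = orderOf α :=
        orderOf_injective (MulAut.conj g).toMonoidHom (MulAut.conj g).injective α
      rw [this]; exact hAodd' α hα
    · have h1 : w ∈ W.map (MulAut.conj g).toMonoidHom := (f.conj_W_eq (f.conj g hg)).symm ▸ hw
      obtain ⟨v, hv, rfl⟩ := h1
      exact (hAW α hα v hv).map (MulAut.conj g).toMonoidHom
  have hcentral : ∀ g : G, Commute g x → ∀ α ∈ A, Commute g α := by
    intro g hg α hα
    obtain ⟨o, ho, h, hh, hoh, hoo, e, he⟩ := exists_parts g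
    have hox : Commute o x := commute_of_mem_zpowers ho hg
    have hle : zpowers o ≤ normalizer (A : Set G) := by
      intro t ht
      have htL := centralizer_le_normalizer_zpowers x
        (mem_centralizer_of_commute (commute_of_mem_zpowers ht hox))
      rw [mem_normalizer_iff]
      exact fun v => ⟨hconj t htL v, fun hv => by
        simpa [mul_assoc] using hconj t⁻¹ (inv_mem htL) _ hv⟩
    have hodd : Odd (Nat.card ↥(A ⊔ zpowers o)) := by
      have h1 := H91.card_sup_mul_card_inf' hle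
      refine (hAodd.mul ?_).of_dvd_nat ⟨_, h1.symm⟩
      rw [Nat.card_zpowers]; exact hoo
    haveI := hG.isCyclic_of_odd hperf hIH hodd
    letI : CommGroup ↥(A ⊔ zpowers o) := IsCyclic.commGroup
    have hoα : Commute o α := congrArg Subtype.val (mul_comm
      (⟨o, mem_sup_right (mem_zpowers o)⟩ : ↥(A ⊔ zpowers o)) ⟨α, mem_sup_left hα⟩)
    exact hoh ▸ hoα.mul_left (hAW α hα h (f.commute_W_two hG he (commute_of_mem_zpowers hh hg))).symm
  have hprime : ∀ y ∈ A, (orderOf y).Prime →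
      normalizer (zpowers y : Set G) = normalizer (zpowers x : Set G) ∧
        ∀ g : G, Commute g y → Commute g x := by
    intro y hy hyp
    have hy2 : orderOf y ≠ 2 := fun h => by
      have := hAodd' y hy
      rw [h, Nat.odd_iff] at this
      omega
    obtain ⟨w, hw, hw4, hwi, hwinv, -⟩ := f.exists_w hG
    have hij : IsQPair (a ^ 2) w := ⟨h4, hwinv, by
      refine hG.involution_unique ?_ ?_
      · rw [orderOf_pow_of_dvd two_ne_zero (hw4 ▸ (by norm_num)), hw4]
      · rw [← pow_mul]; exact f.orderOf_z⟩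
    obtain ⟨a', W', f'⟩ := hG.exists_frame hperf hIH hyp hy2 rfl hij
      (hAW y hy _ f.sq_a).symm (hAW y hy w hw).symm
    have hWW : W = W' := eq_of_le_of_card_ge
      (f'.two_le W f.isPGroup_W fun v hv => (hAW y hy v hv).symm) (by rw [f.card_W, f'.card_W])
    have hle1 : normalizer (zpowers y : Set G) ≤ normalizer (zpowers x : Set G) := fun g hg =>
      f.normalizer_W_le hG hq hq2 hx fun v hv => hWW ▸ f'.conj g hg v (hWW ▸ hv)
    have heq : normalizer (zpowers y : Set G) = normalizer (zpowers x : Set G) :=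
      le_antisymm hle1 fun g hg =>
        f'.normalizer_W_le hG hyp hy2 rfl fun v hv => hWW ▸ f.conj g hg v (hWW ▸ hv)
    refine ⟨heq, fun g hg => ?_⟩
    have hgL := hle1 (centralizer_le_normalizer_zpowers y (mem_centralizer_of_commute hg))
    obtain ⟨o, ho, h, hh, hoh, hoo, e, he⟩ := exists_parts g
    refine hoh ▸ (f.commute_x_of_odd hG hperf hIH hq hq2 hx (zpowers_le.2 hgL ho) hoo).mul_left ?_
    have hhW : h ∈ W' := f'.two_le (zpowers h) (IsPGroup.of_card (n := e) (by rw [Nat.card_zpowers, he]))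
      (fun v hv => commute_of_mem_zpowers (zpowers_le.2 hh hv) hg) (mem_zpowers h)
    exact f.cent h (hWW.symm ▸ hhW)
  have hinv : ∀ α ∈ A, a * α * a⁻¹ = α⁻¹ := by
    haveI := hG.isCyclic_of_odd hperf hIH hAodd
    obtain ⟨α₀, hα₀⟩ := IsCyclic.exists_generator (α := A)
    obtain ⟨m, hm⟩ := mem_powers_iff_mem_zpowers.2 (by
      obtain ⟨j, hj⟩ := mem_zpowers_iff.1 (hα₀ ⟨_, hconj a f.mem_a α₀ α₀.2⟩)
      exact ⟨j, congrArg Subtype.val hj⟩ : a * (α₀ : G) * a⁻¹ ∈ zpowers (α₀ : G))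
    change (α₀ : G) ^ m = a * α₀ * a⁻¹ at hm
    have hsq : (α₀ : G) ^ m ^ 2 = α₀ := by
      rw [← conj_pow_eq hm.symm 2, (hAW _ α₀.2 _ f.sq_a).symm.eq, mul_inv_cancel_right]
    set n := orderOf (α₀ : G) with hn
    have h1 : (n : ℤ) ∣ ((m : ℤ) - 1) * ((m : ℤ) + 1) := by
      have h2 : m ^ 2 ≡ 1 [MOD n] := by rw [hn, ← pow_eq_pow_iff_modEq, hsq, pow_one]
      have h3 := (Int.natCast_modEq_iff.2 h2).symm.dvd
      push_cast at h3
      rwa [show ((m : ℤ) - 1) * ((m : ℤ) + 1) = (m : ℤ) ^ 2 - 1 by ring]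
    have h2 : IsCoprime (n : ℤ) ((m : ℤ) - 1) := by
      rw [Int.isCoprime_iff_nat_coprime, Int.natAbs_natCast]
      refine Nat.coprime_of_dvd fun r hr hrn hrm => ?_
      have hy : (α₀ : G) ^ (n / r) ∈ A := pow_mem α₀.2 _
      have hyo : orderOf ((α₀ : G) ^ (n / r)) = r :=
        orderOf_pow_orderOf_div (orderOf_pos _).ne' hrn
      refine f.not_comm ((hprime _ hy (by rw [hyo]; exact hr)).2 a ?_)
      have h3 : (α₀ : G) ^ (n / r * m) = (α₀ : G) ^ (n / r * 1) := by
        rw [pow_eq_pow_iff_modEq, ← hn]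
        have hmr : m ≡ 1 [MOD r] := by
          rw [← Int.natCast_modEq_iff]
          refine (Int.modEq_iff_dvd.2 ?_)
          have := Int.natCast_dvd.2 hrm
          push_cast
          simpa using dvd_neg.2 this
        have := hmr.mul_left' (n / r)
        rwa [Nat.div_mul_cancel hrn] at this
      refine mul_inv_eq_iff_eq_mul.1 ?_
      rw [← conj_pow, ← hm, ← pow_mul, mul_comm, h3, mul_one]
    have h3 : (n : ℤ) ∣ (m : ℤ) + 1 := h2.dvd_of_dvd_mul_left h1
    have h4 : n ∣ m + 1 := by exact_mod_cast h3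
    intro α hα
    obtain ⟨j, hj⟩ := mem_zpowers_iff.1 (hα₀ ⟨α, hα⟩)
    have hj' : (α₀ : G) ^ j = α := congrArg Subtype.val hj
    have h5 : a * (α₀ : G) * a⁻¹ = (α₀ : G)⁻¹ := by
      rw [← hm]
      refine eq_inv_of_mul_eq_one_left ?_
      rw [← pow_succ]
      exact orderOf_dvd_iff_pow_eq_one.1 h4
    rw [← hj', ← conj_zpow, h5, inv_zpow]
  have hiA : ∀ o : G, Odd (orderOf o) → Commute o (a ^ 2) → o ∈ A := by
    intro o ho hoi
    obtain ⟨w, hw, hw4, hwi, hwinv, hcl⟩ := f.exists_w hG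
    have how : Commute o w := by
      obtain ⟨m, hm⟩ := hcl _ (f.conj o (f.cent_le o hoi) w hw)
      rcases hm with hm | hm
      · exfalso
        apply hwi
        refine ⟨(m : ℤ), ?_⟩
        show (a ^ 2) ^ (m : ℤ) = w
        rw [zpow_natCast]
        calc (a ^ 2) ^ m = o⁻¹ * (o * (a ^ 2) ^ m) := by group
          _ = o⁻¹ * ((a ^ 2) ^ m * o) := by rw [(hoi.pow_right m).eq]
          _ = w := by rw [← hm]; group
      · set c := (a ^ 2) ^ m with hc
        have hoc : Commute o c := hoi.pow_right m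
        have hit : ∀ n : ℕ, o ^ n * w * (o ^ n)⁻¹ = c ^ n * w := by
          intro n
          induction n with
          | zero => simp
          | succ n ih =>
            calc o ^ (n + 1) * w * (o ^ (n + 1))⁻¹ = o * (o ^ n * w * (o ^ n)⁻¹) * o⁻¹ := by
                  rw [pow_succ']; group
              _ = o * c ^ n * w * o⁻¹ := by rw [ih]; group
              _ = c ^ n * (o * w * o⁻¹) := by rw [(hoc.pow_right n).eq]; group
              _ = c ^ (n + 1) * w := by rw [hm, pow_succ]; group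
        have hco : c ^ orderOf o = 1 := by
          have := hit (orderOf o)
          rw [pow_orderOf_eq_one] at this
          simpa using this
        have hc4 : c ^ 4 = 1 := by
          rw [hc, ← pow_mul, mul_comm, pow_mul, show (4 : ℕ) = orderOf (a ^ 2) from h4.symm,
            pow_orderOf_eq_one, one_pow]
        have hc1 : c = 1 := by
          have h5 := Nat.eq_one_of_dvd_coprimes
            (show Nat.Coprime (orderOf o) 4 from (Nat.coprime_two_right.2 ho).pow_right 2)
            (orderOf_dvd_of_pow_eq_one hco) (orderOf_dvd_of_pow_eq_one hc4)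
          exact orderOf_eq_one_iff.1 h5
        rw [hc1, one_mul] at hm
        exact mul_inv_eq_iff_eq_mul.1 hm
    refine hmemA o ho fun v hv => ?_
    obtain ⟨m, rfl | rfl⟩ := hcl v hv
    · exact hoi.pow_right m
    · exact (hoi.pow_right m).mul_right how
  exact ⟨A, hAodd, hxA, hAW, hAx, hcentral, hconj, hiA, hprime, hinv⟩

end Frame

end Cfsg.Agent.H78.Zass
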