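import Cfsg.Agent.H78.Zass.NoQBasic

/-!
# Orders of the subgroups and of the base sets attached to a frame
-/

set_option autoImplicit false
set_option linter.unusedSectionVars false
set_option linter.style.haveILetI false

namespace Cfsg.Agent.H78.Zass

open Subgroup

variable {G : Type*} [Group G] [Finite G]

/-- Cosets: a set covered by a subgroup `S` and `S * g`, with both inside `N`. -/
theorem card_eq_two_mul {N S : Subgroup G} {g : G} (hS : S ≤ N) (hg : g ∈ N) (hgS : g ∉ S)
    (hcov : ∀ t ∈ N, t ∈ S ∨ ∃ s ∈ S, t = s * g) : Nat.card N = 2 * Nat.card S := by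
  have h1 : (N : Set G) = (S : Set G) ∪ (fun s => s * g) '' (S : Set G) := by
    ext t
    constructor
    · intro ht
      rcases hcov t ht with h | ⟨s, hs, rfl⟩
      · exact Or.inl h
      · exact Or.inr ⟨s, hs, rfl⟩
    · rintro (h | ⟨s, hs, rfl⟩)
      · exact hS h
      · exact N.mul_mem (hS hs) hg
  have hd : Disjoint (S : Set G) ((fun s => s * g) '' (S : Set G)) := by
    rw [Set.disjoint_left]
    rintro t ht ⟨s, hs, rfl⟩
    exact hgS ((S.mul_mem_cancel_left hs).1 ht)
  have h2 := congrArg Set.ncard h1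
  rw [Set.ncard_union_eq hd, Set.ncard_image_of_injective _ (mul_left_injective g),
    ← Nat.card_coe_set_eq, ← Nat.card_coe_set_eq] at h2
  rw [two_mul]; exact h2

/-- The elements commuting with `x` one of whose powers is a nontrivial element of `A`. -/
def wSet (x : G) (A : Subgroup G) : Set G :=
  {v | Commute v x ∧ ∃ α ∈ A, α ∈ zpowers v ∧ α ≠ 1}

/-- The elements of order eight commuting with `a ^ 2`. -/
def eightSet (a : G) : Set G := {v | Commute v (a ^ 2) ∧ orderOf v = 8}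

/-- The generators of `zpowers (a ^ 2)`. -/
def fourSet (a : G) : Set G := {v | v ∈ zpowers (a ^ 2) ∧ orderOf v = 4}

/-- The elements of order three or six commuting with `y`. -/
def threeSet (y : G) : Set G := {v | Commute v y ∧ v ^ 6 = 1 ∧ v ^ 2 ≠ 1}

/-- Everything needed about a frame. -/
structure FrameA (x a : G) (W A : Subgroup G) : Prop where
  frame : Frame x a W
  odd : Odd (Nat.card A)
  x_mem : x ∈ A
  commW : ∀ α ∈ A, ∀ w ∈ W, Commute α w
  commx : ∀ α ∈ A, Commute α x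
  central : ∀ g : G, Commute g x → ∀ α ∈ A, Commute g α
  conj : ∀ g ∈ normalizer (zpowers x : Set G), ∀ α ∈ A, g * α * g⁻¹ ∈ A
  mem_of_comm : ∀ o : G, Odd (orderOf o) → Commute o (a ^ 2) → o ∈ A
  prime : ∀ y ∈ A, (orderOf y).Prime →
      normalizer (zpowers y : Set G) = normalizer (zpowers x : Set G) ∧
        ∀ g : G, Commute g y → Commute g x
  inv : ∀ α ∈ A, a * α * a⁻¹ = α⁻¹

namespace FrameA

variable {x a : G} {W A : Subgroup G} (F : FrameA x a W A)
variable (hG : PQGroup G) (hperf : commutator G = ⊤) (hIH : SubSL G)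
  {q : ℕ} (hq : q.Prime) (hq2 : q ≠ 2) (hx : orderOf x = q)

include F

theorem odd_mem {α : G} (hα : α ∈ A) : Odd (orderOf α) :=
  F.odd.of_dvd_nat (Subgroup.orderOf_dvd_natCard _ hα)

theorem eq_one_of_two {α : G} (hα : α ∈ A) {e : ℕ} (h : α ^ 2 ^ e = 1) : α = 1 := by
  rw [← orderOf_eq_one_iff]
  exact Nat.eq_one_of_dvd_coprimes ((Nat.coprime_two_right.2 (F.odd_mem hα)).pow_right e)
    dvd_rfl (orderOf_dvd_of_pow_eq_one h)

theorem disjoint_zpowers : A ⊓ zpowers a = ⊥ := by
  refine Coprime.inf_eq_bot ?_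
  rw [Nat.card_zpowers, F.frame.ord_a, show (8 : ℕ) = 2 ^ 3 from rfl]
  exact (Nat.coprime_two_right.2 F.odd).pow_right 3

include hG hperf hIH hq hq2 hx

/-- The elements of `C(x)` normalizing `zpowers (a ^ 2)`. -/
theorem stab_decomp {g : G} (hgx : Commute g x) (hgi : g * a ^ 2 * g⁻¹ ∈ zpowers (a ^ 2)) :
    ∃ w ∈ W, ∃ α ∈ A, g = w * α := by
  obtain ⟨o, ho, h, hh, hoh, hoo, e, he⟩ := exists_parts g
  have hN := zpowers_le.2 (mem_normalizer_zpowers_iff.2 hgi)
  have hoi : Commute o (a ^ 2) := by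
    have h1 := mem_normalizer_zpowers_iff.1 (hN ho)
    obtain ⟨m, hm⟩ := mem_powers_iff_mem_zpowers.2 h1
    change (a ^ 2) ^ m = o * a ^ 2 * o⁻¹ at hm
    have hh4 : ∀ n : ℕ, o ^ n * a ^ 2 * (o ^ n)⁻¹ = (a ^ 2) ^ m ^ n := conj_pow_eq hm.symm
    obtain ⟨r, hr⟩ := hoo
    have h2 := hh4 (orderOf o)
    rw [pow_orderOf_eq_one, one_mul, inv_one, mul_one] at h2
    have h4 : m ^ orderOf o ≡ 1 [MOD 4] := by
      rw [← F.frame.orderOf_i, ← pow_eq_pow_iff_modEq, ← h2, pow_one]
    have hm2 : m % 4 = 1 := by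
      have h5 : (m % 4) ^ (2 * r + 1) % 4 = 1 := by rw [← Nat.pow_mod, ← hr]; exact h4
      have h6 : m % 4 < 4 := Nat.mod_lt _ (by norm_num)
      interval_cases h : m % 4
      · simp at h5
      · rfl
      · exfalso
        rw [pow_succ, Nat.mul_mod] at h5
        have : (2 ^ (2 * r) % 4 * (2 % 4)) % 4 ≠ 1 := by omega
        exact this h5
      · exfalso
        rw [pow_succ, pow_mul, Nat.mul_mod, Nat.pow_mod] at h5
        norm_num at h5
    refine mul_inv_eq_iff_eq_mul.1 ?_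
    rw [← hm, ← pow_mod_orderOf, F.frame.orderOf_i, hm2, pow_one]
  have hoA := F.mem_of_comm o hoo hoi
  have hhW := F.frame.commute_W_two hG he (commute_of_mem_zpowers hh hgx)
  exact ⟨h, hhW, o, hoA, by rw [← hoh, (F.commW o hoA h hhW).eq]⟩

omit hperf hIH hq hq2 hx in
theorem mem_A_of_prime_comm {u y : G} (hy : y ∈ A) (hyp : (orderOf y).Prime)
    (hu : orderOf u = orderOf y) (hux : Commute u x) : u ∈ A := by
  have h1 := hG.zpowers_eq_of_commute hyp (F.central u hux y hy) hu rfl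
  exact (zpowers_le.2 hy : zpowers y ≤ A) (h1 ▸ mem_zpowers u)

/-- `|C(x)| = 24|A|`. -/
theorem card_C : Nat.card (centralizer ({x} : Set G)) = 24 * Nat.card A := by
  haveI : Fact (Nat.Prime 2) := ⟨Nat.prime_two⟩
  classical
  set C := centralizer ({x} : Set G) with hC
  set St := C ⊓ normalizer (zpowers (a ^ 2) : Set G) with hSt
  have hxW : ∀ w ∈ W, Commute w x := F.frame.cent
  have hWle : W ≤ St := by
    intro w hw
    refine ⟨mem_centralizer_of_commute (hxW w hw), mem_normalizer_zpowers_iff.2 ?_⟩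
    obtain ⟨w₀, hw₀, -, -, hinv, hcl⟩ := F.frame.exists_w hG
    obtain ⟨m, rfl | rfl⟩ := hcl w hw
    · rw [(Commute.pow_self _ m).eq, mul_inv_cancel_right]; exact mem_zpowers _
    · rw [show (a ^ 2) ^ m * w₀ * a ^ 2 * ((a ^ 2) ^ m * w₀)⁻¹
        = (a ^ 2) ^ m * (w₀ * a ^ 2 * w₀⁻¹) * ((a ^ 2) ^ m)⁻¹ by group, hinv]
      exact mul_mem (mul_mem (pow_mem (mem_zpowers _) _) (inv_mem (mem_zpowers _)))
        (inv_mem (pow_mem (mem_zpowers _) _))
  have hAle : A ≤ St := fun α hα => ⟨mem_centralizer_of_commute (F.commx α hα),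
    mem_normalizer_zpowers_iff.2 (by
      rw [(F.commW α hα _ F.frame.sq_a).eq, mul_inv_cancel_right]; exact mem_zpowers _)⟩
  have hSteq : W ⊔ A = St := by
    refine le_antisymm (sup_le hWle hAle) fun g hg => ?_
    obtain ⟨w, hw, α, hα, rfl⟩ := F.stab_decomp hG hperf hIH hq hq2 hx
      (mem_centralizer_singleton_iff.1 hg.1) (mem_normalizer_zpowers_iff.1 hg.2)
    exact mul_mem (mem_sup_left hw) (mem_sup_right hα)
  have hStcard : Nat.card St = 8 * Nat.card A := by
    rw [← hSteq, H41.card_sup_of_commute W A (fun w hw α hα => (F.commW α hα w hw).eq.symm)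
      (Coprime.inf_eq_bot (by
        rw [F.frame.card_W, show (8 : ℕ) = 2 ^ 3 from rfl]
        exact (Nat.coprime_two_left.2 F.odd).pow_left 3)), F.frame.card_W]
  -- the orbit of `zpowers (a ^ 2)`
  let φ : C ⧸ St.subgroupOf C → Subgroup G := Quotient.lift
    (fun g : C => zpowers ((g : G) * a ^ 2 * (g : G)⁻¹)) (by
      intro g h hgh
      replace hgh : g⁻¹ * h ∈ St.subgroupOf C := QuotientGroup.leftRel_apply.1 hgh
      have h1 : ((g : G)⁻¹ * h) * a ^ 2 * ((g : G)⁻¹ * h)⁻¹ ∈ zpowers (a ^ 2) :=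
        mem_normalizer_zpowers_iff.1 hgh.2
      have h2 := zpowers_conj_eq h1 rfl
      have h3 := congrArg (Subgroup.map (MulAut.conj (g : G)).toMonoidHom) h2
      rw [MonoidHom.map_zpowers, MonoidHom.map_zpowers] at h3
      symm
      show zpowers ((h : G) * a ^ 2 * (h : G)⁻¹) = zpowers ((g : G) * a ^ 2 * (g : G)⁻¹)
      rw [show (h : G) * a ^ 2 * (h : G)⁻¹ =
        (MulAut.conj (g : G)).toMonoidHom (((g : G)⁻¹ * h) * a ^ 2 * ((g : G)⁻¹ * h)⁻¹) by
          show _ = (g : G) * (((g : G)⁻¹ * h) * a ^ 2 * ((g : G)⁻¹ * h)⁻¹) * (g : G)⁻¹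
          group, h3]
      rfl)
  have hinj : Function.Injective φ := by
    intro p p'
    induction p using QuotientGroup.induction_on with
    | H g =>
    induction p' using QuotientGroup.induction_on with
    | H g' =>
    intro he
    change zpowers ((g : G) * a ^ 2 * (g : G)⁻¹) = zpowers ((g' : G) * a ^ 2 * (g' : G)⁻¹) at he
    rw [QuotientGroup.eq]
    refine ⟨(g⁻¹ * g').2, mem_normalizer_zpowers_iff.2 ?_⟩
    show ((g : G)⁻¹ * g') * a ^ 2 * ((g : G)⁻¹ * g')⁻¹ ∈ zpowers (a ^ 2)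
    obtain ⟨j, hj⟩ := mem_zpowers_iff.1 (he.symm ▸ mem_zpowers ((g' : G) * a ^ 2 * (g' : G)⁻¹) :
      (g' : G) * a ^ 2 * (g' : G)⁻¹ ∈ zpowers ((g : G) * a ^ 2 * (g : G)⁻¹))
    refine ⟨j, ?_⟩
    show (a ^ 2) ^ j = _
    rw [conj_zpow] at hj
    calc (a ^ 2) ^ j = (g : G)⁻¹ * ((g : G) * (a ^ 2) ^ j * (g : G)⁻¹) * g := by group
      _ = _ := by rw [hj]; group
  set n := Nat.card (C ⧸ St.subgroupOf C) with hn
  have hmul : n * (8 * Nat.card A) = Nat.card C := by
    rw [hn, ← hStcard, ← Subgroup.index_eq_card,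
      ← Nat.card_congr (Subgroup.subgroupOfEquivOfLe (show St ≤ C from inf_le_left)).toEquiv, mul_comm,
      Subgroup.card_mul_index]
  obtain ⟨w₀, hw₀, hw₀4, hw₀i, hinv, hcl⟩ := F.frame.exists_w hG
  have hsq : w₀ ^ 2 = (a ^ 2) ^ 2 := hG.involution_unique
    (by rw [orderOf_pow_of_dvd two_ne_zero (hw₀4 ▸ (by norm_num)), hw₀4])
    (by rw [← pow_mul]; exact F.frame.orderOf_z)
  have hiw : (a ^ 2 * w₀) ^ 2 = (a ^ 2) ^ 2 := by
    calc (a ^ 2 * w₀) ^ 2 = a ^ 2 * (w₀ * a ^ 2 * w₀⁻¹) * w₀ ^ 2 := by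
          rw [pow_two (a ^ 2 * w₀), pow_two w₀]; group
      _ = (a ^ 2) ^ 2 := by rw [hinv, mul_inv_cancel, one_mul, hsq]
  have hrange : Set.range φ ⊆
      ({zpowers (a ^ 2), zpowers w₀, zpowers (a ^ 2 * w₀)} : Set (Subgroup G)) := by
    rintro _ ⟨p, rfl⟩
    induction p using QuotientGroup.induction_on with
    | H g =>
    show zpowers ((g : G) * a ^ 2 * (g : G)⁻¹) ∈ _
    have hv : (g : G) * a ^ 2 * (g : G)⁻¹ ∈ W := F.frame.conj _
      (centralizer_le_normalizer_zpowers x g.2) _ F.frame.sq_a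
    have hvo : orderOf ((g : G) * a ^ 2 * (g : G)⁻¹) = 4 :=
      (orderOf_injective (MulAut.conj (g : G)).toMonoidHom (MulAut.conj (g : G)).injective _).trans
        F.frame.orderOf_i
    set v := (g : G) * a ^ 2 * (g : G)⁻¹ with hvdef
    have hgen : ∀ u : G, v ∈ zpowers u → orderOf u ∣ 4 → zpowers v = zpowers u := fun u hu hu4 =>
      eq_of_le_of_card_ge (zpowers_le.2 hu) (by
        rw [Nat.card_zpowers, Nat.card_zpowers, hvo]; exact Nat.le_of_dvd (by norm_num) hu4)
    simp only [Set.mem_insert_iff, Set.mem_singleton_iff]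
    obtain ⟨m, hm | hm⟩ := hcl v hv
    · exact Or.inl (hgen _ (hm ▸ pow_mem (mem_zpowers _) m) (by rw [F.frame.orderOf_i]))
    rcases Nat.even_or_odd m with ⟨r, hr⟩ | ⟨r, hr⟩
    · refine Or.inr (Or.inl (hgen _ ?_ (by rw [hw₀4])))
      rw [hm, hr, ← two_mul, pow_mul, ← hsq, ← pow_mul, ← pow_succ]
      exact pow_mem (mem_zpowers _) _
    · refine Or.inr (Or.inr (hgen _ ?_ ?_))
      · rw [hm, hr, pow_succ (a ^ 2), pow_mul (a ^ 2), ← hiw, ← pow_mul, mul_assoc, ← pow_succ]
        exact pow_mem (mem_zpowers _) _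
      · refine orderOf_dvd_of_pow_eq_one ?_
        rw [show (4 : ℕ) = 2 * 2 from rfl, pow_mul, hiw, ← pow_mul (a ^ 2)]
        have h5 := pow_orderOf_eq_one (a ^ 2)
        rw [F.frame.orderOf_i] at h5
        exact h5
  have hn3 : n ≤ 3 := by
    have h1 := Set.ncard_le_ncard hrange (Set.toFinite _)
    rw [← Nat.card_coe_set_eq, Nat.card_range_of_injective hinj, ← hn] at h1
    refine h1.trans ((Set.ncard_insert_le _ _).trans ?_)
    exact Nat.add_le_add_right ((Set.ncard_insert_le _ _).trans (by simp)) 1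
  obtain ⟨c, hc, hci⟩ := F.frame.moves
  have hn2 : 2 ≤ n := by
    by_contra hlt
    have hpos : 0 < n := Nat.card_pos
    have h1 : n = 1 := by omega
    have h2 : St.subgroupOf C = ⊤ := Subgroup.index_eq_one.1 (by rw [Subgroup.index_eq_card]; exact h1)
    have h3 : (⟨c, mem_centralizer_of_commute hc⟩ : C) ∈ St.subgroupOf C := h2 ▸ mem_top _
    exact hci (mem_normalizer_zpowers_iff.1 h3.2)
  have hn_odd : n ≠ 2 := by
    intro h2
    rw [h2] at hmul
    have h16 : 2 ^ 4 ∣ Nat.card C := ⟨Nat.card A, by rw [← hmul]; ring⟩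
    obtain ⟨V, hV⟩ := Sylow.exists_subgroup_card_pow_prime 2 h16
    have hVW := F.frame.two_le (V.map C.subtype) ((IsPGroup.of_card hV).map _) (by
      rintro _ ⟨v, -, rfl⟩
      exact mem_centralizer_singleton_iff.1 v.2)
    have := Subgroup.card_dvd_of_le hVW
    rw [Subgroup.card_map_of_injective C.subtype_injective, hV, F.frame.card_W] at this
    norm_num at this
  rw [← hmul, show n = 3 by omega]
  ring

theorem card_L : Nat.card (normalizer (zpowers x : Set G)) = 48 * Nat.card A := by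
  rw [card_eq_two_mul (centralizer_le_normalizer_zpowers x) F.frame.mem_a
    (fun h => F.frame.not_comm (mem_centralizer_singleton_iff.1 h)) ?_,
    F.card_C hG hperf hIH hq hq2 hx]
  · ring
  intro g hg
  rcases F.frame.decomp g hg with h | ⟨c, hc, hce⟩
  · exact Or.inl (mem_centralizer_of_commute h)
  · exact Or.inr ⟨c, mem_centralizer_of_commute hc, hce⟩

theorem card_Ni : Nat.card (normalizer (zpowers (a ^ 2) : Set G)) = 16 * Nat.card A := by
  set Ni := normalizer (zpowers (a ^ 2) : Set G) with hNi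
  set St := centralizer ({x} : Set G) ⊓ Ni with hSt
  have ha : a ∈ Ni := mem_normalizer_zpowers_iff.2 (by
    rw [(Commute.self_pow a 2).eq, mul_inv_cancel_right]; exact mem_zpowers _)
  have h1 : Nat.card Ni = 2 * Nat.card St := by
    refine card_eq_two_mul inf_le_right ha
      (fun h => F.frame.not_comm (mem_centralizer_singleton_iff.1 h.1)) fun g hg => ?_
    rcases F.frame.decomp g
      (F.frame.normalizer_i_le hG hq hq2 hx (mem_normalizer_zpowers_iff.1 hg)) with h | ⟨c, hc, hce⟩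
    · exact Or.inl ⟨mem_centralizer_of_commute h, hg⟩
    · refine Or.inr ⟨c, ⟨mem_centralizer_of_commute hc, ?_⟩, hce⟩
      have : g * a⁻¹ ∈ Ni := Ni.mul_mem hg (Ni.inv_mem ha)
      rwa [hce, mul_inv_cancel_right] at this
  have h2 : Nat.card St = 8 * Nat.card A := by
    have hSteq : W ⊔ A = St := by
      refine le_antisymm (sup_le ?_ ?_) fun g hg => ?_
      · intro w hw
        refine ⟨mem_centralizer_of_commute (F.frame.cent w hw), mem_normalizer_zpowers_iff.2 ?_⟩
        obtain ⟨w₀, hw₀, -, -, hinv, hcl⟩ := F.frame.exists_w hG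
        obtain ⟨m, rfl | rfl⟩ := hcl w hw
        · rw [(Commute.pow_self _ m).eq, mul_inv_cancel_right]; exact mem_zpowers _
        · rw [show (a ^ 2) ^ m * w₀ * a ^ 2 * ((a ^ 2) ^ m * w₀)⁻¹
            = (a ^ 2) ^ m * (w₀ * a ^ 2 * w₀⁻¹) * ((a ^ 2) ^ m)⁻¹ by group, hinv]
          exact mul_mem (mul_mem (pow_mem (mem_zpowers _) _) (inv_mem (mem_zpowers _)))
            (inv_mem (pow_mem (mem_zpowers _) _))
      · exact fun α hα => ⟨mem_centralizer_of_commute (F.commx α hα),
          mem_normalizer_zpowers_iff.2 (by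
            rw [(F.commW α hα _ F.frame.sq_a).eq, mul_inv_cancel_right]; exact mem_zpowers _)⟩
      · obtain ⟨w, hw, α, hα, rfl⟩ := F.stab_decomp hG hperf hIH hq hq2 hx
          (mem_centralizer_singleton_iff.1 hg.1) (mem_normalizer_zpowers_iff.1 hg.2)
        exact mul_mem (mem_sup_left hw) (mem_sup_right hα)
    rw [← hSteq, H41.card_sup_of_commute W A (fun w hw α hα => (F.commW α hα w hw).eq.symm)
      (Coprime.inf_eq_bot (by
        rw [F.frame.card_W, show (8 : ℕ) = 2 ^ 3 from rfl]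
        exact (Nat.coprime_two_left.2 F.odd).pow_left 3)), F.frame.card_W]
  rw [h1, h2]; ring

omit hperf hIH hq hq2 hx in
theorem fourSet_ncard : (fourSet a).ncard = 2 := by
  have h4 := F.frame.orderOf_i
  have hne : (a ^ 2) ≠ (a ^ 2)⁻¹ := by
    intro h
    have : (a ^ 2) ^ 2 = 1 := by rw [pow_two (a ^ 2)]; nth_rewrite 1 [h]; exact inv_mul_cancel _
    have := orderOf_dvd_of_pow_eq_one this
    rw [h4] at this
    norm_num at this
  have heq : fourSet a = {a ^ 2, (a ^ 2)⁻¹} := by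
    ext v
    constructor
    · rintro ⟨hv, hv4⟩
      obtain ⟨m, hm⟩ := mem_powers_iff_mem_zpowers.2 hv
      change (a ^ 2) ^ m = v at hm
      rw [← pow_mod_orderOf, h4] at hm
      have hlt := Nat.mod_lt m (show 4 > 0 by norm_num)
      interval_cases hmm : m % 4
      · rw [pow_zero] at hm; rw [← hm, orderOf_one] at hv4; omega
      · exact Or.inl (by rw [← hm, pow_one])
      · rw [← hm, orderOf_pow, h4] at hv4; norm_num at hv4
      · refine Or.inr (hm ▸ eq_inv_of_mul_eq_one_left ?_)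
        rw [← pow_succ, show (3 + 1 : ℕ) = orderOf (a ^ 2) from h4.symm, pow_orderOf_eq_one]
    · rintro (rfl | rfl)
      · exact ⟨mem_zpowers _, h4⟩
      · exact ⟨inv_mem (mem_zpowers _), by rw [orderOf_inv, h4]⟩
  rw [heq, Set.ncard_pair hne]

theorem eightSet_ncard : (eightSet a).ncard = 4 * Nat.card A := by
  haveI : Fact (Nat.Prime 2) := ⟨Nat.prime_two⟩
  have hpowinv : ∀ α ∈ A, ∀ m : ℕ, a ^ (2 * m + 1) * α = α⁻¹ * a ^ (2 * m + 1) := by
    intro α hα m
    rw [pow_succ, pow_mul, mul_assoc,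
      show a * α = α⁻¹ * a from mul_inv_eq_iff_eq_mul.1 (F.inv α hα), ← mul_assoc,
      ((F.commW α⁻¹ (inv_mem hα) _ F.frame.sq_a).pow_right m).symm.eq, mul_assoc]
  let f : A × Fin 4 → G := fun p => (p.1 : G) * a ^ (2 * (p.2 : ℕ) + 1)
  have hinj : Function.Injective f := by
    rintro ⟨α, m⟩ ⟨α', m'⟩ he
    change (α : G) * a ^ (2 * (m : ℕ) + 1) = (α' : G) * a ^ (2 * (m' : ℕ) + 1) at he
    have h1 : (α' : G)⁻¹ * α ∈ A ⊓ zpowers a := by
      refine ⟨A.mul_mem (A.inv_mem α'.2) α.2, ?_⟩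
      show (α' : G)⁻¹ * α ∈ zpowers a
      rw [show (α' : G)⁻¹ * α = a ^ (2 * (m' : ℕ) + 1) * (a ^ (2 * (m : ℕ) + 1))⁻¹ from
        eq_mul_inv_of_mul_eq (by rw [mul_assoc, he, inv_mul_cancel_left])]
      exact mul_mem (pow_mem (mem_zpowers a) _) (inv_mem (pow_mem (mem_zpowers a) _))
    rw [F.disjoint_zpowers, mem_bot, inv_mul_eq_one] at h1
    have h2 : α' = α := Subtype.ext h1
    subst h2
    have h3 := mul_left_cancel he
    rw [pow_eq_pow_iff_modEq, F.frame.ord_a] at h3
    have hm := m.2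
    have hm' := m'.2
    have h4 : 2 * (m : ℕ) + 1 = 2 * (m' : ℕ) + 1 :=
      Nat.ModEq.eq_of_lt_of_lt h3 (by omega) (by omega)
    have h5 : (m : ℕ) = (m' : ℕ) := by omega
    exact Prod.ext rfl (Fin.ext h5)
  have heq : eightSet a = Set.range f := by
    ext v
    constructor
    · rintro ⟨hvi, hv8⟩
      have hvL := F.frame.cent_le v hvi
      have hvC : ¬ Commute v x := fun h => by
        have hvW := F.frame.commute_W_two hG (e := 3) (by rw [hv8]; rfl) h
        exact F.frame.notCyclic (isCyclic_iff_exists_orderOf_eq_natCard.2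
          ⟨⟨v, hvW⟩, by rw [← orderOf_coe, hv8, F.frame.card_W]⟩)
      obtain ⟨c, hc, rfl⟩ := (F.frame.decomp v hvL).resolve_left hvC
      have hci : Commute c (a ^ 2) := by
        have := hvi.mul_left (Commute.self_pow a 2).inv_left
        rwa [mul_inv_cancel_right] at this
      obtain ⟨w, hw, α, hα, rfl⟩ := F.stab_decomp hG hperf hIH hq hq2 hx hc
        (by rw [hci.eq, mul_inv_cancel_right]; exact mem_zpowers _)
      have hwi : Commute w (a ^ 2) := by
        have := hci.mul_left (F.commW α hα _ F.frame.sq_a).inv_left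
        rwa [mul_inv_cancel_right] at this
      have hwz : w ∈ zpowers (a ^ 2) := by
        obtain ⟨w₀, -, hw₀4, hw₀i, -, hcl⟩ := F.frame.exists_w hG
        obtain ⟨m, rfl | rfl⟩ := hcl w hw
        · exact pow_mem (mem_zpowers _) m
        · exfalso
          have h1 := (Commute.pow_self (a ^ 2) m).inv_left.mul_left hwi
          rw [inv_mul_cancel_left] at h1
          exact hw₀i ((hG.zpowers_eq_of_commute_two (m := 2) h1 hw₀4 F.frame.orderOf_i) ▸ mem_zpowers w₀)
      obtain ⟨m, hm⟩ := mem_powers_iff_mem_zpowers.2 hwz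
      change (a ^ 2) ^ m = w at hm
      rw [← pow_mod_orderOf, F.frame.orderOf_i] at hm
      refine ⟨(⟨α, hα⟩, ⟨m % 4, Nat.mod_lt _ (by norm_num)⟩), ?_⟩
      show α * a ^ (2 * (m % 4) + 1) = w * α * a
      rw [← (F.commW α hα w hw).eq, ← hm, pow_succ, pow_mul, mul_assoc]
    · rintro ⟨⟨α, m⟩, rfl⟩
      show Commute ((α : G) * a ^ (2 * (m : ℕ) + 1)) (a ^ 2) ∧ _
      refine ⟨(F.commW α α.2 _ F.frame.sq_a).mul_left (Commute.pow_pow_self a _ 2), ?_⟩
      have h2 : ((α : G) * a ^ (2 * (m : ℕ) + 1)) ^ 2 = a ^ (2 * (2 * (m : ℕ) + 1)) := by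
        rw [pow_two, mul_assoc, ← mul_assoc (a ^ (2 * (m : ℕ) + 1)), hpowinv α α.2, mul_assoc,
          mul_inv_cancel_left, ← pow_add, ← two_mul]
      have ho : orderOf (a ^ (2 * (2 * (m : ℕ) + 1))) = 4 := by
        rw [orderOf_pow, F.frame.ord_a, show (8 : ℕ) = 2 * 4 from rfl, Nat.gcd_mul_left,
          show Nat.gcd 4 (2 * (m : ℕ) + 1) = 1 from (Nat.Coprime.pow_left 2
            (Nat.coprime_two_left.2 ⟨(m : ℕ), rfl⟩) : Nat.Coprime (2 ^ 2) _)]
      have := orderOf_eq_prime_pow (x := (α : G) * a ^ (2 * (m : ℕ) + 1)) (p := 2) (n := 2) ?_ ?_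
      · simpa using this
      · intro h
        rw [show (2 : ℕ) ^ 2 = 2 * 2 from rfl, pow_mul, h2] at h
        have := orderOf_dvd_of_pow_eq_one h
        rw [ho] at this
        norm_num at this
      · rw [show (2 : ℕ) ^ (2 + 1) = 2 * 4 from rfl, pow_mul, h2]
        have h5 := pow_orderOf_eq_one (a ^ (2 * (2 * (m : ℕ) + 1)))
        rw [ho] at h5
        exact h5
  rw [heq, ← Nat.card_coe_set_eq, Nat.card_range_of_injective hinj, Nat.card_prod, Nat.card_fin]
  ring

/-- The complement of `wSet` in `C(x)`. -/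
theorem wSet_ncard : (wSet x A).ncard + (if 3 ∣ Nat.card A then 8 else 24) = 24 * Nat.card A := by
  haveI : Fact (Nat.Prime 2) := ⟨Nat.prime_two⟩
  set C := centralizer ({x} : Set G) with hC
  have hcardC := F.card_C hG hperf hIH hq hq2 hx
  set E : Set G := (C : Set G) \ wSet x A with hE
  have hsub : wSet x A ⊆ (C : Set G) := fun v hv => mem_centralizer_of_commute hv.1
  have hsum : (wSet x A).ncard + E.ncard = 24 * Nat.card A := by
    rw [← hcardC, add_comm, hE, Set.ncard_sdiff_add_ncard_of_subset hsub, ← Nat.card_coe_set_eq]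
    rfl
  suffices h : E.ncard = (if 3 ∣ Nat.card A then 8 else 24) by rw [← h]; exact hsum
  split_ifs with h3
  · have hEW : E = (W : Set G) := by
      ext v
      constructor
      · rintro ⟨hvC, hvn⟩
        have hvx : Commute v x := mem_centralizer_singleton_iff.1 hvC
        obtain ⟨o, ho, h, hh, hoh, hoo, e, he⟩ := exists_parts v
        have hhW := F.frame.commute_W_two hG he (commute_of_mem_zpowers hh hvx)
        by_cases ho1 : o = 1
        · rw [← hoh, ho1, one_mul]; exact hhW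
        exfalso
        obtain ⟨y, hy, hyp, hy2⟩ := exists_odd_prime_power_mem ho1 hoo
        have hyx : Commute y x := commute_of_mem_zpowers hy (commute_of_mem_zpowers ho hvx)
        have hd : orderOf y ∣ Nat.card A := by
          have h1 : orderOf y ∣ 24 * Nat.card A :=
            hcardC ▸ Subgroup.orderOf_dvd_natCard _ (mem_centralizer_of_commute hyx)
          rcases hyp.dvd_mul.1 h1 with h | h
          · have h5 : orderOf y ∣ 3 := by
              refine (hyp.dvd_mul.1 (show orderOf y ∣ 2 ^ 3 * 3 from h)).resolve_left fun h' => hy2 ?_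
              exact (Nat.prime_dvd_prime_iff_eq hyp Nat.prime_two).1 (hyp.dvd_of_dvd_pow h')
            exact h5.trans h3
          · exact h
        haveI := Fact.mk hyp
        obtain ⟨y', hy'⟩ := exists_prime_orderOf_dvd_card' (G := A) (orderOf y) hd
        rw [← orderOf_coe] at hy'
        have hyA : y ∈ A := F.mem_A_of_prime_comm hG y'.2 (by rw [hy']; exact hyp) hy'.symm hyx
        refine hvn ⟨hvx, y, hyA, zpowers_le.2 ho hy, fun h => ?_⟩
        rw [h, orderOf_one] at hyp
        exact Nat.not_prime_one hyp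
      · intro hv
        refine ⟨mem_centralizer_of_commute (F.frame.cent v hv), ?_⟩
        rintro ⟨-, α, hα, hαv, hα1⟩
        obtain ⟨e, he⟩ := IsPGroup.iff_orderOf.1 F.frame.isPGroup_W ⟨v, hv⟩
        rw [← orderOf_coe] at he
        refine hα1 (F.eq_one_of_two hα (e := e) ?_)
        obtain ⟨j, rfl⟩ := mem_zpowers_iff.1 hαv
        rw [← zpow_natCast, ← zpow_mul, mul_comm, zpow_mul, zpow_natCast, ← he]
        show (v ^ orderOf v) ^ j = 1
        rw [pow_orderOf_eq_one, one_zpow]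
    rw [hEW, ← Nat.card_coe_set_eq]
    exact F.frame.card_W
  · have hAC : A ≤ C := fun α hα => mem_centralizer_of_commute (F.commx α hα)
    have hidx : (A.subgroupOf C).index = 24 := by
      have h1 := (A.subgroupOf C).card_mul_index
      rw [Nat.card_congr (Subgroup.subgroupOfEquivOfLe hAC).toEquiv, hcardC, mul_comm 24] at h1
      exact Nat.eq_of_mul_eq_mul_left Nat.card_pos h1
    haveI : (A.subgroupOf C).Normal := ⟨fun α hα g =>
      F.conj g (centralizer_le_normalizer_zpowers x g.2) α hα⟩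
    have hcop : Nat.Coprime (Nat.card A) 24 := by
      rw [show (24 : ℕ) = 2 ^ 3 * 3 from rfl]
      exact ((Nat.coprime_two_right.2 F.odd).pow_right 3).mul_right
        ((Nat.prime_three.coprime_iff_not_dvd.2 h3).symm)
    have h24 : ∀ α ∈ A, α ^ 24 = 1 → α = 1 := fun α hα h => orderOf_eq_one_iff.1
      (Nat.eq_one_of_dvd_coprimes hcop (Subgroup.orderOf_dvd_natCard _ hα) (orderOf_dvd_of_pow_eq_one h))
    have hEeq : ∀ v, v ∈ E ↔ v ∈ C ∧ v ^ 24 = 1 := by
      intro v
      constructor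
      · rintro ⟨hvC, hvn⟩
        refine ⟨hvC, ?_⟩
        by_contra hne
        have h1 : (⟨v, hvC⟩ : C) ^ 24 ∈ A.subgroupOf C := hidx ▸ Subgroup.pow_index_mem _ _
        exact hvn ⟨mem_centralizer_singleton_iff.1 hvC, v ^ 24, h1, pow_mem (mem_zpowers v) _, hne⟩
      · rintro ⟨hvC, hv⟩
        refine ⟨hvC, ?_⟩
        rintro ⟨-, α, hα, hαv, hα1⟩
        refine hα1 (h24 α hα ?_)
        obtain ⟨j, rfl⟩ := mem_zpowers_iff.1 hαv
        rw [← zpow_natCast, ← zpow_mul, mul_comm, zpow_mul, zpow_natCast, hv, one_zpow]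
    let g : E → C ⧸ A.subgroupOf C := fun v => QuotientGroup.mk (⟨v, ((hEeq v).1 v.2).1⟩ : C)
    have hbij : Function.Bijective g := by
      constructor
      · intro v v' he
        have h0 : (⟨(v : G), ((hEeq v).1 v.2).1⟩ : C)⁻¹ * ⟨(v' : G), ((hEeq v').1 v'.2).1⟩ ∈
            A.subgroupOf C := QuotientGroup.eq.1 he
        have h1 : (v : G)⁻¹ * v' ∈ A := h0
        have hc : Commute (v : G) ((v : G)⁻¹ * v') :=
          F.central _ (mem_centralizer_singleton_iff.1 ((hEeq v).1 v.2).1) _ h1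
        have h2 := h24 _ h1 (by
          have h3 : ((v : G) * ((v : G)⁻¹ * v')) ^ 24 = 1 := by
            rw [mul_inv_cancel_left]; exact ((hEeq v').1 v'.2).2
          rwa [hc.mul_pow, ((hEeq v).1 v.2).2, one_mul] at h3)
        exact Subtype.ext (inv_mul_eq_one.1 h2)
      · intro p
        induction p using QuotientGroup.induction_on with
        | H u =>
        have h1 : u ^ 24 ∈ A.subgroupOf C := hidx ▸ Subgroup.pow_index_mem _ _
        obtain ⟨α, hα⟩ := (powCoprime (G := A) hcop).surjective ⟨((u : G) ^ 24)⁻¹, inv_mem h1⟩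
        have hα' : (α : G) ^ 24 = ((u : G) ^ 24)⁻¹ := congrArg Subtype.val hα
        have hmem : (u : G) * α ∈ E := (hEeq _).2 ⟨C.mul_mem u.2 (hAC α.2), by
          rw [(F.central _ (mem_centralizer_singleton_iff.1 u.2) α α.2).mul_pow, hα', mul_inv_cancel]⟩
        refine ⟨⟨_, hmem⟩, QuotientGroup.eq.2 ?_⟩
        show ((u : G) * α)⁻¹ * u ∈ A
        rw [mul_inv_rev, inv_mul_cancel_right]
        exact inv_mem α.2
    rw [← Nat.card_coe_set_eq, Nat.card_congr (Equiv.ofBijective g hbij), ← Subgroup.index_eq_card, hidx]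

end FrameA

end Cfsg.Agent.H78.Zass
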