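import Cfsg.Agent.H78.Zass.Theorem
import Mathlib.GroupTheory.SpecificGroups.Alternating

/-!
# Nonsolvable Frobenius complements
-/

set_option autoImplicit false
set_option linter.unusedSectionVars false
set_option linter.style.haveILetI false

namespace Cfsg.Agent.H78.Zass

open Subgroup
open scoped commutatorElement Pointwise

def iSL : Matrix.SpecialLinearGroup (Fin 2) (ZMod 5) := ⟨!![0, 1; 4, 0], by decide⟩

def jSL : Matrix.SpecialLinearGroup (Fin 2) (ZMod 5) := ⟨!![2, 0; 0, 3], by decide⟩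

def tSL : Matrix.SpecialLinearGroup (Fin 2) (ZMod 5) := ⟨!![1, 3; 4, 3], by decide⟩

theorem sl25_triple : ∃ i j t : Matrix.SpecialLinearGroup (Fin 2) (ZMod 5),
    (i ^ 4 = 1 ∧ i ^ 2 ≠ 1) ∧ j * i * j⁻¹ = i⁻¹ ∧ j ^ 2 = i ^ 2 ∧ (t ^ 3 = 1 ∧ t ≠ 1) ∧
      t * i * t⁻¹ = j ∧ (t * j * t⁻¹ = i * j ∨ t * j * t⁻¹ = (i * j)⁻¹) := by
  refine ⟨iSL, jSL, tSL, ?_⟩
  refine ⟨⟨?_, ?_⟩, ?_, ?_, ⟨?_, ?_⟩, ?_, ?_⟩ <;> decide +kernel

universe u v

variable {G : Type u} [Group G] [Finite G]

/-- The data of a normal `SL(2,5)` in a `PQGroup`. -/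
structure SLNormal (S : Subgroup G) : Prop where
  pq : PQGroup G
  normal : S.Normal
  perf : ⁅S, S⁆ = S
  iso : Nonempty (S ≃* Matrix.SpecialLinearGroup (Fin 2) (ZMod 5))

theorem exists_slNormal (hns : ¬ Group.IsSolvable G) {L : Type v} [Group L] [Finite L]
    {H : Subgroup L} (hH : Cfsg.IsFrobeniusComplement H) (f : G →* H) (hf : Function.Injective f) :
    ∃ S : Subgroup G, SLNormal S := by
  obtain ⟨S, -, hne, hS, hchar⟩ := PQGroup.exists_perfect_core (H := (⊤ : Subgroup G)) fun h => hns <| by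
    haveI := h
    exact Group.isSolvable_of_surjective (f := (⊤ : Subgroup G).subtype)
      fun g => ⟨⟨g, mem_top g⟩, rfl⟩
  haveI : Nontrivial S := (Subgroup.nontrivial_iff_ne_bot S).2 hne
  refine ⟨S, pqGroup_of_complement hH f hf, ⟨fun n hn g => ?_⟩, hS,
    perfect_complement_iso hH (f.comp S.subtype) (hf.comp S.subtype_injective)
      (PQGroup.commutator_top_of_perfect hS)⟩
  rw [← hchar g (Subgroup.map_top_of_surjective _ (MulAut.conj g).surjective)]
  exact ⟨n, hn, rfl⟩

namespace SLNormal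

variable {S : Subgroup G} (D : SLNormal S)
include D

theorem card_eq : Nat.card S = 120 := by
  obtain ⟨e⟩ := D.iso
  rw [Nat.card_congr e.toEquiv, H66.card_SL25]

theorem perf_top : commutator S = ⊤ := PQGroup.commutator_top_of_perfect D.perf

theorem nontrivial : Nontrivial S :=
  Finite.one_lt_card_iff_nontrivial.1 (by rw [D.card_eq]; norm_num)

/-- A quaternion pair in `S` and an element of order three permuting it. -/
theorem exists_triple : ∃ i ∈ S, ∃ j ∈ S, ∃ t ∈ S, IsQPair i j ∧ orderOf t = 3 ∧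
    t * i * t⁻¹ = j ∧ (t * j * t⁻¹ = i * j ∨ t * j * t⁻¹ = (i * j)⁻¹) := by
  obtain ⟨e⟩ := D.iso
  obtain ⟨i, j, t, ⟨hi4, hi2⟩, hji, hj2, ⟨ht3, ht1⟩, hti, htj⟩ := sl25_triple
  let ι : Matrix.SpecialLinearGroup (Fin 2) (ZMod 5) →* G := S.subtype.comp e.symm.toMonoidHom
  have hι : Function.Injective ι := S.subtype_injective.comp e.symm.injective
  refine ⟨ι i, (e.symm i).2, ι j, (e.symm j).2, ι t, (e.symm t).2, IsQPair.map ι hι ⟨?_, hji, hj2⟩,
    ?_, ?_, ?_⟩
  · exact orderOf_eq_prime_pow (p := 2) (n := 1) (by simpa using hi2) (by simpa using hi4)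
  · rw [orderOf_injective ι hι]
    exact orderOf_eq_prime ht3 ht1
  · rw [← map_inv, ← map_mul, ← map_mul, hti]
  · rcases htj with h | h
    · exact Or.inl (by rw [← map_inv, ← map_mul, ← map_mul, h, map_mul])
    · exact Or.inr (by rw [← map_inv, ← map_mul, ← map_mul, h, map_inv, map_mul])

theorem exists_orderOf {r : ℕ} (hr : r = 2 ∨ r = 3 ∨ r = 5) : ∃ w ∈ S, orderOf w = r := by
  haveI : Fact r.Prime := ⟨by rcases hr with rfl | rfl | rfl <;> norm_num⟩
  obtain ⟨⟨w, hw⟩, h⟩ := exists_prime_orderOf_dvd_card' (G := S) r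
    (by rw [D.card_eq]; rcases hr with rfl | rfl | rfl <;> norm_num)
  exact ⟨w, hw, by rw [← orderOf_coe] at h; exact h⟩

theorem no_four {g : G} (hg : g ∈ centralizer (S : Set G)) : orderOf g ≠ 4 := by
  intro h4
  obtain ⟨i, hi, j, hj, -, -, hij, -⟩ := D.exists_triple
  have hgi : Commute i g := mem_centralizer_iff.1 hg i hi
  have hgj : Commute j g := mem_centralizer_iff.1 hg j hj
  exact hij.not_commute (commute_of_zpowers_eq
    (D.pq.zpowers_eq_of_commute_two (m := 2) hgi.symm h4 hij.1) hgj)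

/-- The odd part of the centralizer of `S`. -/
theorem exists_M : ∃ M : Subgroup G, M.Normal ∧ M ≤ centralizer (S : Set G) ∧
    (Nat.card M).Coprime 30 ∧ S ⊓ M = ⊥ ∧ centralizer (S : Set G) ≤ S ⊔ M ∧
    IsZGroup (centralizer (S : Set G)) := by
  haveI := D.normal
  have hno : ¬ HasQPair (centralizer (S : Set G)) := fun ⟨i, hi, _, _, hij⟩ => D.no_four hi hij.1
  obtain ⟨M, hMC, hModd, hMiff⟩ := D.pq.exists_oddPart hno
  have hMS : ∀ r : ℕ, r = 3 ∨ r = 5 → ∀ m ∈ M, orderOf m = r → False := by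
    intro r hr m hm hmr
    obtain ⟨w, hw, hwr⟩ := D.exists_orderOf (Or.inr hr)
    obtain ⟨e⟩ := D.iso
    obtain ⟨i, hi, j₀, _, t₀, _, hij, _⟩ := D.exists_triple
    have hmS : m ∈ S := by
      have hz := D.pq.zpowers_eq_of_commute (p := r)
        (by rcases hr with rfl | rfl <;> norm_num)
        (mem_centralizer_iff.1 (hMC hm) w hw : Commute w m) hwr hmr
      exact zpowers_le.2 hw (hz ▸ mem_zpowers m)
    exact not_commute_four e hi hmS hr hij.1 hmr (mem_centralizer_iff.1 (hMC hm) i hi)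
  refine ⟨M, ⟨fun n hn g => ?_⟩, hMC, ?_, ?_, ?_, D.pq.isZGroup_of_not_hasQPair hno⟩
  · have hc : g * n * g⁻¹ ∈ centralizer (S : Set G) :=
      Subgroup.Normal.conj_mem inferInstance n (hMC hn) g
    rw [hMiff _ hc, orderOf_conj']
    exact (hMiff n (hMC hn)).1 hn
  · refine Nat.coprime_of_dvd fun r hr hrM hr30 => ?_
    haveI := Fact.mk hr
    have hr235 : r = 2 ∨ r = 3 ∨ r = 5 := by
      have hle := Nat.le_of_dvd (by norm_num) hr30
      have := hr.two_le
      interval_cases r <;> first | omega | (norm_num at hr)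
    rcases hr235 with rfl | hr'
    · exact absurd (even_iff_two_dvd.2 hrM) (Nat.not_even_iff_odd.2 hModd)
    · obtain ⟨⟨m, hm⟩, hmr⟩ := exists_prime_orderOf_dvd_card' (G := M) r hrM
      rw [← orderOf_coe] at hmr
      exact hMS r hr' m hm hmr
  · rw [eq_bot_iff]
    intro m hm
    rw [mem_bot]
    by_contra hm1
    obtain ⟨w, hw, hwp, hw2⟩ := exists_odd_prime_power_mem hm1 ((hMiff m (hMC hm.2)).1 hm.2)
    have hwS : w ∈ S := zpowers_le.2 hm.1 hw
    have hd : orderOf w ∣ 120 := D.card_eq ▸ Subgroup.orderOf_dvd_natCard _ hwS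
    have hle := Nat.le_of_dvd (by norm_num) hd
    have : orderOf w = 3 ∨ orderOf w = 5 := by
      have h3 : orderOf w ∣ 2 ^ 3 * 15 := hd
      have h15 := ((Nat.coprime_primes hwp Nat.prime_two).2 hw2 |>.pow_right 3).dvd_mul_left.1 h3
      rcases (Nat.Prime.dvd_mul hwp).1 (show orderOf w ∣ 3 * 5 from h15) with h | h
      · exact Or.inl ((Nat.prime_dvd_prime_iff_eq hwp Nat.prime_three).1 h)
      · exact Or.inr ((Nat.prime_dvd_prime_iff_eq hwp (by norm_num)).1 h)
    exact hMS _ this w (zpowers_le.2 hm.2 hw) rfl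
  · intro g hg
    obtain ⟨o, ho, h, hh, hoh, hoo, e, he⟩ := exists_parts g
    have hhC : h ∈ centralizer (S : Set G) := zpowers_le.2 hg hh
    rw [← hoh]
    refine mul_mem (mem_sup_right ((hMiff o (zpowers_le.2 hg ho)).2 hoo)) (mem_sup_left ?_)
    obtain ⟨z, hz, hz2⟩ := D.exists_orderOf (Or.inl rfl)
    have he1 : e ≤ 1 := by
      by_contra hlt
      refine D.no_four (pow_mem hhC (2 ^ (e - 2))) ?_
      rw [orderOf_pow_of_dvd (by positivity) (he ▸ pow_dvd_pow 2 (by omega)), he,
        Nat.pow_div (by omega) two_pos, show e - (e - 2) = 2 by omega]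
      norm_num
    rcases D.pq.eq_one_or_eq_of_sq hz2 (g := h) (orderOf_dvd_iff_pow_eq_one.1 (he ▸
        (pow_dvd_pow 2 he1).trans (dvd_of_eq (pow_one 2)))) with rfl | rfl
    · exact one_mem _
    · exact hz

/-- The permutation representation on the five Sylow 2-subgroups of `S`. -/
theorem exists_perm : ∃ f : G →* Equiv.Perm (Fin 5),
    f.ker = centralizer (S : Set G) ∧ Nat.card (S.map f) = 60 ∧
      alternatingGroup (Fin 5) ≤ f.range := by
  haveI : Fact (Nat.Prime 2) := ⟨Nat.prime_two⟩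
  haveI := D.normal
  haveI := D.nontrivial
  have hsol : ¬ Group.IsSolvable S := fun h => by
    haveI := h
    exact (Group.IsSolvable.commutator_lt_top_of_nontrivial S).ne D.perf_top
  obtain ⟨i, hi, j, hj, t, ht, hij, ht3, hti, htj⟩ := D.exists_triple
  set i' : S := ⟨i, hi⟩
  set j' : S := ⟨j, hj⟩
  set t' : S := ⟨t, ht⟩
  have hij' : IsQPair i' j' := IsQPair.of_map S.subtype S.subtype_injective hij
  -- the Sylow 2-subgroup generated by the pair
  set T : Subgroup S := zpowers i' ⊔ zpowers j' with hT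
  have hTp : IsPGroup 2 T := IsPGroup.to_sup_of_normal_left'
    (IsPGroup.of_card (n := 2) (by rw [Nat.card_zpowers, hij'.1]; rfl))
    (IsPGroup.of_card (n := 2) (by rw [Nat.card_zpowers, hij'.orderOf_snd]; rfl))
    (zpowers_le.2 (mem_normalizer_zpowers_iff.2 (hij'.2.1.symm ▸ inv_mem (mem_zpowers i'))))
  obtain ⟨P, hP⟩ := hTp.exists_le_sylow
  have hPcard : Nat.card (P : Subgroup S) = 8 := by
    rw [P.card_eq_multiplicity, D.card_eq, show (120 : ℕ) = 2 ^ 3 * 15 by norm_num,
      Nat.factorization_mul (by norm_num) (by norm_num), Finsupp.add_apply,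
      Nat.prime_two.factorization_pow, Finsupp.single_eq_same,
      Nat.factorization_eq_zero_of_not_dvd (by norm_num)]
    norm_num
  have hTP : T = (P : Subgroup S) := by
    refine eq_of_le_of_card_ge hP ?_
    rw [hPcard]
    have h4 : 4 ∣ Nat.card T := by
      have := Subgroup.orderOf_dvd_natCard T (mem_sup_left (mem_zpowers i'))
      rwa [hij'.1] at this
    obtain ⟨n, hn⟩ := IsPGroup.iff_card.1 hTp
    have hne : Nat.card T ≠ 4 := by
      intro h
      refine hij'.not_isCyclic (H := T) (mem_sup_left (mem_zpowers _))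
        (mem_sup_right (mem_zpowers _)) ?_
      have he : zpowers i' = T := eq_of_le_of_card_ge le_sup_left
        (by rw [h, Nat.card_zpowers, hij'.1])
      rw [← he]
      infer_instance
    rw [hn] at h4 hne ⊢
    rcases n with _ | _ | _ | n
    · norm_num at h4
    · norm_num at h4
    · norm_num at hne
    · exact Nat.le_of_dvd (by positivity) (pow_dvd_pow 2 (show 3 ≤ n + 3 by omega))
  have htN : t' ∈ normalizer ((P : Subgroup S) : Set S) := by
    have hmap : T.map (MulAut.conj t').toMonoidHom = T := by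
      refine eq_of_le_of_card_ge ?_
        (Subgroup.card_map_of_injective (MulAut.conj t').injective).ge
      rw [hT, Subgroup.map_sup, MonoidHom.map_zpowers, MonoidHom.map_zpowers]
      refine sup_le (zpowers_le.2 ?_) (zpowers_le.2 ?_)
      · rw [show (MulAut.conj t').toMonoidHom i' = j' from Subtype.ext hti]
        exact mem_sup_right (mem_zpowers _)
      · have hmem : i' * j' ∈ zpowers i' ⊔ zpowers j' :=
          mul_mem (mem_sup_left (mem_zpowers _)) (mem_sup_right (mem_zpowers _))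
        rcases htj with h | h
        · rw [show (MulAut.conj t').toMonoidHom j' = i' * j' from Subtype.ext h]
          exact hmem
        · rw [show (MulAut.conj t').toMonoidHom j' = (i' * j')⁻¹ from Subtype.ext h]
          exact inv_mem hmem
    rw [← hTP, mem_normalizer_iff]
    intro u
    refine ⟨fun hu => hmap ▸ ⟨u, hu, rfl⟩, fun hu => ?_⟩
    rw [← hmap] at hu
    obtain ⟨w, hw, he⟩ := hu
    exact (MulAut.conj t').injective he ▸ hw
  have hn5 : Nat.card (Sylow 2 S) = 5 := by
    rw [P.card_eq_index_normalizer]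
    set N := normalizer ((P : Subgroup S) : Set S) with hN
    have h8 : 8 ∣ Nat.card N := hPcard ▸ Subgroup.card_dvd_of_le le_normalizer
    have h3 : 3 ∣ Nat.card N := by
      have := Subgroup.orderOf_dvd_natCard N htN
      rwa [← orderOf_coe, show (t' : G) = t from rfl, ht3] at this
    have h24 : 24 ∣ Nat.card N := Nat.Coprime.mul_dvd_of_dvd_of_dvd (by norm_num : Nat.Coprime 8 3) h8 h3
    obtain ⟨c, hc⟩ := h24
    have hidx := N.card_mul_index
    rw [hc, D.card_eq, mul_assoc] at hidx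
    have h5 : N.index ∣ 5 := ⟨c, by rw [mul_comm]; omega⟩
    rcases (Nat.dvd_prime (by norm_num : Nat.Prime 5)).1 h5 with h | h
    · exfalso
      haveI hPn : (P : Subgroup S).Normal := normalizer_eq_top_iff.1 (Subgroup.index_eq_one.1 h)
      haveI : Group.IsNilpotent (P : Subgroup S) := P.2.isNilpotent
      have hq : Nat.card (S ⧸ (P : Subgroup S)) = 15 := by
        have := Subgroup.card_eq_card_quotient_mul_card_subgroup (P : Subgroup S)
        rw [D.card_eq, hPcard] at this
        omega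
      haveI : IsZGroup (S ⧸ (P : Subgroup S)) := IsZGroup.of_squarefree (by
        rw [hq, show (15 : ℕ) = 3 * 5 from rfl, Nat.squarefree_mul (by norm_num)]
        exact ⟨Nat.prime_three.squarefree, (by norm_num : Nat.Prime 5).squarefree⟩)
      exact hsol (Group.isSolvable_of_ker_le_range (P : Subgroup S).subtype
        (QuotientGroup.mk' (P : Subgroup S)) (by rw [QuotientGroup.ker_mk', range_subtype]))
    · exact h
  obtain ⟨σ⟩ : Nonempty (Sylow 2 S ≃ Fin 5) := ⟨Nat.equivFinOfCardPos (by rw [hn5]; norm_num) |>.trans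
    (finCongr hn5)⟩
  let f₀ : G →* Equiv.Perm (Sylow 2 S) :=
    (MulAction.toPermHom (MulAut S) (Sylow 2 S)).comp MulAut.conjNormal
  let f : G →* Equiv.Perm (Fin 5) := σ.permCongrHom.toMonoidHom.comp f₀
  have hker : ∀ g, g ∈ f.ker ↔ ∀ Q : Sylow 2 S, (MulAut.conjNormal g : MulAut S) • Q = Q := by
    intro g
    rw [MonoidHom.mem_ker, show f g = σ.permCongrHom (f₀ g) from rfl,
      EmbeddingLike.map_eq_one_iff, Equiv.ext_iff]
    exact Iff.rfl
  have hinner : ∀ (s : S) (Q : Sylow 2 S), (MulAut.conjNormal (s : G) : MulAut S) • Q = s • Q := fun s Q => by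
    rw [MulAut.conjNormal_val]
    rfl
  -- the kernel in `S`
  set NS : Subgroup S := f.ker.subgroupOf S with hNS
  haveI : NS.Normal := inferInstance
  have hNSker : ∀ s : S, s ∈ NS ↔ ∀ Q : Sylow 2 S, s • Q = Q := fun s => by
    rw [hNS, mem_subgroupOf, hker]
    simp only [hinner]
  have h5NS : ∀ w : S, w ∈ NS → orderOf w ≠ 5 := by
    intro w hw h5
    haveI : Fact (Nat.Prime 5) := ⟨by norm_num⟩
    have hidx : 5 ∣ NS.index := by
      have h1 : MulAction.stabilizer S P = normalizer ((P : Subgroup S) : Set S) :=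
        Sylow.stabilizer_eq_normalizer P
      have h2 : NS ≤ MulAction.stabilizer S P := fun s hs => (hNSker s).1 hs P
      have h3 := Subgroup.index_dvd_of_le h2
      rw [h1] at h3
      rw [← hn5, P.card_eq_index_normalizer]
      exact h3
    have h25 : 5 * 5 ∣ 120 := by
      rw [← D.card_eq, ← NS.card_mul_index]
      exact mul_dvd_mul (h5 ▸ Subgroup.orderOf_dvd_natCard _ hw) hidx
    norm_num at h25
  have h4NS : ∀ w : S, w ∈ NS → orderOf w ≠ 4 := by
    intro w hw h4
    have hall : ∀ u : S, orderOf u = 4 → u ∈ NS := by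
      intro u hu
      obtain ⟨g, hg⟩ := (D.pq.subgroup S).exists_conj_four D.perf_top hu h4
      have h1 : g * u * g⁻¹ ∈ NS := zpowers_le.2 hw hg
      have h2 := Subgroup.Normal.conj_mem (inferInstance : NS.Normal) _ h1 g⁻¹
      rwa [inv_inv, show g⁻¹ * (g * u * g⁻¹) * g = u by group] at h2
    have hPN : (P : Subgroup S) ≤ NS := hTP ▸ sup_le (zpowers_le.2 (hall _ hij'.1))
      (zpowers_le.2 (hall _ hij'.orderOf_snd))
    -- all Sylow 2-subgroups fix each other
    have h1 : ∀ Q : Sylow 2 S, Q = P := by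
      intro Q
      have hQN : (P : Subgroup S) ≤ normalizer ((Q : Subgroup S) : Set S) := fun s hs => by
        have h' : s ∈ MulAction.stabilizer S Q := (hNSker s).1 (hPN hs) Q
        rw [Sylow.stabilizer_eq_normalizer Q] at h'
        exact h'
      have hPQ : IsPGroup 2 ↥((P : Subgroup S) ⊔ (Q : Subgroup S)) :=
        IsPGroup.to_sup_of_normal_right' P.2 Q.2 hQN
      have e1 := P.3 hPQ le_sup_left
      have e2 := Q.3 hPQ le_sup_right
      exact Sylow.ext (e2.symm.trans e1)
    haveI : Subsingleton (Sylow 2 S) := ⟨fun Q Q' => (h1 Q).trans (h1 Q').symm⟩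
    have := Finite.card_le_one_iff_subsingleton.2 ‹Subsingleton (Sylow 2 S)›
    omega
  have h3NS : ∀ w : S, w ∈ NS → orderOf w ≠ 3 := by
    intro w hw h3
    have ht' : orderOf t' = 3 := by rw [← orderOf_coe]; exact ht3
    obtain ⟨g, hg⟩ := (D.pq.subgroup S).exists_conj_prime D.perf_top Nat.prime_three (by norm_num) ht' h3
    have h1 : g * t' * g⁻¹ ∈ NS := zpowers_le.2 hw hg
    have htNS : t' ∈ NS := by
      have h2 := Subgroup.Normal.conj_mem (inferInstance : NS.Normal) _ h1 g⁻¹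
      rwa [inv_inv, show g⁻¹ * (g * t' * g⁻¹) * g = t' by group] at h2
    have hmem : j' * i'⁻¹ ∈ NS := by
      have h2 := mul_mem htNS (Subgroup.Normal.conj_mem (inferInstance : NS.Normal) _ (inv_mem htNS) i')
      rwa [show t' * (i' * t'⁻¹ * i'⁻¹) = t' * i' * t'⁻¹ * i'⁻¹ by group,
        show t' * i' * t'⁻¹ = j' from Subtype.ext hti] at h2
    refine h4NS _ hmem (orderOf_eq_prime_pow (p := 2) (n := 1) ?_ ?_)
    · intro h
      have hj : j' * i'⁻¹ * j'⁻¹ = i' := by rw [← conj_inv, hij'.2.1, inv_inv]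
      have h2 : (j' * i'⁻¹) ^ 2 = j' ^ 2 := by
        calc (j' * i'⁻¹) ^ 2 = (j' * i'⁻¹ * j'⁻¹) * (j' * j' * i'⁻¹) := by rw [pow_two]; group
          _ = i' * (i' * i' * i'⁻¹) := by rw [hj, ← pow_two, hij'.2.2, pow_two]
          _ = j' ^ 2 := by rw [hij'.2.2, pow_two]; group
      rw [pow_one, h2, hij'.2.2, ← orderOf_dvd_iff_pow_eq_one, hij'.1] at h
      norm_num at h
    · have hj : j' * i'⁻¹ * j'⁻¹ = i' := by rw [← conj_inv, hij'.2.1, inv_inv]
      have h2 : (j' * i'⁻¹) ^ 2 = i' ^ 2 := by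
        calc (j' * i'⁻¹) ^ 2 = (j' * i'⁻¹ * j'⁻¹) * (j' * j' * i'⁻¹) := by rw [pow_two]; group
          _ = i' * (i' * i' * i'⁻¹) := by rw [hj, ← pow_two, hij'.2.2, pow_two]
          _ = i' ^ 2 := by rw [pow_two]; group
      rw [show 2 ^ (1 + 1) = 2 * 2 by norm_num, pow_mul, h2, ← pow_mul]
      exact orderOf_dvd_iff_pow_eq_one.1 (by rw [hij'.1])
  obtain ⟨z, hz, hz2⟩ := D.exists_orderOf (Or.inl rfl)
  have hzc : ∀ g : G, Commute g z := fun g => D.pq.commute_involution hz2 g
  have hNSsq : ∀ w ∈ NS, w ^ 2 = 1 := by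
    intro w hw
    by_contra hne
    obtain ⟨y, hy, hy'⟩ := exists_key_power hne
    have hyN : y ∈ NS := zpowers_le.2 hw hy
    rcases hy' with h4 | ⟨hyp, hy2⟩
    · exact h4NS y hyN h4
    · have hd : orderOf y ∣ 2 ^ 3 * 15 := by
        have := orderOf_dvd_natCard y
        rwa [D.card_eq] at this
      have h15 := ((Nat.coprime_primes hyp Nat.prime_two).2 hy2 |>.pow_right 3).dvd_mul_left.1 hd
      have h35 := (Nat.Prime.dvd_mul hyp).1 (show orderOf y ∣ 3 * 5 from h15)
      rcases h35 with h | h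
      · exact h3NS y hyN ((Nat.prime_dvd_prime_iff_eq hyp Nat.prime_three).1 h)
      · exact h5NS y hyN ((Nat.prime_dvd_prime_iff_eq hyp (by norm_num)).1 h)
  have hkerS : ∀ s : S, s ∈ NS → (s : G) ∈ zpowers z := fun s hs => by
    rcases D.pq.eq_one_or_eq_of_sq hz2 (g := (s : G)) (congrArg Subtype.val (hNSsq s hs)) with h | h
    · rw [h]; exact one_mem _
    · rw [h]; exact mem_zpowers z
  have hle : centralizer (S : Set G) ≤ f.ker := fun g hg => (hker g).2 fun Q => by
    rw [show MulAut.conjNormal g = (1 : MulAut S) from MulEquiv.ext fun s => Subtype.ext (by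
      rw [MulAut.conjNormal_apply]
      show g * s * g⁻¹ = s
      rw [← mem_centralizer_iff.1 hg s s.2, mul_inv_cancel_right]), one_smul]
  have hge : f.ker ≤ centralizer (S : Set G) := by
    intro g hg
    let φ : S →* zpowers z :=
      { toFun := fun s => ⟨g * s * g⁻¹ * (s : G)⁻¹, by
          have hSn : g * s * g⁻¹ ∈ S := D.normal.conj_mem _ s.2 g
          refine hkerS ⟨_, mul_mem hSn (inv_mem s.2)⟩ (mem_subgroupOf.2 ?_)
          show g * s * g⁻¹ * (s : G)⁻¹ ∈ f.ker
          rw [show g * s * g⁻¹ * (s : G)⁻¹ = g * ((s : G) * g⁻¹ * (s : G)⁻¹) by group]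
          exact mul_mem hg ((inferInstance : f.ker.Normal).conj_mem _ (inv_mem hg) s)⟩
        map_one' := Subtype.ext (by simp)
        map_mul' := fun s u => Subtype.ext (by
          show g * (s * u : G) * g⁻¹ * (s * u : G)⁻¹ =
            g * s * g⁻¹ * (s : G)⁻¹ * (g * u * g⁻¹ * (u : G)⁻¹)
          have hmem : g * u * g⁻¹ * (u : G)⁻¹ ∈ zpowers z := by
            have hSn : g * u * g⁻¹ ∈ S := D.normal.conj_mem _ u.2 g
            refine hkerS ⟨_, mul_mem hSn (inv_mem u.2)⟩ (mem_subgroupOf.2 ?_)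
            show g * u * g⁻¹ * (u : G)⁻¹ ∈ f.ker
            rw [show g * u * g⁻¹ * (u : G)⁻¹ = g * ((u : G) * g⁻¹ * (u : G)⁻¹) by group]
            exact mul_mem hg ((inferInstance : f.ker.Normal).conj_mem _ (inv_mem hg) u)
          obtain ⟨k, hk⟩ := mem_zpowers_iff.1 hmem
          calc g * (s * u : G) * g⁻¹ * (s * u : G)⁻¹
              = g * s * g⁻¹ * (g * u * g⁻¹ * (u : G)⁻¹) * (s : G)⁻¹ := by group
            _ = g * s * g⁻¹ * (s : G)⁻¹ * (g * u * g⁻¹ * (u : G)⁻¹) := by
              rw [← hk, mul_assoc (g * s * g⁻¹) (z ^ k) _, mul_assoc (g * s * g⁻¹) (s : G)⁻¹ _,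
                ((hzc (s : G)⁻¹).zpow_right k).eq]) }
    letI : CommGroup (zpowers z) := IsCyclic.commGroup
    rw [mem_centralizer_iff]
    intro s hs
    have h1 := congrArg Subtype.val (PQGroup.hom_comm_eq_one D.perf_top φ ⟨s, hs⟩)
    change g * s * g⁻¹ * s⁻¹ = 1 at h1
    exact (mul_inv_eq_iff_eq_mul.1 (mul_inv_eq_one.1 h1)).symm
  have hmap : Nat.card (S.map f) = 60 := by
    have h1 : NS = (zpowers (⟨z, hz⟩ : S)) := by
      refine le_antisymm (fun s hs => ?_) (zpowers_le.2 (mem_subgroupOf.2 (hle ?_)))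
      · obtain ⟨k, hk⟩ := mem_zpowers_iff.1 (hkerS s hs)
        exact ⟨k, Subtype.ext hk⟩
      · rw [mem_centralizer_iff]
        exact fun s _ => hzc s
    have h2 : Nat.card NS = 2 := by rw [h1, Nat.card_zpowers, ← orderOf_coe]; exact hz2
    have h3 := (f.comp S.subtype).ker.card_mul_index
    rw [show (f.comp S.subtype).ker = NS from rfl, h2, D.card_eq, ← show (f.comp S.subtype).ker = NS from rfl,
      Subgroup.index_ker, show (f.comp S.subtype).range = S.map f by
        rw [MonoidHom.range_comp, range_subtype]] at h3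
    omega
  refine ⟨f, le_antisymm hge hle, hmap, ?_⟩
  have h2 : (S.map f).index = 2 := by
    have := (S.map f).card_mul_index
    rw [hmap, Nat.card_eq_fintype_card, Fintype.card_perm, Fintype.card_fin,
      show Nat.factorial 5 = 120 by decide] at this
    omega
  rw [← Equiv.Perm.eq_alternatingGroup_of_index_eq_two h2]
  exact Subgroup.map_le_range _ _

end SLNormal

end Cfsg.Agent.H78.Zass
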