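import Cfsg.Agent.S0016
import Cfsg.Agent.H76.FPFSylow
import Cfsg.Agent.Coprime.Basic
import Cfsg.Agent.H41.Basic

/-!
# Groups in which every subgroup of order `p * q` is cyclic

Elementary consequences: coprime elements acting on cyclic `p`-subgroups, Sylow subgroups, the
unique involution.
-/

set_option autoImplicit false
set_option linter.unusedSectionVars false
set_option linter.style.haveILetI false

namespace Cfsg.Agent.H78.Zass

open Subgroup

/-- Every subgroup of order `p * q` (`p`, `q` primes, possibly equal) is cyclic. -/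
structure PQGroup (G : Type*) [Group G] : Prop where
  cyclic : ∀ (H : Subgroup G) (p q : ℕ), p.Prime → q.Prime → Nat.card H = p * q → IsCyclic H

variable {G : Type*} [Group G] [Finite G]

theorem conj_pow_eq {x y : G} {a : ℕ} (h : x * y * x⁻¹ = y ^ a) (k : ℕ) :
    x ^ k * y * (x ^ k)⁻¹ = y ^ a ^ k := by
  induction k with
  | zero => simp
  | succ k ih =>
    calc x ^ (k + 1) * y * (x ^ (k + 1))⁻¹
        = x ^ k * (x * y * x⁻¹) * (x ^ k)⁻¹ := by rw [pow_succ]; group
      _ = (x ^ k * y * (x ^ k)⁻¹) ^ a := by rw [h, conj_pow]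
      _ = y ^ a ^ (k + 1) := by rw [ih, ← pow_mul, pow_succ]

theorem exists_conj_eq_pow {x y : G} (h : x * y * x⁻¹ ∈ zpowers y) :
    ∃ a : ℕ, x * y * x⁻¹ = y ^ a := by
  rw [← mem_powers_iff_mem_zpowers] at h
  obtain ⟨a, ha⟩ := h
  exact ⟨a, ha.symm⟩

/-- An element of order prime to `p` modulo the centralizer that centralizes the subgroup of order
`p` of a cyclic `p`-group centralizes the group. -/
theorem commute_of_coprime_of_socle {x y : G} {p k N : ℕ} (hp : p.Prime)
    (hy : orderOf y = p ^ (k + 1)) (hn : x * y * x⁻¹ ∈ zpowers y) (hN : Commute (x ^ N) y)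
    (hcop : ¬ p ∣ N) (hsoc : Commute x (y ^ p ^ k)) : Commute x y := by
  obtain ⟨a, ha⟩ := exists_conj_eq_pow hn
  have h1 : y ^ a ^ N = y := by
    rw [← conj_pow_eq ha N, hN.eq, mul_inv_cancel_right]
  have h2 : y ^ (p ^ k * a) = y ^ (p ^ k * 1) := by
    rw [mul_one, mul_comm, pow_mul, ← ha, conj_pow, hsoc.eq, mul_inv_cancel_right]
  rw [pow_eq_pow_iff_modEq, hy, pow_succ] at h2
  have h3 : (a : ℤ) ≡ 1 [ZMOD (p : ℤ)] := by
    exact_mod_cast Int.natCast_modEq_iff.2 (Nat.ModEq.mul_left_cancel' (by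
      have := hp.pos; positivity) h2)
  have h4 : a ^ N ≡ 1 [MOD p ^ (k + 1)] := by
    rw [← hy, ← pow_eq_pow_iff_modEq, h1, pow_one]
  have h5 : (p : ℤ) ^ (k + 1) ∣ (a : ℤ) ^ N - 1 := by
    have := (Int.natCast_modEq_iff.2 h4).symm.dvd
    push_cast at this
    exact this
  rw [← geom_sum_mul] at h5
  have h6 : ¬ (p : ℤ) ∣ ∑ i ∈ Finset.range N, (a : ℤ) ^ i := by
    intro hd
    have hs : (∑ i ∈ Finset.range N, (a : ℤ) ^ i) ≡ (N : ℤ) [ZMOD (p : ℤ)] := by
      have hp0 : ∀ i ∈ Finset.range N, (p : ℤ) ∣ (1 - (a : ℤ) ^ i) := fun i _ => by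
        have := (h3.pow i).dvd
        rwa [one_pow] at this
      rw [Int.modEq_iff_dvd]
      have h7 := Finset.dvd_sum hp0
      rw [Finset.sum_sub_distrib, Finset.sum_const, Finset.card_range, nsmul_one] at h7
      exact h7
    have hN' : (p : ℤ) ∣ (N : ℤ) := Int.modEq_zero_iff_dvd.1 (hs.symm.trans (Int.modEq_zero_iff_dvd.2 hd))
    exact hcop (Int.natCast_dvd_natCast.1 hN')
  have h8 : (p : ℤ) ^ (k + 1) ∣ (a : ℤ) - 1 :=
    ((Nat.prime_iff_prime_int.1 hp).coprime_iff_not_dvd.2 h6).pow_left.dvd_of_dvd_mul_left h5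
  have h9 : a ≡ 1 [MOD p ^ (k + 1)] := by
    rw [← Int.natCast_modEq_iff]
    refine (Int.modEq_iff_dvd.2 ?_)
    push_cast
    simpa using (dvd_neg.2 h8)
  rw [← hy, ← pow_eq_pow_iff_modEq, pow_one, ← ha, mul_inv_eq_iff_eq_mul] at h9
  exact h9

namespace PQGroup

variable (hG : PQGroup G)

omit [Finite G] in
theorem subgroup (hG : PQGroup G) (H : Subgroup G) : PQGroup H :=
  ⟨fun K p q hp hq hK => by
    have := hG.cyclic (K.map H.subtype) p q hp hq
      (by rw [Subgroup.card_map_of_injective H.subtype_injective]; exact hK)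
    exact (Subgroup.equivMapOfInjective K H.subtype H.subtype_injective).isCyclic.2 this⟩

include hG

/-- An element of prime order normalizing a subgroup of prime order centralizes it. -/
theorem commute_of_normalizes {x y : G} {p q : ℕ} (hp : p.Prime) (hq : q.Prime)
    (hx : orderOf x = q) (hy : orderOf y = p) (hn : x * y * x⁻¹ ∈ zpowers y) : Commute x y := by
  by_cases hxy : x ∈ zpowers y
  · obtain ⟨j, rfl⟩ := mem_zpowers_iff.1 hxy
    exact Commute.zpow_self y j
  have hle : zpowers x ≤ normalizer (zpowers y : Set G) := by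
    rw [zpowers_le]
    have hmap : (zpowers y).map (MulAut.conj x).toMonoidHom = zpowers y := by
      refine eq_of_le_of_card_ge ?_ (Subgroup.card_map_of_injective (MulAut.conj x).injective).ge
      rw [MonoidHom.map_zpowers, zpowers_le]
      exact hn
    rw [mem_normalizer_iff]
    intro h
    constructor
    · intro hh
      rw [← hmap]
      exact ⟨h, hh, rfl⟩
    · intro hh
      rw [← hmap] at hh
      obtain ⟨w, hw, he⟩ := hh
      have : w = h := by
        simpa using (MulAut.conj x).injective he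
      rwa [← this]
  have hd : zpowers y ⊓ zpowers x = ⊥ := by
    rw [eq_bot_iff]
    intro g hg
    rw [mem_bot]
    by_contra hg1
    haveI := Fact.mk hq
    have : zpowers g = zpowers x := by
      refine eq_of_le_of_card_ge (zpowers_le.2 hg.2) ?_
      rw [Nat.card_zpowers, Nat.card_zpowers, hx]
      refine le_of_eq ((hq.eq_one_or_self_of_dvd _ ?_).resolve_left
        (fun h => hg1 (orderOf_eq_one_iff.1 h))).symm
      rw [← hx, ← Nat.card_zpowers x]
      exact Subgroup.orderOf_dvd_natCard _ hg.2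
    apply hxy
    have hxg : x ∈ zpowers g := this ▸ mem_zpowers x
    exact zpowers_le.2 hg.1 hxg
  have hcard := Coprime.card_sup hle hd
  rw [Nat.card_zpowers, Nat.card_zpowers, hy, hx] at hcard
  haveI := hG.cyclic _ p q hp hq hcard
  letI : CommGroup ↥(zpowers y ⊔ zpowers x) := IsCyclic.commGroup
  exact congrArg Subtype.val (mul_comm (⟨x, mem_sup_right (mem_zpowers x)⟩ :
    ↥(zpowers y ⊔ zpowers x)) ⟨y, mem_sup_left (mem_zpowers y)⟩)

/-- In a `p`-subgroup there is at most one subgroup of order `p`. -/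
theorem eq_of_card_eq_prime {P : Subgroup G} {p : ℕ} [hp : Fact p.Prime] (hP : IsPGroup p P)
    (A B : Subgroup P) (hA : Nat.card A = p) (hB : Nat.card B = p) : A = B :=
  H76.eq_of_card_prime_of_cyclic_sq hP (fun U hU => (hG.subgroup P).cyclic U p p hp.out hp.out
    (by rw [hU, sq])) A B hA hB

theorem cyclic_or_quaternion {P : Subgroup G} {p : ℕ} [hp : Fact p.Prime] (hP : IsPGroup p P) :
    IsCyclic P ∨ (p = 2 ∧ ∃ n : ℕ, Nonempty (P ≃* QuaternionGroup (2 ^ n))) :=
  S0016.result p hP (hG.eq_of_card_eq_prime hP)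

theorem isCyclic_odd {P : Subgroup G} {p : ℕ} [hp : Fact p.Prime] (hP : IsPGroup p P)
    (hp2 : p ≠ 2) : IsCyclic P :=
  (hG.cyclic_or_quaternion hP).resolve_right fun h => hp2 h.1

/-- There is at most one involution. -/
theorem involution_unique {t u : G} (ht : orderOf t = 2) (hu : orderOf u = 2) : t = u := by
  by_contra hne
  have htt : t⁻¹ = t := inv_eq_self_of_orderOf_eq_two ht
  have huu : u⁻¹ = u := inv_eq_self_of_orderOf_eq_two hu
  set d := t * u with hd
  have hd1 : d ≠ 1 := fun h => hne (by rw [← inv_inj, inv_eq_of_mul_eq_one_right h, huu])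
  have hconj : t * d * t⁻¹ = d⁻¹ := by
    rw [hd, mul_inv_rev, huu, htt]
    calc t * (t * u) * t = (t * t) * (u * t) := by group
      _ = u * t := by rw [show t * t = 1 by rw [← sq, ← ht, pow_orderOf_eq_one], one_mul]
  set m := orderOf d with hm
  have hm1 : m ≠ 1 := fun h => hd1 (orderOf_eq_one_iff.1 h)
  set p := m.minFac with hpd
  have hp : p.Prime := Nat.minFac_prime hm1
  set e := d ^ (m / p) with he
  have hepow : orderOf e = p := orderOf_pow_orderOf_div (orderOf_pos d).ne' (Nat.minFac_dvd m)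
  have heconj : t * e * t⁻¹ = e⁻¹ := by rw [he, ← conj_pow, hconj, inv_pow]
  have hc : Commute t e := hG.commute_of_normalizes hp Nat.prime_two ht hepow
    (heconj ▸ inv_mem (mem_zpowers e))
  have hee : e⁻¹ = e := by rw [← heconj, hc.eq, mul_inv_cancel_right]
  have hp2 : p = 2 := by
    rw [← hepow]
    refine orderOf_eq_prime ?_ fun h => hp.ne_one (by rw [← hepow, h, orderOf_one])
    calc e ^ 2 = e * e := sq e
      _ = e * e⁻¹ := by rw [hee]
      _ = 1 := mul_inv_cancel e
  haveI : Fact (Nat.Prime 2) := ⟨Nat.prime_two⟩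
  by_cases hte : e = t
  · -- then `t` is a power of `d`, so `u` commutes with `t` and `d` is an involution
    have hcd : Commute t d := hte ▸ (Commute.pow_self d _)
    have hdd : d⁻¹ = d := by rw [← hconj, hcd.eq, mul_inv_cancel_right]
    have hm2 : m = 2 := orderOf_eq_prime (by
      calc d ^ 2 = d * d := sq d
        _ = d * d⁻¹ := by rw [hdd]
        _ = 1 := mul_inv_cancel d) hd1
    have : e = d := by rw [he, hp2, hm2, Nat.div_self two_pos, pow_one]
    have hu1 : u = 1 := mul_eq_left.1 (this.symm.trans hte)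
    rw [hu1, orderOf_one] at hu
    omega
  · have hle : zpowers t ≤ normalizer (zpowers e : Set G) := by
      rw [zpowers_le]
      refine centralizer_le_normalizer (s := (zpowers e : Set G)) (mem_centralizer_iff.2 ?_)
      intro g hg
      obtain ⟨j, rfl⟩ := mem_zpowers_iff.1 hg
      exact (hc.zpow_right j).eq.symm
    have hdj : zpowers e ⊓ zpowers t = ⊥ := by
      rw [eq_bot_iff]
      intro g hg
      rw [mem_bot]
      by_contra hg1
      have h1 : ∀ w : G, orderOf w = 2 → g ∈ zpowers w → g = w := by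
        intro w hw hgw
        obtain ⟨j, hj⟩ := (mem_powers_iff_mem_zpowers.2 hgw : g ∈ Submonoid.powers w)
        change w ^ j = g at hj
        rw [← pow_mod_orderOf, hw] at hj
        rcases Nat.mod_two_eq_zero_or_one j with h | h <;> rw [h] at hj
        · exact absurd (by rw [← hj, pow_zero]) hg1
        · rw [← hj, pow_one]
      exact hte ((h1 e (hepow.trans hp2) hg.1).symm.trans (h1 t ht hg.2))
    have hcard := Coprime.card_sup hle hdj
    rw [Nat.card_zpowers, Nat.card_zpowers, hepow, ht, hp2] at hcard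
    haveI := hG.cyclic _ 2 2 Nat.prime_two Nat.prime_two hcard
    have hz : (zpowers e) = zpowers t :=
      H41.eq_of_card_eq_of_le_cyclic (C := zpowers e ⊔ zpowers t) inferInstance le_sup_left
        le_sup_right (by rw [Nat.card_zpowers, Nat.card_zpowers, hepow, ht, hp2])
    rw [hz, inf_idem, zpowers_eq_bot] at hdj
    rw [hdj, orderOf_one] at ht
    omega

end PQGroup

end Cfsg.Agent.H78.Zass
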