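import Cfsg.Agent.H78.Zass.Local
import Mathlib.LinearAlgebra.Matrix.SpecialLinearGroup
import Mathlib.Algebra.Field.ZMod
import Mathlib.FieldTheory.Finite.Basic
import Cfsg.Agent.H66.SLTwoFive

/-!
# No element of odd prime order centralizes a perfect subgroup; all odd subgroups are cyclic
-/

set_option autoImplicit false
set_option linter.unusedSectionVars false
set_option linter.style.haveILetI false

namespace Cfsg.Agent.H78.Zass

open Subgroup
open scoped commutatorElement

variable {G : Type*} [Group G] [Finite G]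

theorem mem_centralizer_of_commute {g x : G} (h : Commute g x) :
    g ∈ centralizer ({x} : Set G) := mem_centralizer_singleton_iff.2 h.eq

theorem centralizer_le_normalizer_zpowers (x : G) :
    centralizer ({x} : Set G) ≤ normalizer (zpowers x : Set G) := fun g hg => by
  have h : Commute g x := mem_centralizer_singleton_iff.1 hg
  rw [mem_normalizer_zpowers_iff, h.eq, mul_inv_cancel_right]
  exact mem_zpowers x

/-- An element commutes with `x` if its `p`-part and `p'`-part do. -/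
theorem commute_of_parts {g x : G} {p e N : ℕ} (hco : Nat.Coprime (p ^ e) N)
    (h1 : Commute (g ^ p ^ e) x) (h2 : Commute (g ^ N) x) :
    Commute g x := by
  have hg1 : g = (g ^ p ^ e) ^ Nat.gcdA (p ^ e) N * (g ^ N) ^ Nat.gcdB (p ^ e) N := by
    have hb := Nat.gcd_eq_gcd_ab (p ^ e) N
    rw [hco.gcd_eq_one] at hb
    rw [← zpow_natCast, ← zpow_natCast, ← zpow_mul, ← zpow_mul, ← zpow_add, ← hb]
    simp
  rw [hg1]
  exact (h1.zpow_left _).mul_left (h2.zpow_left _)

/-- The hypothesis of the induction: perfect proper subgroups are `SL(2,5)`. -/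
def SubSL (G : Type*) [Group G] : Prop :=
  ∀ S : Subgroup G, S ≠ ⊤ → S ≠ ⊥ → ⁅S, S⁆ = S →
    Nonempty (S ≃* Matrix.SpecialLinearGroup (Fin 2) (ZMod 5))

section SL25

theorem sl25_pow_twelve : ∀ x : Matrix.SpecialLinearGroup (Fin 2) (ZMod 5),
    x ^ 12 = 1 → x ^ 4 = 1 ∨ x ^ 6 = 1 := by decide +kernel

theorem sl25_pow_twenty : ∀ x : Matrix.SpecialLinearGroup (Fin 2) (ZMod 5),
    x ^ 20 = 1 → x ^ 4 = 1 ∨ x ^ 10 = 1 := by decide +kernel

theorem sl25_pow_eight : ∀ x : Matrix.SpecialLinearGroup (Fin 2) (ZMod 5),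
    x ^ 8 = 1 → x ^ 4 = 1 := by decide +kernel

end SL25

/-- In `SL(2,5)` no element of order four commutes with one of order three or five. -/
theorem not_commute_four {S : Subgroup G} (e : S ≃* Matrix.SpecialLinearGroup (Fin 2) (ZMod 5))
    {u v : G} (hu : u ∈ S) (hv : v ∈ S) {r : ℕ} (hr : r = 3 ∨ r = 5) (hou : orderOf u = 4)
    (hov : orderOf v = r) : ¬ Commute u v := by
  intro hc
  have hco : (orderOf u).Coprime (orderOf v) := by
    rcases hr with rfl | rfl <;> rw [hou, hov] <;> norm_num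
  have h1 : orderOf (e ⟨u * v, S.mul_mem hu hv⟩) = 4 * r := by
    rw [MulEquiv.orderOf_eq, ← orderOf_coe, hc.orderOf_mul_eq_mul_orderOf_of_coprime hco, hou, hov]
  have h2 := pow_orderOf_eq_one (e ⟨u * v, S.mul_mem hu hv⟩)
  rw [h1] at h2
  rcases hr with rfl | rfl
  · rcases sl25_pow_twelve _ h2 with h | h <;>
    · have := orderOf_dvd_of_pow_eq_one h
      rw [h1] at this
      norm_num at this
  · rcases sl25_pow_twenty _ h2 with h | h <;>
    · have := orderOf_dvd_of_pow_eq_one h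
      rw [h1] at this
      norm_num at this

namespace PQGroup

variable (hG : PQGroup G)
include hG

/-- The centralizer of an element of order four has no quaternion pair. -/
theorem not_hasQPair_centralizer_four {w : G} (hw : orderOf w = 4) :
    ¬ HasQPair (centralizer ({w} : Set G)) := by
  rintro ⟨i, hi, j, hj, hij⟩
  haveI : Fact (Nat.Prime 2) := ⟨Nat.prime_two⟩
  have hn : zpowers j ≤ normalizer (zpowers i : Set G) :=
    zpowers_le.2 (mem_normalizer_zpowers_iff.2 (hij.2.1.symm ▸ inv_mem (mem_zpowers i)))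
  have hi2 : IsPGroup 2 (zpowers i) := IsPGroup.of_card (n := 2) (by rw [Nat.card_zpowers, hij.1]; rfl)
  have hj2 : IsPGroup 2 (zpowers j) :=
    IsPGroup.of_card (n := 2) (by rw [Nat.card_zpowers, hij.orderOf_snd]; rfl)
  have hw2 : IsPGroup 2 (zpowers w) := IsPGroup.of_card (n := 2) (by rw [Nat.card_zpowers, hw]; rfl)
  have hle : zpowers i ⊔ zpowers j ≤ centralizer ({w} : Set G) :=
    sup_le (zpowers_le.2 hi) (zpowers_le.2 hj)
  have hT : IsPGroup 2 ↥(zpowers w ⊔ (zpowers i ⊔ zpowers j)) :=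
    IsPGroup.to_sup_of_normal_left' hw2 (IsPGroup.to_sup_of_normal_left' hi2 hj2 hn)
      (hle.trans (centralizer_le_normalizer_zpowers w))
  have hwT : w ∈ zpowers w ⊔ (zpowers i ⊔ zpowers j) := mem_sup_left (mem_zpowers w)
  have hcT : ∀ t ∈ zpowers w ⊔ (zpowers i ⊔ zpowers j), Commute t w := by
    intro t ht
    have h1 : zpowers w ⊔ (zpowers i ⊔ zpowers j) ≤ centralizer ({w} : Set G) :=
      sup_le (zpowers_le.2 (mem_centralizer_of_commute (Commute.refl w))) hle
    exact mem_centralizer_singleton_iff.1 (h1 ht)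
  obtain ⟨a, x, k, h⟩ := hG.exists_quat hT (hij.not_isCyclic
    (mem_sup_right (mem_sup_left (mem_zpowers i))) (mem_sup_right (mem_sup_right (mem_zpowers j))))
  by_cases hwa : w ∈ zpowers a
  · obtain ⟨m, rfl⟩ := mem_zpowers_iff.1 hwa
    have h1 : x * a ^ m * x⁻¹ = (a ^ m)⁻¹ := by
      rw [← conj_zpow, h.conj x h.x_mem h.x_notMem, inv_zpow]
    rw [(hcT x h.x_mem).eq, mul_inv_cancel_right] at h1
    have h2 : (a ^ m) ^ 2 = 1 := by
      rw [pow_two]; nth_rewrite 1 [h1]; exact inv_mul_cancel _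
    have := orderOf_dvd_of_pow_eq_one h2
    rw [hw] at this
    norm_num at this
  · have h1 := h.conj w hwT hwa
    rw [(hcT a h.a_mem).symm.eq, mul_inv_cancel_right] at h1
    have h2 : a ^ 2 = 1 := by
      rw [pow_two]; nth_rewrite 1 [h1]; exact inv_mul_cancel _
    have h3 := orderOf_dvd_of_pow_eq_one h2
    rw [h.ord, show k + 2 = (k + 1) + 1 from rfl, pow_succ] at h3
    have := Nat.le_of_dvd two_pos h3
    have : 1 < 2 ^ (k + 1) := Nat.one_lt_two_pow (by omega)
    omega

/-- `x` is central in a solvable group containing it, up to its normalizer. -/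
theorem mem_normalizer_of_unique {H : Subgroup G} (hsol : Group.IsSolvable H) {q : ℕ}
    (hq : q.Prime) (hq2 : q ≠ 2) (h5 : 5 ≤ q ∨ ¬ HasQPair H) {x g : G} (hx : x ∈ H) (hg : g ∈ H)
    (hox : orderOf x = q) : g * x * g⁻¹ ∈ zpowers x := by
  rw [← hG.zpowers_eq hsol hq hq2 h5 (H.mul_mem (H.mul_mem hg hx) (H.inv_mem hg)) hx
    ((orderOf_injective (MulAut.conj g).toMonoidHom (MulAut.conj g).injective x).trans hox) hox]
  exact mem_zpowers _

/-- An element of order three or an element of odd order: it cannot invert a subgroup of order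
three. -/
theorem commute_odd_three {x g : G} (hx : orderOf x = 3) (hn : g * x * g⁻¹ ∈ zpowers x)
    (hg : Odd (orderOf g)) : Commute g x := by
  obtain ⟨a, ha⟩ := exists_conj_eq_pow hn
  have h2 : a % 3 = 1 ∨ a % 3 = 2 := by
    have : a % 3 ≠ 0 := by
      intro h
      rw [← pow_mod_orderOf, hx, h, pow_zero] at ha
      have : x = 1 := conj_eq_one_iff.1 ha
      rw [this, orderOf_one] at hx
      omega
    omega
  rcases h2 with h | h
  · rw [← pow_mod_orderOf, hx, h, pow_one] at ha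
    exact mul_inv_eq_iff_eq_mul.1 ha
  · exfalso
    have h1 := conj_pow_eq ha (orderOf g)
    rw [pow_orderOf_eq_one, one_mul, inv_one, mul_one, ← pow_mod_orderOf, hx, Nat.pow_mod, h] at h1
    obtain ⟨m, hm⟩ := hg
    rw [hm, pow_succ, pow_mul, Nat.mul_mod, Nat.pow_mod] at h1
    norm_num at h1
    have h3 : x ^ 1 = x ^ 2 := by rw [pow_one]; exact h1
    rw [pow_eq_pow_iff_modEq, hx] at h3
    exact absurd h3 (by decide)

section Perfect

variable (hperf : commutator G = ⊤)
include hperf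

/-- The main step: odd elements normalizing a subgroup of order `q` centralize it. -/
theorem commute_odd_of_local {q : ℕ} (hq : q.Prime) (hq2 : q ≠ 2)
    (hloc : ∀ r, r.Prime → r ≠ 2 → r < q → ∀ d : G, orderOf d = r →
      Group.IsSolvable (normalizer (zpowers d : Set G)))
    {x g : G} (hx : orderOf x = q) (hn : g * x * g⁻¹ ∈ zpowers x) (hg : Odd (orderOf g)) :
    Commute g x := by
  rcases eq_or_ne q 3 with rfl | hq3
  · exact hG.commute_odd_three hx hn hg
  have hq5 : 5 ≤ q := by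
    have h2 := hq.two_le
    rcases Nat.lt_or_ge q 5 with h | h
    · interval_cases q
      · omega
      · omega
      · exact absurd hq (by norm_num)
    · exact h
  haveI := Fact.mk hq
  by_contra hgx
  obtain ⟨a, ha⟩ := exists_conj_eq_pow hn
  have hiff : ∀ m : ℕ, Commute (g ^ m) x ↔ (a : ZMod q) ^ m = 1 := by
    intro m
    rw [← Nat.cast_pow, ← Nat.cast_one, ZMod.natCast_eq_natCast_iff, ← hx,
      ← pow_eq_pow_iff_modEq, pow_one, ← conj_pow_eq ha m, mul_inv_eq_iff_eq_mul]
    exact Iff.rfl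
  set d := orderOf (a : ZMod q) with hd
  have ha0 : (a : ZMod q) ≠ 0 := by
    intro h
    have := (hiff (orderOf g)).1 (by rw [pow_orderOf_eq_one]; exact Commute.one_left x)
    rw [h, zero_pow (orderOf_pos g).ne'] at this
    exact zero_ne_one this
  have hd1 : d ≠ 1 := fun h => hgx (by
    rw [← pow_one g, hiff, pow_one]
    exact orderOf_eq_one_iff.1 h)
  have hdg : d ∣ orderOf g := orderOf_dvd_of_pow_eq_one
    ((hiff _).1 (by rw [pow_orderOf_eq_one]; exact Commute.one_left x))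
  set r := d.minFac with hr
  have hrp : r.Prime := Nat.minFac_prime hd1
  haveI := Fact.mk hrp
  have hrd : r ∣ d := Nat.minFac_dvd d
  have hr2 : r ≠ 2 := fun h => by
    have h1 : 2 ∣ orderOf g := h ▸ hrd.trans hdg
    rw [Nat.odd_iff] at hg
    omega
  have hrq : r < q := by
    have h1 : d ∣ q - 1 := ZMod.orderOf_dvd_card_sub_one ha0
    have h2 := Nat.le_of_dvd (by omega) (hrd.trans h1)
    omega
  -- an `r`-element normalizing but not centralizing
  obtain ⟨e, N, hN, heN⟩ := Nat.exists_eq_pow_mul_and_not_dvd (orderOf_pos g).ne' r hrp.ne_one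
  set w := g ^ N with hw
  have hwx : ¬ Commute w x := fun h => by
    rw [hw, hiff, ← orderOf_dvd_iff_pow_eq_one] at h
    exact hN (hrd.trans h)
  have hN0 : N ≠ 0 := fun h => hN (h ▸ dvd_zero r)
  have hwo : orderOf w = r ^ e := by
    rw [hw, orderOf_pow_of_dvd hN0 (heN ▸ dvd_mul_left N _), heN,
      Nat.mul_div_cancel _ (Nat.pos_of_ne_zero hN0)]
  obtain ⟨k, rfl⟩ : ∃ k, e = k + 1 := by
    refine Nat.exists_eq_succ_of_ne_zero ?_
    rintro rfl
    rw [pow_zero, orderOf_eq_one_iff] at hwo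
    exact hwx (hwo ▸ Commute.one_left x)
  have hwN : w ∈ normalizer (zpowers x : Set G) := pow_mem (mem_normalizer_zpowers_iff.2 hn) N
  set c := w ^ r ^ k with hc
  have hco : orderOf c = r := by
    rw [hc, orderOf_pow_of_dvd (pow_ne_zero _ hrp.ne_zero) (hwo ▸ pow_dvd_pow r (by omega)), hwo,
      Nat.pow_div (by omega) hrp.pos, show k + 1 - k = 1 by omega, pow_one]
  have hcx : Commute c x := hG.commute_of_normalizes hq hrp hco hx
    (mem_normalizer_zpowers_iff.1 (pow_mem hwN _))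
  -- a cyclic Sylow subgroup containing `w`
  obtain ⟨R, hR⟩ := (IsPGroup.of_card (n := k + 1)
    (by rw [Nat.card_zpowers, hwo] : Nat.card (zpowers w) = r ^ (k + 1))).exists_le_sylow
  have hwR : w ∈ (R : Subgroup G) := hR (mem_zpowers w)
  have hcR : c ∈ (R : Subgroup G) := pow_mem hwR _
  obtain ⟨s, hsR, hs, hsc⟩ := hG.exists_not_commute_sylow hperf hr2 hco R hcR
  -- `s` normalizes `zpowers w`
  have hsw : s * w * s⁻¹ ∈ zpowers w := by
    have h1 : s * w * s⁻¹ ∈ (R : Subgroup G) := (mem_normalizer_iff.1 hsR w).1 hwR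
    have h2 : zpowers (s * w * s⁻¹) = zpowers w :=
      H41.eq_of_card_eq_of_le_cyclic (hG.isCyclic_odd R.2 hr2) (zpowers_le.2 h1)
        (zpowers_le.2 hwR) (by
          rw [Nat.card_zpowers, Nat.card_zpowers]
          exact orderOf_injective (MulAut.conj s).toMonoidHom (MulAut.conj s).injective w)
    exact h2 ▸ mem_zpowers _
  obtain ⟨u, hu⟩ := exists_conj_eq_pow hsw
  -- the solvable normalizer of `zpowers c` forces `s` to normalize `zpowers x`
  have hsx : s * x * s⁻¹ ∈ zpowers x :=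
    hG.mem_normalizer_of_unique (hloc r hrp hr2 hrq c hco) hq hq2 (Or.inl hq5)
      (centralizer_le_normalizer_zpowers c (mem_centralizer_of_commute hcx.symm))
      (mem_normalizer_zpowers_iff.2 hs) hx
  have hcomm := commute_commutator hsx (mem_normalizer_zpowers_iff.1 hwN)
  have hbr : ⁅s, w⁆ = w ^ ((u : ℤ) - 1) := by
    rw [commutatorElement_def, hu, zpow_sub_one, zpow_natCast]
  rw [hbr] at hcomm
  have hcop : IsCoprime ((u : ℤ) - 1) ((orderOf w : ℕ) : ℤ) := by
    rw [hwo, Nat.cast_pow]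
    refine IsCoprime.pow_right ?_
    refine (Nat.prime_iff_prime_int.1 hrp).coprime_iff_not_dvd.2 (fun hdv => hsc ?_) |>.symm
    have h1 : (u : ℤ) ≡ 1 [ZMOD (r : ℤ)] := (Int.modEq_iff_dvd.2 hdv).symm
    have h2 : u ≡ 1 [MOD r] := by exact_mod_cast Int.natCast_modEq_iff.1 h1
    have h3 : s * c * s⁻¹ = c := by
      conv_rhs => rw [← pow_one c]
      rw [hc, ← conj_pow, hu, ← pow_mul, mul_comm, pow_mul, ← hc, pow_eq_pow_iff_modEq, hco]
      exact h2
    exact mul_inv_eq_iff_eq_mul.1 h3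
  obtain ⟨A, B, hAB⟩ := hcop
  apply hwx
  have hwe : w = (w ^ ((u : ℤ) - 1)) ^ A := by
    rw [← zpow_mul]
    calc w = w ^ (A * ((u : ℤ) - 1) + B * (orderOf w : ℤ)) := by rw [hAB, zpow_one]
      _ = w ^ (((u : ℤ) - 1) * A) := by
        rw [zpow_add, mul_comm B, zpow_mul _ (orderOf w : ℤ), zpow_natCast, pow_orderOf_eq_one,
          one_zpow, mul_one, mul_comm]
  rw [hwe]
  exact hcomm.zpow_left A

/-- An element outside the centralizer can be replaced by a 2-element. -/
theorem exists_two_element {x g : G} (hn : g * x * g⁻¹ ∈ zpowers x) (hgx : ¬ Commute g x)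
    (hodd : ∀ u : G, u * x * u⁻¹ ∈ zpowers x → Odd (orderOf u) → Commute u x) :
    ∃ h : G, h * x * h⁻¹ ∈ zpowers x ∧ ¬ Commute h x ∧ ∃ e, orderOf h = 2 ^ e := by
  obtain ⟨e, N, hN, heN⟩ := Nat.exists_eq_pow_mul_and_not_dvd (orderOf_pos g).ne' 2 (by norm_num)
  have hco : Nat.Coprime (2 ^ e) N := (Nat.prime_two.coprime_iff_not_dvd.2 hN).pow_left e
  have hN0 : N ≠ 0 := fun h => hN (h ▸ dvd_zero 2)
  have hmem : ∀ m : ℕ, g ^ m * x * (g ^ m)⁻¹ ∈ zpowers x := fun m =>
    mem_normalizer_zpowers_iff.1 (pow_mem (mem_normalizer_zpowers_iff.2 hn) m)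
  refine ⟨g ^ N, hmem N, fun h => hgx (commute_of_parts hco (hodd _ (hmem _) ?_) h), e, ?_⟩
  · rw [orderOf_pow_of_dvd (pow_ne_zero _ two_ne_zero) (heN ▸ dvd_mul_right _ N), heN,
      Nat.mul_div_cancel_left _ (pow_pos two_pos e), Nat.odd_iff]
    omega
  · rw [orderOf_pow_of_dvd hN0 (heN ▸ dvd_mul_left N _), heN,
      Nat.mul_div_cancel _ (Nat.pos_of_ne_zero hN0)]

variable (hIH : SubSL G)
include hIH

set_option maxHeartbeats 800000 in
/-- No element of odd prime order centralizes a nontrivial perfect subgroup. -/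
theorem no_perfect_centralized : ∀ q : ℕ, q.Prime → q ≠ 2 → ∀ x : G, orderOf x = q →
    ∀ S : Subgroup G, ⁅S, S⁆ = S → S ≠ ⊥ → (∀ s ∈ S, Commute s x) → False := by
  intro q
  induction q using Nat.strong_induction_on with
  | _ q ih =>
  intro hq hq2 x hx S hS hSb hSx
  haveI := Fact.mk hq
  haveI : Fact (Nat.Prime 2) := ⟨Nat.prime_two⟩
  haveI : Fact (Nat.Prime 3) := ⟨Nat.prime_three⟩
  obtain ⟨g₀, hg₀, hg₀x⟩ := hG.exists_not_commute hperf hq hq2 hx
  have hproper : ∀ T : Subgroup G, (∀ t ∈ T, Commute t x) → T ≠ ⊤ := fun T hT h =>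
    hg₀x (hT g₀ (h ▸ mem_top g₀))
  -- any such subgroup is `SL(2,5)`, and then `q ≥ 7`
  have hmodel : ∀ T : Subgroup G, ⁅T, T⁆ = T → T ≠ ⊥ → (∀ t ∈ T, Commute t x) →
      Nonempty (T ≃* Matrix.SpecialLinearGroup (Fin 2) (ZMod 5)) :=
    fun T hT hTb hTx => hIH T (hproper T hTx) hTb hT
  have hcard : ∀ T : Subgroup G, ⁅T, T⁆ = T → T ≠ ⊥ → (∀ t ∈ T, Commute t x) →
      Nat.card T = 120 := fun T hT hTb hTx => by
    obtain ⟨e⟩ := hmodel T hT hTb hTx
    rw [Nat.card_congr e.toEquiv, H66.card_SL25]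
  have hqpair : ∀ T : Subgroup G, ⁅T, T⁆ = T → T ≠ ⊥ → HasQPair T := by
    intro T hT hTb
    haveI : Nontrivial T := (Subgroup.nontrivial_iff_ne_bot T).2 hTb
    exact hasQPair_top_iff.1 ((hG.subgroup T).hasQPair_of_perfect (commutator_top_of_perfect hT))
  have hq7 : 5 ≤ q ∧ q ≠ 5 := by
    obtain ⟨e⟩ := hmodel S hS hSb hSx
    have hne : q ≠ 3 ∧ q ≠ 5 := by
      suffices h : ¬ (q = 3 ∨ q = 5) by tauto
      intro hq35
      have hd : q ∣ Nat.card S := by
        rw [hcard S hS hSb hSx]; rcases hq35 with rfl | rfl <;> norm_num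
      obtain ⟨y, hy⟩ := exists_prime_orderOf_dvd_card' (G := S) q hd
      rw [← orderOf_coe] at hy
      obtain ⟨i, hi, j, hj, hij⟩ := hqpair S hS hSb
      -- `zpowers y = zpowers x`, hence `x ∈ S`
      have hxy : zpowers (y : G) = zpowers x := by
        by_contra hne
        have hd2 : zpowers x ⊓ zpowers (y : G) = ⊥ := by
          rw [eq_bot_iff]
          intro g hg
          rw [mem_bot]
          by_contra hg1
          have hgo : orderOf g = q := (hq.eq_one_or_self_of_dvd _ (hx ▸ Nat.card_zpowers x ▸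
            Subgroup.orderOf_dvd_natCard _ hg.1)).resolve_left fun h => hg1 (orderOf_eq_one_iff.1 h)
          exact hne ((zpowers_eq_of_mem hq hy hgo hg.2).symm.trans (zpowers_eq_of_mem hq hx hgo hg.1))
        have hle : zpowers (y : G) ≤ normalizer (zpowers x : Set G) :=
          zpowers_le.2 (centralizer_le_normalizer_zpowers x (mem_centralizer_of_commute (hSx y y.2)))
        have hc := Coprime.card_sup hle hd2
        rw [Nat.card_zpowers, Nat.card_zpowers, hx, hy] at hc
        haveI := hG.cyclic _ q q hq hq hc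
        exact hne (H41.eq_of_card_eq_of_le_cyclic (C := zpowers x ⊔ zpowers (y : G)) inferInstance
          le_sup_right le_sup_left (by rw [Nat.card_zpowers, Nat.card_zpowers, hx, hy]))
      have hxS : x ∈ S := by
        have h1 : x ∈ zpowers (y : G) := hxy ▸ mem_zpowers x
        exact zpowers_le.2 y.2 h1
      exact not_commute_four e hi hxS hq35 hij.1 hx (hSx i hi)
    have h2 := hq.two_le
    refine ⟨?_, hne.2⟩
    rcases Nat.lt_or_ge q 5 with h | h
    · interval_cases q
      · omega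
      · omega
      · exact absurd hq (by norm_num)
    · exact h
  -- normalizers of subgroups of smaller prime order are solvable
  have hloc : ∀ r, r.Prime → r ≠ 2 → r < q → ∀ d : G, orderOf d = r →
      Group.IsSolvable (normalizer (zpowers d : Set G)) := by
    intro r hr hr2 hrq d hd
    by_contra hns
    obtain ⟨T, hTle, hTb, hT, -⟩ := exists_perfect_core hns
    exact ih r hrq hr hr2 d hd T hT hTb
      (commute_of_perfect hT fun t ht => mem_normalizer_zpowers_iff.1 (hTle ht))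
  have hodd : ∀ u : G, u * x * u⁻¹ ∈ zpowers x → Odd (orderOf u) → Commute u x := fun u hu ho =>
    hG.commute_odd_of_local hperf hq hq2 hloc hx hu ho
  -- the perfect core of the centralizer
  set L := normalizer (zpowers x : Set G) with hL
  set C := centralizer ({x} : Set G) with hC
  have hCL : C ≤ L := centralizer_le_normalizer_zpowers x
  have hCns : ¬ Group.IsSolvable C := by
    intro hs
    haveI : Nontrivial S := (Subgroup.nontrivial_iff_ne_bot S).2 hSb
    haveI : Group.IsSolvable S := Group.isSolvable_of_isSolvable_injective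
      (Subgroup.inclusion_injective (fun s hs' => mem_centralizer_of_commute (hSx s hs') : S ≤ C))
    exact (Group.IsSolvable.commutator_lt_top_of_nontrivial S).ne (commutator_top_of_perfect hS)
  obtain ⟨T, hTC, hTb, hT, hTinv⟩ := exists_perfect_core hCns
  have hTx : ∀ t ∈ T, Commute t x := fun t ht => mem_centralizer_singleton_iff.1 (hTC ht)
  obtain ⟨eT⟩ := hmodel T hT hTb hTx
  have hconjC : ∀ l ∈ L, ∀ c, Commute c x → Commute (l * c * l⁻¹) x := by
    intro l hl c hc
    obtain ⟨j, hj⟩ := mem_zpowers_iff.1 (mem_normalizer_zpowers_iff.1 (inv_mem hl))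
    rw [inv_inv] at hj
    show l * c * l⁻¹ * x = x * (l * c * l⁻¹)
    calc l * c * l⁻¹ * x = l * (c * (l⁻¹ * x * l)) * l⁻¹ := by group
      _ = l * ((l⁻¹ * x * l) * c) * l⁻¹ := by rw [← hj, (hc.zpow_right j).eq]
      _ = x * (l * c * l⁻¹) := by group
  have hCnorm : ∀ l ∈ L, C.map (MulAut.conj l).toMonoidHom = C := by
    intro l hl
    refine eq_of_le_of_card_ge ?_ (Subgroup.card_map_of_injective (MulAut.conj l).injective).ge
    rintro _ ⟨c, hc, rfl⟩
    exact mem_centralizer_of_commute (hconjC l hl c (mem_centralizer_singleton_iff.1 hc))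
  have hTn : ∀ l ∈ L, ∀ t ∈ T, l * t * l⁻¹ ∈ T := fun l hl t ht => by
    rw [← hTinv l (hCnorm l hl)]; exact ⟨t, ht, rfl⟩
  -- a Sylow 2-subgroup `Q` of `L` and its intersection with `T`
  obtain ⟨U⟩ : Nonempty (Sylow 2 T) := inferInstance
  set U' := (U : Subgroup T).map T.subtype with hU'
  have hU'T : U' ≤ T := map_subtype_le _
  have hU2 : IsPGroup 2 U' := U.2.map _
  have hU8 : Nat.card U' = 8 := by
    rw [hU', Subgroup.card_map_of_injective T.subtype_injective, Sylow.card_eq_multiplicity,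
      hcard T hT hTb hTx]
    have h : Nat.factorization (2 ^ 3 * 15) 2 = 3 := by
      rw [Nat.factorization_mul (by norm_num) (by norm_num), Finsupp.add_apply,
        Nat.Prime.factorization_pow Nat.prime_two, Finsupp.single_eq_same,
        Nat.factorization_eq_zero_of_not_dvd (by norm_num)]
    rw [show (120 : ℕ) = 2 ^ 3 * 15 from rfl, h]
    rfl
  have hU'L : U' ≤ L := (hU'T.trans hTC).trans hCL
  obtain ⟨Q, hQ⟩ := (hU2.comap_subtype (K := L)).exists_le_sylow
  set Q' := (Q : Subgroup L).map L.subtype with hQ'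
  have hQL : Q' ≤ L := map_subtype_le _
  have hQ2 : IsPGroup 2 Q' := Q.2.map _
  have hUQ : U' ≤ Q' := fun u hu => ⟨⟨u, hU'L hu⟩, hQ hu, rfl⟩
  have hcard8 : ∀ V : Subgroup G, IsPGroup 2 V → V ≤ T → Nat.card V ≤ 8 := by
    intro V hV hVT
    obtain ⟨e, he⟩ := hV.exists_card_eq
    have h1 := Subgroup.card_dvd_of_le hVT
    rw [hcard T hT hTb hTx, he] at h1
    have h2 : e ≤ 3 := by
      by_contra h
      have : 2 ^ 4 ∣ 120 := (pow_dvd_pow 2 (by omega)).trans h1
      norm_num at this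
    rw [he]
    exact (Nat.pow_le_pow_right two_pos h2).trans (le_of_eq (by norm_num))
  have hUnc : ¬ IsCyclic U' := by
    intro hc
    obtain ⟨u, hu⟩ := isCyclic_iff_exists_orderOf_eq_natCard.1 hc
    rw [hU8, ← orderOf_coe] at hu
    have h1 : (eT ⟨u, hU'T u.2⟩) ^ 8 = 1 := by
      rw [← map_pow, ← map_one eT]
      congr 1
      exact Subtype.ext (by rw [Subgroup.coe_pow, ← hu, pow_orderOf_eq_one]; rfl)
    have h2 := sl25_pow_eight _ h1
    rw [← map_pow, MulEquiv.map_eq_one_iff] at h2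
    have h3 := orderOf_dvd_of_pow_eq_one (congrArg Subtype.val h2 : (u : G) ^ 4 = 1)
    rw [hu] at h3
    norm_num at h3
  have hQnc : ¬ IsCyclic Q' := fun h =>
    hUnc (isCyclic_of_injective (Subgroup.inclusion hUQ) (Subgroup.inclusion_injective hUQ))
  obtain ⟨a, xq, k, hquat⟩ := hG.exists_quat hQ2 hQnc
  have hk : k ≤ 1 := by
    refine hquat.le_one_of_normalizes hUQ hU8 hUnc fun s hs => ?_
    have h1 : a * s * a⁻¹ ∈ T := hTn a (hQL hquat.a_mem) s (hU'T hs)
    have h2 : a * s * a⁻¹ ∈ Q' := Q'.mul_mem (Q'.mul_mem hquat.a_mem (hUQ hs)) (Q'.inv_mem hquat.a_mem)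
    have h3 : U' = Q' ⊓ T := by
      refine eq_of_le_of_card_ge (le_inf hUQ hU'T) ?_
      rw [hU8]
      exact hcard8 _ (hQ2.to_le inf_le_left) inf_le_right
    rw [h3]
    exact ⟨h2, h1⟩
  -- a 2-element of `L` outside `C`, conjugate into `Q`
  obtain ⟨h₀, hh₀, hh₀x, e₀, he₀⟩ := hG.exists_two_element hperf hg₀ hg₀x hodd
  have hconjQ : ∀ V : Subgroup G, IsPGroup 2 V → V ≤ L →
      ∃ l ∈ L, ∀ v ∈ V, l * v * l⁻¹ ∈ Q' := by
    intro V hV hVL
    obtain ⟨Q₁, hQ₁⟩ := (hV.comap_subtype (K := L)).exists_le_sylow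
    obtain ⟨l, hl⟩ := MulAction.exists_smul_eq L Q₁ Q
    exact ⟨l, l.2, fun v hv => ⟨l * ⟨v, hVL hv⟩ * l⁻¹, hl ▸ ⟨⟨v, hVL hv⟩, hQ₁ hv, rfl⟩, rfl⟩⟩
  have hh₀L : h₀ ∈ L := mem_normalizer_zpowers_iff.2 hh₀
  obtain ⟨l₀, hl₀, hl₀Q⟩ := hconjQ (zpowers h₀)
    (IsPGroup.of_card (n := e₀) (by rw [Nat.card_zpowers, he₀])) (zpowers_le.2 hh₀L)
  have hQC : U' = Q' ⊓ C := by
    refine eq_of_le_of_card_ge (le_inf hUQ (hU'T.trans hTC)) ?_
    have hlt : Q' ⊓ C < Q' := by
      refine lt_of_le_of_ne inf_le_left fun h => hh₀x ?_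
      have h1 : l₀ * h₀ * l₀⁻¹ ∈ Q' ⊓ C := h.symm ▸ hl₀Q h₀ (mem_zpowers h₀)
      have h2 := hconjC l₀⁻¹ (inv_mem hl₀) _ (mem_centralizer_singleton_iff.1 h1.2)
      rwa [show l₀⁻¹ * (l₀ * h₀ * l₀⁻¹) * l₀⁻¹⁻¹ = h₀ by group] at h2
    obtain ⟨e, he⟩ := (hQ2.to_le (inf_le_left : Q' ⊓ C ≤ Q')).exists_card_eq
    have h1 : Nat.card (Q' ⊓ C : Subgroup G) < Nat.card Q' :=
      lt_of_not_ge fun h => hlt.ne (eq_of_le_of_card_ge inf_le_left h)
    rw [hquat.card, he, Nat.pow_lt_pow_iff_right (by norm_num)] at h1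
    rw [hU8, he]
    exact (Nat.pow_le_pow_right two_pos (show e ≤ 3 by omega)).trans (le_of_eq (by norm_num))
  have h2T : ∀ V : Subgroup G, IsPGroup 2 V → V ≤ C → V ≤ T := by
    intro V hV hVC v hv
    obtain ⟨l, hl, hlQ⟩ := hconjQ V hV (hVC.trans hCL)
    have h1 : l * v * l⁻¹ ∈ U' := by
      rw [hQC]
      exact ⟨hlQ v hv, mem_centralizer_of_commute
        (hconjC l hl v (mem_centralizer_singleton_iff.1 (hVC hv)))⟩
    have h2 := hTn l⁻¹ (inv_mem hl) _ (hU'T h1)
    rwa [show l⁻¹ * (l * v * l⁻¹) * l⁻¹⁻¹ = v by group] at h2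
  -- an element of order three of `T`
  obtain ⟨y, hy⟩ := exists_prime_orderOf_dvd_card' (G := T) 3 (by rw [hcard T hT hTb hTx]; norm_num)
  -- elements of order three of `L` lie in `T`
  have h3T : ∀ u ∈ L, orderOf u = 3 → u ∈ T := by
    intro u hu huo
    obtain ⟨P, hP⟩ := (IsPGroup.of_card (n := 1) (by rw [Nat.card_zpowers, huo, pow_one] :
      Nat.card (zpowers u) = 3 ^ 1)).exists_le_sylow
    obtain ⟨P₁, hP₁⟩ := ((IsPGroup.of_card (n := 1) (by rw [Nat.card_zpowers, huo, pow_one] :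
      Nat.card (zpowers u) = 3 ^ 1)).comap_subtype (K := L)).exists_le_sylow
    obtain ⟨P₂, hP₂⟩ := ((IsPGroup.of_card (n := 1) (by rw [Nat.card_zpowers, orderOf_coe, hy, pow_one] :
      Nat.card (zpowers (y : G)) = 3 ^ 1)).comap_subtype (K := L)).exists_le_sylow
    obtain ⟨l, hl⟩ := MulAction.exists_smul_eq L P₂ P₁
    have hyL : (y : G) ∈ L := hCL (hTC y.2)
    have hl3 : (l : G) * (y : G) * (l : G)⁻¹ ∈ (P₁ : Subgroup L).map L.subtype :=
      ⟨l * ⟨y, hyL⟩ * l⁻¹, hl ▸ ⟨⟨y, hyL⟩, hP₂ (mem_zpowers (y : G)), rfl⟩, rfl⟩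
    have hu3 : u ∈ (P₁ : Subgroup L).map L.subtype := ⟨⟨u, hu⟩, hP₁ (mem_zpowers u), rfl⟩
    have hcyc := hG.isCyclic_odd (P₁.2.map L.subtype) (by norm_num)
    have heq := H41.eq_of_card_eq_of_le_cyclic hcyc (zpowers_le.2 hu3) (zpowers_le.2 hl3) (by
      rw [Nat.card_zpowers, Nat.card_zpowers, huo]
      exact ((orderOf_injective (MulAut.conj (l : G)).toMonoidHom (MulAut.conj (l : G)).injective
        (y : G)).trans (orderOf_coe y |>.trans hy)).symm)
    exact zpowers_le.2 (hTn l l.2 y y.2) (heq ▸ mem_zpowers u)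
  have hy' : orderOf (y : G) = 3 := by rw [orderOf_coe, hy]
  -- Frattini: an element of `L` normalizing `zpowers y` outside `C`
  obtain ⟨h₁, hh₁L, hh₁y, hh₁x⟩ : ∃ g ∈ L, g * (y : G) * g⁻¹ ∈ zpowers (y : G) ∧ ¬ Commute g x := by
    have h1 : h₀ * (y : G) * h₀⁻¹ ∈ T := hTn h₀ hh₀L y y.2
    have hsyl : ∀ v : T, orderOf v = 3 → ¬ 3 ∣ (zpowers v).index := by
      intro v hv h
      have h2 := (zpowers v).card_mul_index
      rw [Nat.card_zpowers, hv, hcard T hT hTb hTx] at h2
      omega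
    have hw3 : orderOf (⟨h₀ * (y : G) * h₀⁻¹, h1⟩ : T) = 3 := by
      rw [← orderOf_coe]
      exact (orderOf_injective (MulAut.conj h₀).toMonoidHom (MulAut.conj h₀).injective (y : G)).trans hy'
    obtain ⟨s, hs⟩ := MulAction.exists_smul_eq T
      ((IsPGroup.of_card (n := 1) (by rw [Nat.card_zpowers, hw3, pow_one] :
        Nat.card (zpowers (⟨h₀ * (y : G) * h₀⁻¹, h1⟩ : T)) = 3 ^ 1)).toSylow (hsyl _ hw3))
      ((IsPGroup.of_card (n := 1) (by rw [Nat.card_zpowers, hy, pow_one] :
        Nat.card (zpowers y) = 3 ^ 1)).toSylow (hsyl _ hy))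
    refine ⟨s * h₀, L.mul_mem (hCL (hTC s.2)) hh₀L, ?_, fun h => hh₀x ?_⟩
    · have h2 : s * ⟨h₀ * (y : G) * h₀⁻¹, h1⟩ * s⁻¹ ∈ zpowers y := by
        have := congrArg (fun P : Sylow 3 T => (P : Subgroup T)) hs
        rw [← IsPGroup.toSylow_coe (IsPGroup.of_card (n := 1) (by rw [Nat.card_zpowers, hy, pow_one] :
          Nat.card (zpowers y) = 3 ^ 1)) (hsyl _ hy), ← this]
        exact ⟨_, mem_zpowers _, rfl⟩
      obtain ⟨j, hj⟩ := mem_zpowers_iff.1 h2
      refine ⟨j, ?_⟩
      have := congrArg Subtype.val hj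
      show (y : G) ^ j = _
      rw [Subgroup.coe_zpow] at this
      rw [this]
      show (s : G) * (h₀ * y * h₀⁻¹) * (s : G)⁻¹ = _
      group
    · have := (hTx s s.2).inv_left.mul_left h
      rwa [inv_mul_cancel_left] at this
  -- an element of order four of `T` inverting `y`
  obtain ⟨w, hwT, hwy, hwc, hwo⟩ : ∃ w ∈ T, w * (y : G) * w⁻¹ ∈ zpowers (y : G) ∧
      ¬ Commute w (y : G) ∧ orderOf w = 4 := by
    obtain ⟨t, ht, htc⟩ :=
      (hG.subgroup T).exists_not_commute (commutator_top_of_perfect hT) Nat.prime_three (by norm_num) hy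
    obtain ⟨w', hw', hwc', ew, hew⟩ := (hG.subgroup T).exists_two_element
      (commutator_top_of_perfect hT) ht htc fun u hu ho => (hG.subgroup T).commute_odd_three hy hu ho
    set w : G := (w' : G) with hwdef
    have hwN : w ∈ T := w'.2
    have hwc : ¬ Commute w (y : G) := fun h => hwc' (Subtype.ext h.eq)
    have hw : w * (y : G) * w⁻¹ ∈ zpowers (y : G) := by
      obtain ⟨j, hj⟩ := mem_zpowers_iff.1 hw'
      exact ⟨j, congrArg Subtype.val hj⟩
    rw [← orderOf_coe] at hew
    refine ⟨w, hwN, hw, hwc, ?_⟩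
    rw [hew]
    have h1 : ew ≠ 0 := by
      rintro rfl
      rw [pow_zero, orderOf_eq_one_iff] at hew
      exact hwc (by rw [show w = 1 from hew]; exact Commute.one_left _)
    have h2 : ew ≠ 1 := by
      rintro rfl
      exact hwc (hG.commute_involution (by rw [hew]; rfl) (y : G)).symm
    have h3 : ew ≤ 2 := by
      have h4 : ew ≤ 3 := by
        have h5 := Subgroup.orderOf_dvd_natCard _ hwN
        rw [hew, hcard T hT hTb hTx] at h5
        by_contra h
        have : 2 ^ 4 ∣ 120 := (pow_dvd_pow 2 (by omega)).trans h5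
        norm_num at this
      by_contra h
      have h6 : ew = 3 := by omega
      rw [h6] at hew
      have h7 : (eT ⟨w, hwN⟩) ^ 8 = 1 := by
        have : orderOf (eT ⟨w, hwN⟩) = 8 := by rw [MulEquiv.orderOf_eq, ← orderOf_coe, hew]; rfl
        exact this ▸ pow_orderOf_eq_one _
      have h8 := orderOf_dvd_of_pow_eq_one (sl25_pow_eight _ h7)
      rw [MulEquiv.orderOf_eq, ← orderOf_coe, hew] at h8
      norm_num at h8
    interval_cases ew <;> simp_all
  -- a 2-group of `N_L(zpowers y)` containing `w` and meeting the outside of `C`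
  set NR := L ⊓ normalizer (zpowers (y : G) : Set G) with hNR
  obtain ⟨v, hvNR, hvx, ev, hev⟩ : ∃ v ∈ NR, ¬ Commute v x ∧ ∃ e, orderOf v = 2 ^ e := by
    obtain ⟨e, N, hN, heN⟩ := Nat.exists_eq_pow_mul_and_not_dvd (orderOf_pos h₁).ne' 2 (by norm_num)
    have hco : Nat.Coprime (2 ^ e) N := (Nat.prime_two.coprime_iff_not_dvd.2 hN).pow_left e
    have hN0 : N ≠ 0 := fun h => hN (h ▸ dvd_zero 2)
    have hm : ∀ m : ℕ, h₁ ^ m ∈ NR := fun m =>
      pow_mem (⟨hh₁L, mem_normalizer_zpowers_iff.2 hh₁y⟩ : h₁ ∈ NR) m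
    refine ⟨h₁ ^ N, hm N, fun h => hh₁x (commute_of_parts hco
      (hodd _ (mem_normalizer_zpowers_iff.1 (hm _).1) ?_) h), e, ?_⟩
    · rw [orderOf_pow_of_dvd (pow_ne_zero _ two_ne_zero) (heN ▸ dvd_mul_right _ N), heN,
        Nat.mul_div_cancel_left _ (pow_pos two_pos e), Nat.odd_iff]
      omega
    · rw [orderOf_pow_of_dvd hN0 (heN ▸ dvd_mul_left N _), heN,
        Nat.mul_div_cancel _ (Nat.pos_of_ne_zero hN0)]
  have hwNR : w ∈ NR := ⟨hCL (hTC hwT), mem_normalizer_zpowers_iff.2 hwy⟩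
  obtain ⟨S₁, hS₁⟩ := ((IsPGroup.of_card (n := 2) (by rw [Nat.card_zpowers, hwo]; rfl) :
    IsPGroup 2 (zpowers w)).comap_subtype (K := NR)).exists_le_sylow
  obtain ⟨S₂, hS₂⟩ := ((IsPGroup.of_card (n := ev) (by rw [Nat.card_zpowers, hev]) :
    IsPGroup 2 (zpowers v)).comap_subtype (K := NR)).exists_le_sylow
  obtain ⟨l, hl⟩ := MulAction.exists_smul_eq NR S₂ S₁
  set V := (S₁ : Subgroup NR).map NR.subtype with hV
  have hV2 : IsPGroup 2 V := S₁.2.map _
  have hVNR : V ≤ NR := map_subtype_le _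
  have hwV : w ∈ V := ⟨⟨w, hwNR⟩, hS₁ (mem_zpowers w), rfl⟩
  set v' := (l : G) * v * (l : G)⁻¹ with hv'
  have hv'V : v' ∈ V := ⟨l * ⟨v, hvNR⟩ * l⁻¹, hl ▸ ⟨⟨v, hvNR⟩, hS₂ (mem_zpowers v), rfl⟩, rfl⟩
  have hv'x : ¬ Commute v' x := fun h => hvx (by
    have h2 := hconjC (l : G)⁻¹ (inv_mem l.2.1) _ h
    rwa [hv', show (l : G)⁻¹ * ((l : G) * v * (l : G)⁻¹) * (l : G)⁻¹⁻¹ = v by group] at h2)
  -- an element of `V` outside `C` centralizing `y`
  obtain ⟨u, huV, hux, huy⟩ : ∃ u ∈ V, ¬ Commute u x ∧ Commute u (y : G) := by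
    have hinv : ∀ t ∈ V, ¬ Commute t (y : G) → t * (y : G) * t⁻¹ = (y : G)⁻¹ := by
      intro t ht htc
      obtain ⟨m, hm⟩ := exists_conj_eq_pow (mem_normalizer_zpowers_iff.1 (hVNR ht).2)
      rw [← pow_mod_orderOf, hy'] at hm
      have : m % 3 = 0 ∨ m % 3 = 1 ∨ m % 3 = 2 := by omega
      rcases this with h | h | h <;> rw [h] at hm
      · rw [pow_zero, conj_eq_one_iff] at hm
        rw [hm, orderOf_one] at hy'
        omega
      · rw [pow_one] at hm
        exact absurd (mul_inv_eq_iff_eq_mul.1 hm) htc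
      · rw [hm]
        refine eq_inv_of_mul_eq_one_left ?_
        rw [← pow_succ, show (2 + 1 : ℕ) = orderOf (y : G) from hy'.symm, pow_orderOf_eq_one]
    by_cases hc : Commute v' (y : G)
    · exact ⟨v', hv'V, hv'x, hc⟩
    refine ⟨v' * w, V.mul_mem hv'V hwV, fun h => hv'x ?_, ?_⟩
    · have := h.mul_left (hTx w hwT).inv_left
      rwa [mul_inv_cancel_right] at this
    · have h1 := hinv v' hv'V hc
      have h2 := hinv w hwV hwc
      refine mul_inv_eq_iff_eq_mul.1 ?_
      calc v' * w * y * (v' * w)⁻¹ = v' * (w * y * w⁻¹) * v'⁻¹ := by group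
        _ = (v' * y * v'⁻¹)⁻¹ := by rw [h2]; group
        _ = (y : G) := by rw [h1, inv_inv]
  -- it has order four
  have huo : orderOf u = 4 := by
    obtain ⟨eu, heu⟩ := IsPGroup.iff_orderOf.1 hV2 ⟨u, huV⟩
    rw [← orderOf_coe] at heu
    have hu2 : u ^ 2 ∈ T := by
      have hmem : u ^ 2 ∈ C := by
        refine mem_centralizer_of_commute ?_
        by_contra hne
        apply hne
        obtain ⟨l, hl, hlQ⟩ := hconjQ (zpowers u) (hV2.to_le (zpowers_le.2 huV))
          (zpowers_le.2 (hVNR huV).1)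
        have hq1 := hlQ u (mem_zpowers u)
        have hsq : (l * u * l⁻¹) ^ 2 ∈ Q' ⊓ C := by
          have hidx : (U'.subgroupOf Q').index = 2 := by
            have h1 := (U'.subgroupOf Q').card_mul_index
            rw [Nat.card_congr (Subgroup.subgroupOfEquivOfLe hUQ).toEquiv, hU8, hquat.card] at h1
            have hk1 : k = 1 := by
              by_contra h
              have hk0 : k = 0 := by omega
              rw [hk0] at h1
              have h2 : U' = Q' := eq_of_le_of_card_ge hUQ (by rw [hU8, hquat.card, hk0]; norm_num)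
              exact hh₀x (by
                have h3 : l₀ * h₀ * l₀⁻¹ ∈ Q' ⊓ C := hQC ▸ h2.symm ▸ hl₀Q h₀ (mem_zpowers h₀)
                have h4 := hconjC l₀⁻¹ (inv_mem hl₀) _ (mem_centralizer_singleton_iff.1 h3.2)
                rwa [show l₀⁻¹ * (l₀ * h₀ * l₀⁻¹) * l₀⁻¹⁻¹ = h₀ by group] at h4)
            rw [hk1] at h1
            omega
          rw [← hQC]
          exact Subgroup.sq_mem_of_index_two hidx ⟨_, hq1⟩
        have h2 := hconjC l⁻¹ (inv_mem hl) _ (mem_centralizer_singleton_iff.1 hsq.2)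
        rw [conj_pow] at h2
        rwa [show l⁻¹ * (l * u ^ 2 * l⁻¹) * l⁻¹⁻¹ = u ^ 2 by group] at h2
      exact h2T (zpowers (u ^ 2)) (hV2.to_le (zpowers_le.2 (pow_mem huV 2)))
        (zpowers_le.2 hmem) (mem_zpowers _)
    have hle : orderOf (u ^ 2) ∣ 2 := by
      rcases eu with _ | _ | _ | eu
      · rw [pow_zero, orderOf_eq_one_iff] at heu; rw [show u = 1 from heu, one_pow, orderOf_one]; exact one_dvd _
      · rw [show (2 : ℕ) ^ (0 + 1) = 2 from rfl] at heu
        rw [← heu, pow_orderOf_eq_one, orderOf_one]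
        exact one_dvd _
      · rw [show (2 : ℕ) ^ (0 + 1 + 1) = 4 from rfl] at heu
        rw [orderOf_pow_of_dvd two_ne_zero (heu ▸ (by norm_num)), heu]
      · exfalso
        have h1 : orderOf ((u ^ 2) ^ 2 ^ eu) = 4 := by
          rw [← pow_mul, orderOf_pow_of_dvd (by positivity) (heu ▸ ⟨4, by ring⟩), heu,
            show 2 ^ (eu + 1 + 1 + 1) = 2 * 2 ^ eu * 4 by ring]
          exact Nat.mul_div_cancel_left _ (by positivity)
        exact not_commute_four eT (pow_mem hu2 _) y.2 (Or.inl rfl) h1 hy' ((huy.pow_left 2).pow_left _)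
    have h2 : orderOf u ∣ 4 := by
      refine orderOf_dvd_of_pow_eq_one ?_
      rw [show (4 : ℕ) = 2 * 2 from rfl, pow_mul]
      exact orderOf_dvd_iff_pow_eq_one.1 hle
    rcases (Nat.dvd_prime_pow Nat.prime_two).1 (show orderOf u ∣ 2 ^ 2 from h2) with ⟨i, hi, hie⟩
    interval_cases i
    · rw [pow_zero, orderOf_eq_one_iff] at hie
      exact absurd (hie ▸ Commute.one_left x) hux
    · exact absurd (hG.commute_involution (by rw [hie]; rfl) x).symm hux
    · rw [hie]; rfl
  -- move `u` to `w`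
  obtain ⟨g, hg⟩ := hG.exists_conj_four hperf huo hwo
  set y' := g * (y : G) * g⁻¹ with hy'def
  have hy'o : orderOf y' = 3 :=
    (orderOf_injective (MulAut.conj g).toMonoidHom (MulAut.conj g).injective (y : G)).trans hy'
  have hy'w : Commute y' w := by
    have h1 : Commute y' (g * u * g⁻¹) := huy.symm.map (MulAut.conj g).toMonoidHom
    have h2 := zpowers_conj_eq hg (huo.trans hwo.symm)
    obtain ⟨j, hj⟩ := mem_zpowers_iff.1 (h2.symm ▸ mem_zpowers w : w ∈ zpowers (g * u * g⁻¹))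
    exact hj ▸ h1.zpow_right j
  have hyL : y' ∈ L := by
    rw [hL, mem_normalizer_zpowers_iff]
    exact hG.mem_normalizer_of_unique
      (hG.isSolvable_of_not_hasQPair (hG.not_hasQPair_centralizer_four hwo)) hq hq2
      (Or.inl hq7.1) (mem_centralizer_of_commute (hTx w hwT).symm)
      (mem_centralizer_of_commute hy'w) hx
  exact not_commute_four eT hwT (h3T y' hyL hy'o) (Or.inl rfl) hwo hy'o hy'w.symm

/-- Normalizers of subgroups of odd prime order are solvable. -/
theorem local_solvable {d : G} {r : ℕ} (hr : r.Prime) (hr2 : r ≠ 2) (hd : orderOf d = r) :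
    Group.IsSolvable (normalizer (zpowers d : Set G)) := by
  by_contra hns
  obtain ⟨T, hTle, hTb, hT, -⟩ := exists_perfect_core hns
  exact hG.no_perfect_centralized hperf hIH r hr hr2 d hd T hT hTb
    (commute_of_perfect hT fun t ht => mem_normalizer_zpowers_iff.1 (hTle ht))

/-- Elements of odd order normalizing a subgroup of odd prime order centralize it. -/
theorem commute_odd {x g : G} {q : ℕ} (hq : q.Prime) (hq2 : q ≠ 2) (hx : orderOf x = q)
    (hn : g * x * g⁻¹ ∈ zpowers x) (hg : Odd (orderOf g)) : Commute g x :=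
  hG.commute_odd_of_local hperf hq hq2
    (fun r hr hr2 _ d hd => hG.local_solvable hperf hIH hr hr2 hd) hx hn hg

/-- Subgroups of odd order are cyclic. -/
theorem isCyclic_of_odd {H : Subgroup G} (hH : Odd (Nat.card H)) : IsCyclic H := by
  haveI : Fact (Nat.Prime 2) := ⟨Nat.prime_two⟩
  have h2 : ∀ g ∈ H, Odd (orderOf g) := fun g hg =>
    hH.of_dvd_nat (Subgroup.orderOf_dvd_natCard _ hg)
  haveI : IsZGroup H := hG.isZGroup_of_not_hasQPair fun ⟨i, hi, _, _, hij⟩ => by
    have := h2 i hi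
    rw [hij.1, Nat.odd_iff] at this
    norm_num at this
  -- the commutator subgroup has trivial Sylow subgroups
  have hbot : commutator H = ⊥ := by
    by_contra hne
    obtain ⟨r, hr, hrd⟩ := Nat.exists_prime_and_dvd
      (n := Nat.card (commutator H)) fun h => hne (Subgroup.eq_bot_of_card_eq _ h)
    haveI := Fact.mk hr
    have hr2 : r ≠ 2 := by
      rintro rfl
      have h1 := hrd.trans (Subgroup.card_subgroup_dvd_card (commutator H))
      rw [Nat.odd_iff] at hH
      omega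
    obtain ⟨P⟩ : Nonempty (Sylow r H) := inferInstance
    have hP : IsCyclic (P : Subgroup H) := inferInstance
    have hle : normalizer ((P : Subgroup H) : Set H) ≤ centralizer ((P : Subgroup H) : Set H) := by
      intro g hg
      obtain ⟨y, hy⟩ := hP.exists_generator
      have hyP : ∀ t ∈ (P : Subgroup H), t ∈ zpowers (y : H) := fun t ht => by
        obtain ⟨j, hj⟩ := mem_zpowers_iff.1 (hy ⟨t, ht⟩)
        exact ⟨j, congrArg Subtype.val hj⟩
      suffices hgy : Commute g (y : H) by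
        refine mem_centralizer_iff.2 fun t ht => ?_
        obtain ⟨j, rfl⟩ := mem_zpowers_iff.1 (hyP t ht)
        exact (hgy.zpow_right j).eq.symm
      obtain ⟨m, hm⟩ := IsPGroup.iff_orderOf.1 P.2 y
      rw [← orderOf_coe] at hm
      rcases m with _ | m
      · rw [pow_zero, orderOf_eq_one_iff] at hm
        rw [hm]; exact Commute.one_right g
      have hn : ∀ j : ℕ, g ^ j * (y : H) * (g ^ j)⁻¹ ∈ zpowers (y : H) := fun j =>
        hyP _ ((mem_normalizer_iff.1 (pow_mem hg j) _).1 y.2)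
      have hyo : orderOf ((y : H) ^ r ^ m) = r := by
        rw [orderOf_pow_of_dvd (pow_ne_zero _ hr.ne_zero) (hm ▸ pow_dvd_pow r (by omega)), hm,
          Nat.pow_div (by omega) hr.pos, show m + 1 - m = 1 by omega, pow_one]
      obtain ⟨e, N, hN, heN⟩ := Nat.exists_eq_pow_mul_and_not_dvd (orderOf_pos g).ne' r hr.ne_one
      have hsoc : Commute (g ^ r ^ e) ((y : H) ^ r ^ m) := by
        have h1 : ((g ^ r ^ e : H) : G) * (((y : H) ^ r ^ m : H) : G) * ((g ^ r ^ e : H) : G)⁻¹ ∈
            zpowers ((((y : H) ^ r ^ m : H)) : G) := by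
          have h2 : g ^ r ^ e * (y : H) ^ r ^ m * (g ^ r ^ e)⁻¹ ∈ zpowers ((y : H) ^ r ^ m) := by
            rw [← conj_pow]
            obtain ⟨j, hj⟩ := mem_zpowers_iff.1 (hn (r ^ e))
            exact ⟨j, by
              rw [← hj]
              show ((y : H) ^ r ^ m) ^ j = ((y : H) ^ j) ^ r ^ m
              rw [← zpow_natCast, ← zpow_natCast, ← zpow_mul, ← zpow_mul, mul_comm]⟩
          obtain ⟨j, hj⟩ := mem_zpowers_iff.1 h2
          exact ⟨j, congrArg Subtype.val hj⟩
        exact Subtype.ext (hG.commute_odd hperf hIH hr hr2 (by rw [orderOf_coe, hyo]) h1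
          (h2 _ (g ^ r ^ e : H).2)).eq
      have hfix : Commute (g ^ r ^ e) (y : H) := by
        refine commute_of_coprime_of_socle (N := N) hr hm (hn _) ?_ hN hsoc
        rw [← pow_mul, ← heN, pow_orderOf_eq_one]
        exact Commute.one_left _
      have hN0 : N ≠ 0 := fun h => hN (h ▸ dvd_zero r)
      have hmem : g ^ N ∈ (P : Subgroup H) := by
        have ho : orderOf (g ^ N) = r ^ e := by
          rw [orderOf_pow_of_dvd hN0 (heN ▸ dvd_mul_left N _), heN,
            Nat.mul_div_cancel _ (Nat.pos_of_ne_zero hN0)]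
        have hsup : IsPGroup r ↥((P : Subgroup H) ⊔ zpowers (g ^ N)) :=
          IsPGroup.to_sup_of_normal_left' P.2
            (IsPGroup.of_card (n := e) (by rw [Nat.card_zpowers, ho])) (zpowers_le.2 (pow_mem hg N))
        exact (P.3 hsup le_sup_left) ▸ mem_sup_right (mem_zpowers _)
      obtain ⟨j, hj⟩ := mem_zpowers_iff.1 (hyP _ hmem)
      exact commute_of_parts ((hr.coprime_iff_not_dvd.2 hN).pow_left e) hfix
        (hj ▸ Commute.zpow_self _ j)
    -- hence a normal `r`-complement containing the commutator subgroup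
    have hc := MonoidHom.ker_transferSylow_isComplement' P hle
    have hcomm : commutator H ≤ (MonoidHom.transferSylow P hle).ker := by
      letI : CommGroup (P : Subgroup H) := IsCyclic.commGroup
      exact Abelianization.commutator_subset_ker (MonoidHom.transferSylow P hle)
    have h1 : r ∣ Nat.card (MonoidHom.transferSylow P hle).ker :=
      hrd.trans (Subgroup.card_dvd_of_le hcomm)
    have h3 : (MonoidHom.transferSylow P hle).ker.index = Nat.card (P : Subgroup H) := hc.symm.index_eq_card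
    have h4 := (MonoidHom.transferSylow P hle).ker.card_mul_index
    rw [h3, Sylow.card_eq_multiplicity] at h4
    set k := (Nat.card H).factorization r
    have h5 : r ^ (k + 1) ∣ Nat.card H := by
      rw [← h4, pow_succ, mul_comm]
      exact mul_dvd_mul h1 dvd_rfl
    exact (Nat.pow_succ_factorization_not_dvd Nat.card_pos.ne' hr) h5
  letI : CommGroup H :=
    { (inferInstance : Group H) with
      mul_comm := fun a b => by
        have : ⁅a, b⁆ ∈ (⊥ : Subgroup H) := hbot ▸ commutator_mem_commutator (mem_top a) (mem_top b)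
        exact commutatorElement_eq_one_iff_mul_comm.1 (mem_bot.1 this) }
  haveI : Group.IsNilpotent H := CommGroup.isNilpotent
  infer_instance

end Perfect

end PQGroup

end Cfsg.Agent.H78.Zass
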