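import Cfsg.Agent.H78.Zass.PQ
import Cfsg.Agent.H25.QuaternionSylow

/-!
# The 2-subgroups of a `PQGroup`
-/

set_option autoImplicit false
set_option linter.unusedSectionVars false
set_option linter.style.haveILetI false

namespace Cfsg.Agent.H78.Zass

open Subgroup

variable {G : Type*} [Group G] [Finite G]

/-- Two elements generating a quaternion group of order 8. -/
def IsQPair (i j : G) : Prop := orderOf i = 4 ∧ j * i * j⁻¹ = i⁻¹ ∧ j ^ 2 = i ^ 2

/-- `H` contains a quaternion pair. -/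
def HasQPair (H : Subgroup G) : Prop := ∃ i ∈ H, ∃ j ∈ H, IsQPair i j

theorem HasQPair.mono {H K : Subgroup G} (h : HasQPair H) (hle : H ≤ K) : HasQPair K := by
  obtain ⟨i, hi, j, hj, hij⟩ := h
  exact ⟨i, hle hi, j, hle hj, hij⟩

theorem IsQPair.map {G' : Type*} [Group G'] (f : G →* G') (hf : Function.Injective f) {i j : G}
    (h : IsQPair i j) : IsQPair (f i) (f j) :=
  ⟨(orderOf_injective f hf i).trans h.1, by rw [← map_inv, ← map_inv, ← map_mul, ← map_mul, h.2.1],
    by rw [← map_pow, ← map_pow, h.2.2]⟩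

theorem IsQPair.of_map {G' : Type*} [Group G'] (f : G →* G') (hf : Function.Injective f) {i j : G}
    (h : IsQPair (f i) (f j)) : IsQPair i j :=
  ⟨(orderOf_injective f hf i).symm.trans h.1,
    hf (by rw [map_mul, map_mul, map_inv, map_inv, h.2.1]),
    hf (by rw [map_pow, map_pow, h.2.2])⟩

theorem hasQPair_top_iff {H : Subgroup G} : HasQPair (⊤ : Subgroup H) ↔ HasQPair H := by
  constructor
  · rintro ⟨i, -, j, -, h⟩
    exact ⟨i, i.2, j, j.2, h.map H.subtype H.subtype_injective⟩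
  · rintro ⟨i, hi, j, hj, h⟩
    exact ⟨⟨i, hi⟩, mem_top _, ⟨j, hj⟩, mem_top _,
      IsQPair.of_map H.subtype H.subtype_injective h⟩

theorem IsQPair.not_commute {i j : G} (h : IsQPair i j) : ¬ Commute j i := by
  intro hc
  have h1 : i⁻¹ = i := by rw [← h.2.1, hc.eq, mul_inv_cancel_right]
  have h2 : i ^ 2 = 1 := by
    calc i ^ 2 = i * i := sq i
      _ = i * i⁻¹ := by rw [h1]
      _ = 1 := mul_inv_cancel i
  have := orderOf_dvd_of_pow_eq_one h2
  rw [h.1] at this
  omega

theorem IsQPair.not_isCyclic {i j : G} (h : IsQPair i j) {H : Subgroup G} (hi : i ∈ H)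
    (hj : j ∈ H) : ¬ IsCyclic H := by
  intro hc
  letI : CommGroup H := IsCyclic.commGroup
  exact h.not_commute (congrArg Subtype.val (mul_comm (⟨j, hj⟩ : H) ⟨i, hi⟩))

theorem IsQPair.inv_eq {i j : G} (h : IsQPair i j) : j⁻¹ * i * j = i⁻¹ := by
  have h1 := congrArg (·⁻¹) h.2.1
  rw [mul_inv_rev, mul_inv_rev, inv_inv, inv_inv, ← mul_assoc] at h1
  have h2 : i = j⁻¹ * i⁻¹ * j := by
    calc i = j⁻¹ * (j * i * j⁻¹) * j := by group
      _ = j⁻¹ * i⁻¹ * j := by rw [h.2.1]
  calc j⁻¹ * i * j = (j⁻¹ * i⁻¹ * j)⁻¹ := by group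
    _ = i⁻¹ := by rw [← h2]

theorem IsQPair.orderOf_snd {i j : G} (h : IsQPair i j) : orderOf j = 4 := by
  haveI : Fact (Nat.Prime 2) := ⟨Nat.prime_two⟩
  have hi := h.1
  have h4 : (i ^ 2) ^ 2 = 1 := by
    have h := pow_orderOf_eq_one i
    rw [hi] at h
    rw [← pow_mul]; exact h
  have := orderOf_eq_prime_pow (x := j) (p := 2) (n := 1) ?_ ?_
  · simpa using this
  · rw [pow_one, h.2.2]
    intro e
    have := orderOf_dvd_of_pow_eq_one e
    rw [hi] at this
    norm_num at this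
  · rw [show (2 : ℕ) ^ (1 + 1) = 2 * 2 from rfl, pow_mul, h.2.2, h4]

/-- A 2-subgroup of quaternion type, with its data. -/
structure Quat (P : Subgroup G) (a x : G) (k : ℕ) : Prop where
  ord : orderOf a = 2 ^ (k + 2)
  card : Nat.card P = 2 ^ (k + 3)
  a_mem : a ∈ P
  x_mem : x ∈ P
  x_notMem : x ∉ zpowers a
  conj : ∀ y ∈ P, y ∉ zpowers a → y * a * y⁻¹ = a⁻¹
  sq : ∀ y ∈ P, y ∉ zpowers a → y ^ 2 = a ^ 2 ^ (k + 1)
  mul : ∀ y ∈ P, ∀ y' ∈ P, y ∉ zpowers a → y' ∉ zpowers a → y * y' ∈ zpowers a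

namespace Quat

variable {P : Subgroup G} {a x : G} {k : ℕ} (h : Quat P a x k)

include h

theorem zpowers_le' : zpowers a ≤ P := zpowers_le.2 h.a_mem

theorem isPGroup : IsPGroup 2 P := IsPGroup.of_card h.card

theorem orderOf_i : orderOf (a ^ 2 ^ k) = 4 := by
  rw [orderOf_pow_of_dvd (by positivity) (h.ord ▸ pow_dvd_pow 2 (by omega)), h.ord,
    Nat.pow_div (by omega) two_pos, show k + 2 - k = 2 by omega]
  norm_num

theorem sq_i : (a ^ 2 ^ k) ^ 2 = a ^ 2 ^ (k + 1) := by rw [← pow_mul, ← pow_succ]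

theorem qpair {y : G} (hy : y ∈ P) (hya : y ∉ zpowers a) : IsQPair (a ^ 2 ^ k) y :=
  ⟨h.orderOf_i, by rw [← conj_pow, h.conj y hy hya, inv_pow], by rw [h.sq y hy hya, h.sq_i]⟩

theorem hasQPair : HasQPair P :=
  ⟨_, pow_mem h.a_mem _, x, h.x_mem, h.qpair h.x_mem h.x_notMem⟩

theorem orderOf_eq_four {y : G} (hy : y ∈ P) (hya : y ∉ zpowers a) : orderOf y = 4 :=
  (h.qpair hy hya).orderOf_snd

theorem orderOf_dvd_four_or_mem {y : G} (hy : y ∈ P) (h8 : ¬ orderOf y ∣ 4) : y ∈ zpowers a := by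
  by_contra hya
  exact h8 (by rw [h.orderOf_eq_four hy hya])

theorem zpowers_i_unique {y : G} (hy : y ∈ zpowers a) (h4 : orderOf y = 4) :
    zpowers y = zpowers (a ^ 2 ^ k) := by
  refine H41.eq_of_card_eq_of_le_cyclic (C := zpowers a) inferInstance (zpowers_le.2 hy)
    (zpowers_le.2 (pow_mem (mem_zpowers a) _)) ?_
  rw [Nat.card_zpowers, Nat.card_zpowers, h4, h.orderOf_i]

theorem exists_eq_mul {y : G} (hy : y ∈ P) :
    y ∈ zpowers a ∨ ∃ c ∈ zpowers a, y = c * x := by
  refine or_iff_not_imp_left.2 fun hya => ⟨y * x⁻¹, ?_, by group⟩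
  refine h.mul y hy x⁻¹ (inv_mem h.x_mem) hya fun hh => h.x_notMem ?_
  simpa using inv_mem hh

/-- If a conjugation preserves `P` and `k ≥ 1`, it preserves the cyclic subgroup of index two. -/
theorem conj_mem_zpowers (hk : 1 ≤ k) {g : G} (hg : g * a * g⁻¹ ∈ P) :
    g * a * g⁻¹ ∈ zpowers a := by
  refine h.orderOf_dvd_four_or_mem hg fun h4 => ?_
  have hc : orderOf (g * a * g⁻¹) = orderOf a :=
    orderOf_injective (MulAut.conj g).toMonoidHom (MulAut.conj g).injective a
  rw [hc, h.ord, show (4 : ℕ) = 2 ^ 2 from rfl, Nat.pow_dvd_pow_iff_le_right (by norm_num)] at h4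
  omega

theorem conj_i_mem (hk : 1 ≤ k) {g : G} (hg : g * a * g⁻¹ ∈ P) :
    g * a ^ 2 ^ k * g⁻¹ ∈ zpowers (a ^ 2 ^ k) := by
  rw [← conj_pow]
  obtain ⟨m, hm⟩ := mem_powers_iff_mem_zpowers.2 (h.conj_mem_zpowers hk hg)
  change a ^ m = g * a * g⁻¹ at hm
  rw [← hm, ← pow_mul, mul_comm, pow_mul]
  exact pow_mem (mem_zpowers _) _

/-- A quaternion 2-group normalizing a noncyclic subgroup of order eight has order at most 16. -/
theorem le_one_of_normalizes {S : Subgroup G} (hSP : S ≤ P) (hS : Nat.card S = 8)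
    (hnc : ¬ IsCyclic S) (hn : ∀ s ∈ S, a * s * a⁻¹ ∈ S) : k ≤ 1 := by
  obtain ⟨y, hyS, hya⟩ : ∃ y ∈ S, y ∉ zpowers a := by
    by_contra hno
    push Not at hno
    exact hnc (isCyclic_of_injective (Subgroup.inclusion (fun s hs => hno s hs))
      (Subgroup.inclusion_injective _))
  have hyP := hSP hyS
  have h1 : a ^ 2 = (a * y * a⁻¹) * y⁻¹ := by
    calc a ^ 2 = a * a⁻¹⁻¹ := by rw [inv_inv, pow_two]
      _ = a * (y * a⁻¹ * y⁻¹) := by
        rw [show y * a⁻¹ * y⁻¹ = (y * a * y⁻¹)⁻¹ by group, h.conj y hyP hya]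
      _ = (a * y * a⁻¹) * y⁻¹ := by group
  have h2 : a ^ 2 ∈ S := h1 ▸ S.mul_mem (hn y hyS) (S.inv_mem hyS)
  have h3 : orderOf (a ^ 2) ∣ 8 := hS ▸ Subgroup.orderOf_dvd_natCard _ h2
  rw [orderOf_pow_of_dvd two_ne_zero (h.ord ▸ dvd_pow_self 2 (by omega)), h.ord,
    pow_succ, Nat.mul_div_cancel _ two_pos] at h3
  rw [show (8 : ℕ) = 2 ^ 3 from rfl, Nat.pow_dvd_pow_iff_le_right (by norm_num)] at h3
  by_contra hk
  have hk2 : k = 2 := by omega
  subst hk2
  have h4 : zpowers (a ^ 2) = S := by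
    refine eq_of_le_of_card_ge (zpowers_le.2 h2) ?_
    rw [hS, Nat.card_zpowers, orderOf_pow_of_dvd two_ne_zero (h.ord ▸ dvd_pow_self 2 (by omega)),
      h.ord]
    norm_num
  exact hnc (h4 ▸ inferInstance)

end Quat

namespace PQGroup

variable (hG : PQGroup G)
include hG

theorem exists_quat {P : Subgroup G} (hP : IsPGroup 2 P) (hnc : ¬ IsCyclic P) :
    ∃ a x k, Quat P a x k := by
  haveI : Fact (Nat.Prime 2) := ⟨Nat.prime_two⟩
  obtain ⟨-, n, ⟨e⟩⟩ := (hG.cyclic_or_quaternion hP).resolve_left hnc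
  have hn : n ≠ 0 := by
    rintro rfl
    exact hnc (e.isCyclic.2 (isCyclic_of_orderOf_eq_card (QuaternionGroup.xa (n := 1) 0) (by
      rw [QuaternionGroup.orderOf_xa, Nat.card_eq_fintype_card, QuaternionGroup.card]
      norm_num)))
  obtain ⟨k, rfl⟩ := Nat.exists_eq_add_of_le' (Nat.pos_of_ne_zero hn)
  obtain ⟨A, z, hA, hz1, hzA, hzz, hsq, hconj, hmul, -⟩ := H25.quaternion_facts e
  have hcard : Nat.card P = 2 ^ (k + 3) := by
    rw [Nat.card_congr e.toEquiv, Nat.card_eq_fintype_card, QuaternionGroup.card]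
    ring
  obtain ⟨x, hx⟩ : ∃ x : P, x ∉ A := by
    by_contra hno
    push Not at hno
    exact hnc (isCyclic_of_surjective A.subtype fun x => ⟨⟨x, hno x⟩, rfl⟩)
  have hi : A.index = 2 := by
    rw [index_eq_two_iff]
    refine ⟨x, fun b => ?_⟩
    by_cases hb : b ∈ A
    · exact Or.inr ⟨hb, fun h => hx (by simpa using A.mul_mem (A.inv_mem hb) h)⟩
    · exact Or.inl ⟨hmul b x hb hx, hb⟩
  obtain ⟨a, ha⟩ := hA.exists_generator
  have haA : (zpowers (a : P)) = A := le_antisymm (zpowers_le.2 a.2) fun b hb => by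
    obtain ⟨m, hm⟩ := mem_zpowers_iff.1 (ha ⟨b, hb⟩)
    exact ⟨m, congrArg Subtype.val hm⟩
  have hordA : orderOf ((a : P)) = 2 ^ (k + 2) := by
    have h1 := A.card_mul_index
    rw [hi, hcard] at h1
    rw [← Nat.card_zpowers, haA]
    exact mul_right_cancel₀ two_ne_zero (h1.trans (by ring))
  have hzval : z = (a : P) ^ 2 ^ (k + 1) := by
    have h1 : orderOf z = 2 := orderOf_eq_prime (by rw [sq, hzz]) hz1
    refine (hG.subgroup P).involution_unique h1 ?_
    rw [orderOf_pow_of_dvd (by positivity) (hordA ▸ pow_dvd_pow 2 (by omega)), hordA,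
      Nat.pow_div (by omega) two_pos, show k + 2 - (k + 1) = 1 by omega, pow_one]
  have hmem : ∀ y : P, (y : G) ∈ zpowers ((a : P) : G) ↔ y ∈ A := fun y => by
    refine Iff.trans ?_ (SetLike.ext_iff.1 haA y)
    rw [show ((a : P) : G) = P.subtype a from rfl, ← MonoidHom.map_zpowers]
    exact Subgroup.mem_map_iff_mem P.subtype_injective
  refine ⟨((a : P) : G), x, k, by rw [orderOf_coe, hordA], hcard, (a : P).2, x.2,
    fun h => hx ((hmem x).1 h), ?_, ?_, ?_⟩
  · intro y hy hya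
    exact congrArg Subtype.val (hconj ⟨y, hy⟩ (fun h => hya ((hmem ⟨y, hy⟩).2 h)) a a.2)
  · intro y hy hya
    have := hsq ⟨y, hy⟩ (fun h => hya ((hmem ⟨y, hy⟩).2 h))
    rw [← sq, hzval] at this
    exact congrArg Subtype.val this
  · intro y hy y' hy' hya hya'
    exact (hmem ⟨y * y', P.mul_mem hy hy'⟩).2 (hmul ⟨y, hy⟩ ⟨y', hy'⟩
      (fun h => hya ((hmem ⟨y, hy⟩).2 h)) (fun h => hya' ((hmem ⟨y', hy'⟩).2 h)))

theorem hasQPair_of_not_cyclic {P : Subgroup G} (hP : IsPGroup 2 P) (hnc : ¬ IsCyclic P) :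
    HasQPair P := by
  obtain ⟨a, x, k, h⟩ := hG.exists_quat hP hnc
  exact h.hasQPair

/-- Without quaternion pairs all Sylow subgroups are cyclic. -/
theorem isZGroup_of_not_hasQPair {H : Subgroup G} (hH : ¬ HasQPair H) : IsZGroup H :=
  ⟨fun p hp P => by
    haveI := Fact.mk hp
    have hmap : IsPGroup p ((P : Subgroup H).map H.subtype) := P.2.map _
    have : IsCyclic ((P : Subgroup H).map H.subtype) := by
      by_contra hnc
      obtain ⟨rfl, -⟩ := (hG.cyclic_or_quaternion hmap).resolve_left hnc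
      exact hH ((hG.hasQPair_of_not_cyclic hmap hnc).mono (map_subtype_le _))
    exact ((P : Subgroup H).equivMapOfInjective H.subtype H.subtype_injective).isCyclic.2 this⟩

theorem isSolvable_of_not_hasQPair {H : Subgroup G} (hH : ¬ HasQPair H) : Group.IsSolvable H := by
  haveI := hG.isZGroup_of_not_hasQPair hH
  infer_instance

theorem orderOf_sq_of_four {i : G} (hi : orderOf i = 4) {t : G} (ht : orderOf t = 2) :
    t = i ^ 2 := by
  refine hG.involution_unique ht ?_
  rw [orderOf_pow_of_dvd two_ne_zero (hi ▸ (by norm_num)), hi]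

/-- The involution is central. -/
theorem commute_involution {t : G} (ht : orderOf t = 2) (g : G) : Commute g t := by
  have h := hG.involution_unique
    ((orderOf_injective (MulAut.conj g).toMonoidHom (MulAut.conj g).injective t).trans ht) ht
  change g * t * g⁻¹ = t at h
  exact mul_inv_eq_iff_eq_mul.1 h

/-- An element of odd prime order normalizing a cyclic or quaternion 2-subgroup centralizes it,
except for order three and a quaternion group of order eight. -/
theorem commute_two_group' {T : Subgroup G} (hT : IsPGroup 2 T) {g : G} {p m₀ : ℕ} (hp : p.Prime)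
    (hp2 : p ≠ 2) (hg : orderOf g = p ^ m₀) (hn : ∀ t ∈ T, g * t * g⁻¹ ∈ T)
    (h3 : 5 ≤ p ∨ ¬ HasQPair T ∨ 8 < Nat.card T) : ∀ t ∈ T, Commute g t := by
  haveI : Fact (Nat.Prime 2) := ⟨Nat.prime_two⟩
  haveI := Fact.mk hp
  have hgp : g ^ p ^ m₀ = 1 := hg ▸ pow_orderOf_eq_one g
  have hcop : ¬ 2 ∣ p ^ m₀ := fun h =>
    hp2 ((Nat.prime_dvd_prime_iff_eq Nat.prime_two hp).1 (Nat.prime_two.dvd_of_dvd_pow h)).symm
  have hcyc : ∀ y : G, g * y * g⁻¹ ∈ zpowers y → (∃ m, orderOf y = 2 ^ m) → Commute g y := by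
    rintro y hy ⟨m, hm⟩
    rcases m with _ | m
    · rw [pow_zero, orderOf_eq_one_iff] at hm
      rw [hm]; exact Commute.one_right g
    refine commute_of_coprime_of_socle (N := p ^ m₀) Nat.prime_two hm hy (by rw [hgp]; exact Commute.one_left y)
      hcop (hG.commute_involution ?_ g)
    rw [orderOf_pow_of_dvd (by positivity) (hm ▸ pow_dvd_pow 2 (by omega)), hm,
      Nat.pow_div (by omega) two_pos, show m + 1 - m = 1 by omega, pow_one]
  by_cases hnc : IsCyclic T
  · obtain ⟨y, hy⟩ := hnc.exists_generator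
    have hTy : ∀ t ∈ T, t ∈ zpowers (y : G) := fun t ht => by
      obtain ⟨j, hj⟩ := mem_zpowers_iff.1 (hy ⟨t, ht⟩)
      exact ⟨j, congrArg Subtype.val hj⟩
    obtain ⟨m, hm⟩ := IsPGroup.iff_orderOf.1 hT y
    have hc := hcyc y (hTy _ (hn y y.2)) ⟨m, by rw [orderOf_coe, hm]⟩
    intro t ht
    obtain ⟨j, rfl⟩ := mem_zpowers_iff.1 (hTy t ht)
    exact hc.zpow_right j
  obtain ⟨a, x, k, h⟩ := hG.exists_quat hT hnc
  by_cases hk : 1 ≤ k
  · have ha : Commute g a := hcyc a (h.conj_mem_zpowers hk (hn a h.a_mem)) ⟨_, h.ord⟩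
    have hgx : g * x * g⁻¹ ∉ zpowers a := by
      intro hmem
      apply h.x_notMem
      obtain ⟨j, hj⟩ := mem_zpowers_iff.1 hmem
      refine ⟨j, ?_⟩
      show a ^ j = x
      calc a ^ j = g⁻¹ * (g * a ^ j) := by group
        _ = g⁻¹ * (a ^ j * g) := by rw [(ha.zpow_right j).eq]
        _ = x := by rw [hj]; group
    obtain ⟨c, hc, hce⟩ := (h.exists_eq_mul (hn x h.x_mem)).resolve_left hgx
    have hgc : Commute g c := by
      obtain ⟨j, rfl⟩ := mem_zpowers_iff.1 hc
      exact ha.zpow_right j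
    have hit : ∀ m : ℕ, g ^ m * x * (g ^ m)⁻¹ = c ^ m * x := by
      intro m
      induction m with
      | zero => simp
      | succ m ih =>
        calc g ^ (m + 1) * x * (g ^ (m + 1))⁻¹ = g * (g ^ m * x * (g ^ m)⁻¹) * g⁻¹ := by
              rw [pow_succ']; group
          _ = g * c ^ m * x * g⁻¹ := by rw [ih]; group
          _ = c ^ m * (g * x * g⁻¹) := by rw [(hgc.pow_right m).eq]; group
          _ = c ^ (m + 1) * x := by rw [hce, pow_succ]; group
    have hcp : c ^ p ^ m₀ = 1 := by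
      have := hit (p ^ m₀)
      rw [hgp] at this
      simpa using this
    have hc1 : c = 1 := by
      obtain ⟨m, hm⟩ := IsPGroup.iff_orderOf.1 hT ⟨c, h.zpowers_le' hc⟩
      rw [← orderOf_coe] at hm
      have h1 := orderOf_dvd_of_pow_eq_one hcp
      rw [hm] at h1
      rcases m with _ | m
      · rwa [pow_zero, orderOf_eq_one_iff] at hm
      · exact absurd ((dvd_pow_self 2 (Nat.succ_ne_zero m)).trans h1) hcop
    rw [hc1, one_mul] at hce
    have hgx' : Commute g x := mul_inv_eq_iff_eq_mul.1 hce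
    intro t ht
    rcases h.exists_eq_mul ht with hta | ⟨d, hd, rfl⟩
    · obtain ⟨j, rfl⟩ := mem_zpowers_iff.1 hta
      exact ha.zpow_right j
    · obtain ⟨j, rfl⟩ := mem_zpowers_iff.1 hd
      exact (ha.zpow_right j).mul_right hgx'
  · have hk0 : k = 0 := by omega
    have h8 : Nat.card T = 8 := by rw [h.card, hk0]; norm_num
    have hp5 : 5 ≤ p := by
      rcases h3 with h3 | h3 | h3
      · exact h3
      · exact absurd h.hasQPair h3
      · omega
    have hgN : g ∈ normalizer (T : Set G) := by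
      rw [mem_normalizer_iff]
      intro t
      refine ⟨hn t, fun ht => ?_⟩
      have hmap : T.map (MulAut.conj g).toMonoidHom = T := by
        refine eq_of_le_of_card_ge ?_
          (Subgroup.card_map_of_injective (MulAut.conj g).injective).ge
        rintro _ ⟨w, hw, rfl⟩
        exact hn w hw
      rw [← hmap] at ht
      obtain ⟨w, hw, he⟩ := ht
      have hwt : w = t := (MulAut.conj g).injective he
      exact hwt ▸ hw
    let φ : zpowers g →* MulAut T :=
      T.normalizerMonoidHom.comp (Subgroup.inclusion (zpowers_le.2 hgN))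
    letI : MulAction (zpowers g) T := MulAction.compHom T φ
    have hpz : IsPGroup p (zpowers g) :=
      IsPGroup.of_card (n := m₀) (by rw [Nat.card_zpowers, hg])
    have hmod := hpz.card_modEq_card_fixedPoints T
    let F : Subgroup T :=
      { carrier := MulAction.fixedPoints (zpowers g) T
        one_mem' := fun w => map_one (φ w)
        mul_mem' := fun {u v} hu hv w => by
          show φ w (u * v) = u * v
          rw [map_mul]
          exact congrArg₂ (· * ·) (hu w) (hv w)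
        inv_mem' := fun {u} hu w => by
          show φ w u⁻¹ = u⁻¹
          rw [map_inv]
          exact congrArg (·⁻¹) (hu w) }
    have hF : Nat.card F = Nat.card (MulAction.fixedPoints (zpowers g) T) := rfl
    have hz : (⟨a ^ 2 ^ (k + 1), pow_mem h.a_mem _⟩ : T) ∈ F := by
      intro w
      apply Subtype.ext
      show (w : G) * a ^ 2 ^ (k + 1) * (w : G)⁻¹ = a ^ 2 ^ (k + 1)
      rw [(hG.commute_involution ?_ (w : G)).eq, mul_inv_cancel_right]
      rw [orderOf_pow_of_dvd (by positivity) (h.ord ▸ pow_dvd_pow 2 (by omega)), h.ord,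
        Nat.pow_div (by omega) two_pos, show k + 2 - (k + 1) = 1 by omega, pow_one]
    have hF2 : 2 ∣ Nat.card F := by
      have h1 := F.orderOf_dvd_natCard hz
      have h2 : orderOf (⟨a ^ 2 ^ (k + 1), pow_mem h.a_mem _⟩ : T) = 2 := by
        rw [← orderOf_coe, orderOf_pow_of_dvd (by positivity) (h.ord ▸ pow_dvd_pow 2 (by omega)),
          h.ord, Nat.pow_div (by omega) two_pos, show k + 2 - (k + 1) = 1 by omega, pow_one]
      rwa [h2] at h1
    have hF8 : Nat.card F ∣ 8 := h8 ▸ F.card_subgroup_dvd_card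
    have hFeq : Nat.card F = 8 := by
      obtain ⟨e, he, hFe⟩ := (Nat.dvd_prime_pow Nat.prime_two).1
        (show Nat.card F ∣ 2 ^ 3 from hF8)
      rw [h8, ← hF, hFe] at hmod
      rw [hFe] at hF2 ⊢
      replace hmod := (Nat.modEq_iff_dvd' (Nat.pow_le_pow_right two_pos he |>.trans (le_of_eq rfl))).1 hmod.symm
      interval_cases e
      · omega
      · have := Nat.le_of_dvd (by norm_num) hmod
        interval_cases p <;> first | omega | norm_num at hp
      · have := Nat.le_of_dvd (by norm_num) hmod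
        omega
      · norm_num
    intro t ht
    have htF : (⟨t, ht⟩ : T) ∈ F := by
      rw [Subgroup.eq_top_of_card_eq F (hFeq.trans h8.symm)]
      exact mem_top _
    have h1 := congrArg Subtype.val (htF ⟨g, mem_zpowers g⟩)
    change g * t * g⁻¹ = t at h1
    exact mul_inv_eq_iff_eq_mul.1 h1

theorem commute_two_group {T : Subgroup G} (hT : IsPGroup 2 T) {g : G} {p : ℕ} (hp : p.Prime)
    (hp2 : p ≠ 2) (hg : orderOf g = p) (hn : ∀ t ∈ T, g * t * g⁻¹ ∈ T)
    (h3 : 5 ≤ p ∨ ¬ HasQPair T ∨ 8 < Nat.card T) : ∀ t ∈ T, Commute g t :=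
  hG.commute_two_group' (m₀ := 1) hT hp hp2 (by rw [hg, pow_one]) hn h3

end PQGroup

end Cfsg.Agent.H78.Zass
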