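import Cfsg.Agent.H78.Zass.Nonsolvable
import Cfsg.Agent.H78.Zass.Solvable
import Cfsg.Agent.H76.TIHall
import Cfsg.Agent.H33.QuaternionAut
import Cfsg.Agent.Coprime.Action
import Cfsg.Agent.Frobenius.Construct

/-!
# π-separable groups with a TI subgroup that is Hall in its normalizer
-/

set_option autoImplicit false
set_option linter.unusedSectionVars false
set_option linter.style.haveILetI false

namespace Cfsg.Agent.H78.Zass

open Subgroup
open scoped commutatorElement

theorem sl25_not_solvable :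
    ¬ Group.IsSolvable (Matrix.SpecialLinearGroup (Fin 2) (ZMod 5)) := by
  intro h
  haveI := h
  haveI : Nontrivial (Matrix.SpecialLinearGroup (Fin 2) (ZMod 5)) :=
    Finite.one_lt_card_iff_nontrivial.1 (by rw [H66.card_SL25]; norm_num)
  refine (Group.IsSolvable.commutator_lt_top_of_nontrivial
    (Matrix.SpecialLinearGroup (Fin 2) (ZMod 5))).ne ?_
  rw [← Abelianization.ker_of (Matrix.SpecialLinearGroup (Fin 2) (ZMod 5)), eq_top_iff,
    ← H66.closure_xSL_ySL, closure_le]
  set φ := (Abelianization.of : Matrix.SpecialLinearGroup (Fin 2) (ZMod 5) →* _)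
  have hx : φ H66.xSL ^ 3 = 1 := by rw [← map_pow, H66.xSL_pow, map_one]
  have hy : φ H66.ySL ^ 5 = 1 := by rw [← map_pow, H66.ySL_pow, map_one]
  have hxy : (φ H66.xSL * φ H66.ySL) ^ 4 = 1 := by
    rw [← map_mul, ← map_pow, show (H66.xSL * H66.ySL) ^ 4 = ((H66.xSL * H66.ySL) ^ 2) ^ 2 by
      rw [← pow_mul], H66.xySL_pow, H66.zSL_pow, map_one]
  rw [mul_pow, pow_succ (φ H66.xSL) 3, hx, one_mul] at hxy
  have h12 : φ H66.ySL ^ 12 = 1 := by
    have h1 : φ H66.xSL = (φ H66.ySL ^ 4)⁻¹ := eq_inv_of_mul_eq_one_left hxy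
    rw [h1, inv_pow, inv_eq_one, ← pow_mul] at hx
    exact hx
  have hy1 : φ H66.ySL = 1 := by
    rw [← orderOf_eq_one_iff]
    exact Nat.eq_one_of_dvd_coprimes (by norm_num : Nat.Coprime 12 5)
      (orderOf_dvd_of_pow_eq_one h12) (orderOf_dvd_of_pow_eq_one hy)
  rw [hy1, one_pow, mul_one] at hxy
  rintro g (rfl | rfl)
  · exact MonoidHom.mem_ker.2 hxy
  · exact MonoidHom.mem_ker.2 hy1

variable {G : Type*} [Group G] [Finite G]

/-- A TI subgroup acting nontrivially and coprimely on a solvable normal subgroup is a Frobenius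
complement. -/
theorem exists_complement_of_ti {H O : Subgroup G} (hTI : Cfsg.IsTISubset (H : Set G)) [O.Normal]
    (hOc : (Nat.card O).Coprime (Nat.card H)) (hO : ¬ O ≤ normalizer (H : Set G))
    (hOs : Group.IsSolvable O) :
    ∃ (L : Type) (_ : Group L) (_ : Finite L) (K : Subgroup L),
      Cfsg.IsFrobeniusComplement K ∧ Nonempty (H ≃* K) := by
  classical
  haveI hHnt : Nontrivial H := by
    rw [Subgroup.nontrivial_iff_ne_bot]
    intro h
    apply hO
    have hb : normalizer (H : Set G) = ⊤ := by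
      rw [h, normalizer_eq_top_iff]; infer_instance
    rw [hb]
    exact le_top
  -- a minimal invariant subgroup not centralized
  set Ω : Set (Subgroup G) :=
    {U | U ≤ O ∧ H ≤ normalizer (U : Set G) ∧ ¬ U ≤ centralizer (H : Set G)} with hΩ
  obtain ⟨U, ⟨hUO, hHU, hUc⟩, hmin⟩ : ∃ U ∈ Ω, ∀ W ∈ Ω, W ≤ U → U ≤ W := by
    obtain ⟨U, hU, hmin⟩ := (Set.toFinite Ω).exists_minimalFor id Ω
      ⟨O, le_rfl, by rw [normalizer_eq_top_iff.2 inferInstance]; exact le_top,
        fun h => hO (h.trans (centralizer_le_normalizer _))⟩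
    exact ⟨U, hU, fun W hW hle => hmin hW hle⟩
  set F : Subgroup G := U ⊓ centralizer (H : Set G) with hF
  set D : Subgroup G := ⁅U, U⁆ with hD
  have hDU : D ≤ U := by
    rw [hD, commutator_le]
    exact fun a ha b hb => mul_mem (mul_mem (mul_mem ha hb) (inv_mem ha)) (inv_mem hb)
  haveI : Group.IsSolvable U := Coprime.isSolvable_of_le hUO hOs
  have hU1 : U ≠ ⊥ := fun h => hUc (h ▸ bot_le)
  have hDne : D ≠ U := by
    intro h
    haveI : Nontrivial U := (Subgroup.nontrivial_iff_ne_bot U).2 hU1
    refine (Group.IsSolvable.commutator_lt_top_of_nontrivial U).ne ?_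
    exact PQGroup.commutator_top_of_perfect h
  have hHD : ∀ h ∈ H, ∀ d ∈ D, h * d * h⁻¹ ∈ D := by
    intro h hh d hd
    have hmap : D.map (MulAut.conj h).toMonoidHom = D := by
      rw [hD, Subgroup.map_commutator, Coprime.map_conj_eq (hHU hh)]
    exact hmap ▸ ⟨d, hd, rfl⟩
  have hHDn : H ≤ normalizer (D : Set G) := fun h hh => by
    rw [mem_normalizer_iff]
    intro d
    refine ⟨hHD h hh d, fun hd => ?_⟩
    have := hHD h⁻¹ (inv_mem hh) _ hd
    simpa [mul_assoc] using this
  have hDc : D ≤ centralizer (H : Set G) := by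
    by_contra hc
    exact hDne (le_antisymm hDU (hmin D ⟨hDU.trans hUO, hHDn, hc⟩ hDU))
  have hDF : D ≤ F := le_inf hDU hDc
  set U₀ := U
  have hFU : F ≤ U₀ := inf_le_left
  haveI hFn : (F.subgroupOf U₀).Normal := by
    constructor
    intro w hw u
    rw [mem_subgroupOf] at hw ⊢
    have h1 : ⁅(u : G), (w : G)⁆ ∈ D := commutator_mem_commutator u.2 w.2
    have h2 := mul_mem (hDF h1) hw
    rwa [commutatorElement_def, inv_mul_cancel_right] at h2
  have hHF : ∀ h : H, ∀ w ∈ F, (h : G) * w * (h : G)⁻¹ ∈ F := fun h w hw => by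
    rw [mem_centralizer_iff.1 hw.2 h h.2, mul_inv_cancel_right]
    exact hw
  let act : H →* MulAut U₀ := U₀.normalizerMonoidHom.comp (Subgroup.inclusion hHU)
  have hmapF : ∀ h : H, (F.subgroupOf U₀).map (act h).toMonoidHom = F.subgroupOf U₀ := by
    intro h
    refine eq_of_le_of_card_ge ?_ (Subgroup.card_map_of_injective (act h).injective).ge
    rintro _ ⟨w, hw, rfl⟩
    exact mem_subgroupOf.2 (hHF h w (mem_subgroupOf.1 hw))
  let φ : H →* MulAut (U₀ ⧸ F.subgroupOf U₀) :=
    { toFun := fun h => QuotientGroup.congr _ _ (act h) (hmapF h)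
      map_one' := MulEquiv.ext fun q => by
        induction q using QuotientGroup.induction_on with
        | H w => exact congrArg QuotientGroup.mk (DFunLike.congr_fun (map_one act) w)
      map_mul' := fun a b => MulEquiv.ext fun q => by
        induction q using QuotientGroup.induction_on with
        | H w => exact congrArg QuotientGroup.mk (DFunLike.congr_fun (map_mul act a b) w) }
  haveI : Nontrivial (U₀ ⧸ F.subgroupOf U₀) := by
    rw [QuotientGroup.nontrivial_iff]
    intro h
    rw [subgroupOf_eq_top] at h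
    exact hUc (h.trans inf_le_right)
  refine Frobenius.exists_of_action φ fun h hh q hq => ?_
  induction q using QuotientGroup.induction_on with
  | H w =>
    rw [QuotientGroup.eq_one_iff, mem_subgroupOf]
    have hfix : ∀ a ∈ zpowers (h : G), (w : G)⁻¹ * (a * w * a⁻¹) ∈ F := by
      have hgen : (w : G)⁻¹ * ((h : G) * w * (h : G)⁻¹) ∈ F := by
        have h1 : ((act h w : U₀) : U₀ ⧸ F.subgroupOf U₀) = (w : U₀ ⧸ F.subgroupOf U₀) := hq
        rw [eq_comm, QuotientGroup.eq, mem_subgroupOf] at h1
        exact h1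
      intro a ha
      obtain ⟨k, -, rfl⟩ : ∃ k : ℕ, k < orderOf (h : G) ∧ (h : G) ^ k = a := by
        rw [← mem_powers_iff_mem_zpowers, mem_powers_iff_mem_range_orderOf, Finset.mem_image] at ha
        obtain ⟨k, hk, hk'⟩ := ha
        exact ⟨k, Finset.mem_range.1 hk, hk'⟩
      clear ha
      induction k with
      | zero => simp
      | succ k ih =>
        have h2 := hHF h _ ih
        have h3 := mul_mem hgen h2
        rw [pow_succ']
        convert h3 using 1
        group
    have hzH : zpowers (h : G) ≤ H := zpowers_le.2 h.2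
    obtain ⟨c, ⟨hcU, hcC⟩, hcF⟩ := Coprime.exists_centralizer_mem_coset
      (A := zpowers (h : G)) (K := U₀) (hzH.trans hHU)
      ((hOc.symm.coprime_dvd_left (Subgroup.card_dvd_of_le hzH)).coprime_dvd_right
        (Subgroup.card_dvd_of_le hUO))
      (Or.inl (Coprime.isSolvable_zpowers _)) hFU
      (hzH.trans fun g hg => mem_normalizer_iff.2 fun v => ⟨fun hv => hHF ⟨g, hg⟩ v hv, fun hv => by
        have := hHF ⟨g⁻¹, inv_mem hg⟩ _ hv
        simpa [mul_assoc] using this⟩) w.2 hfix
    have hcom : (h : G) * c = c * h := mem_centralizer_iff.1 hcC h (mem_zpowers _)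
    have hcN : c ∈ normalizer (H : Set G) := by
      by_contra hcN
      refine hh (Subtype.ext (hTI c hcN h h.2 ?_))
      rw [← hcom, mul_inv_cancel_right]
      exact h.2
    have hcFmem : c ∈ F := ⟨hcU, H76.ti_fixed_le_centralizer hOc (hUO hcU) hcN⟩
    have h4 := mul_mem hcFmem (inv_mem hcF)
    simpa using h4

/-- A group acting coprimely on a solvable Frobenius complement is abelian modulo the
centralizer. -/
theorem commutator_le_centralizer_of_complement {H A : Subgroup G} {L : Type*} [Group L] [Finite L]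
    {K : Subgroup L} (hK : Cfsg.IsFrobeniusComplement K) (f : H →* K) (hf : Function.Injective f)
    (hs : Group.IsSolvable H) (hA : A ≤ normalizer (H : Set G))
    (hco : (Nat.card A).Coprime (Nat.card H)) :
    ⁅A, A⁆ ≤ centralizer (H : Set G) := by
  classical
  have hG := pqGroup_of_complement hK f hf
  rw [commutator_le]
  intro a ha b hb
  set C : Subgroup G := H ⊓ centralizer ({⁅a, b⁆} : Set G) with hC
  suffices hle : H ≤ C by
    rw [mem_centralizer_iff]
    exact fun h hh => mem_centralizer_singleton_iff.1 (hle hh).2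
  suffices hd : Nat.card H ∣ Nat.card C from
    (eq_of_le_of_card_ge (inf_le_left : C ≤ H) (Nat.le_of_dvd Nat.card_pos hd)).ge
  rw [Nat.dvd_iff_prime_pow_dvd_dvd]
  intro p k hp hpk
  rcases Nat.eq_zero_or_pos k with rfl | hk
  · simp
  haveI := Fact.mk hp
  obtain ⟨P, hP⟩ := Coprime.exists_invariant_sylow hA hco (Or.inr hs) p
  set P' : Subgroup G := (P : Subgroup H).map H.subtype with hP'
  have hpkP : p ^ k ∣ Nat.card P' := by
    rw [hP', Subgroup.card_map_of_injective H.subtype_injective, P.card_eq_multiplicity]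
    exact pow_dvd_pow p ((hp.pow_dvd_iff_le_factorization Nat.card_pos.ne').1 hpk)
  refine hpkP.trans (Subgroup.card_dvd_of_le (le_inf (map_subtype_le _) fun u hu => ?_))
  rw [mem_centralizer_singleton_iff]
  let e₀ : (P : Subgroup H) ≃* P' := equivMapOfInjective _ H.subtype H.subtype_injective
  rcases hG.cyclic_or_quaternion P.2 with hc | ⟨rfl, n, ⟨e⟩⟩
  · haveI : IsCyclic P' := e₀.isCyclic.1 hc
    obtain ⟨⟨g, hg⟩, hgen⟩ := (inferInstance : IsCyclic P').exists_generator
    have hgen' : ∀ v ∈ P', v ∈ zpowers g := fun v hv => by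
      obtain ⟨j, hj⟩ := mem_zpowers_iff.1 (hgen ⟨v, hv⟩)
      exact ⟨j, congrArg Subtype.val hj⟩
    have hc := commute_commutator
      (hgen' _ ((mem_normalizer_iff.1 (hP ha) g).1 hg))
      (hgen' _ ((mem_normalizer_iff.1 (hP hb) g).1 hg))
    obtain ⟨j, rfl⟩ := mem_zpowers_iff.1 (hgen' u hu)
    exact (hc.zpow_right j).symm.eq
  · let ψ : A →* MulAut (QuaternionGroup (2 ^ n)) :=
      (MulAut.congr (e₀.symm.trans e)).toMonoidHom.comp
        (P'.normalizerMonoidHom.comp (Subgroup.inclusion hP))
    have hAodd : Odd (Nat.card A) := by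
      refine Nat.odd_iff.2 ?_
      by_contra h
      exact Nat.not_coprime_of_dvd_of_dvd one_lt_two (show 2 ∣ Nat.card A by omega)
        ((dvd_pow_self 2 hk.ne').trans hpk) hco
    have helem : ∀ α ∈ ψ.range, α = 1 ∨ (n = 1 ∧ α ^ 3 = 1) := by
      rintro _ ⟨c, rfl⟩
      by_cases h1 : ψ c = 1
      · exact Or.inl h1
      · obtain ⟨h2, h3, -⟩ := H33.QuatAut.quaternion_aut (ψ c)
          (hAodd.of_dvd_nat ((orderOf_map_dvd ψ c).trans (orderOf_dvd_natCard c))) h1
        exact Or.inr ⟨h2, h3⟩
    have hcomm : ∀ c d : A, Commute (ψ c) (ψ d) := by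
      intro c d
      by_cases hn : n = 1
      · subst hn
        haveI : Fact (Nat.Prime 3) := ⟨Nat.prime_three⟩
        have h3 : IsPGroup 3 ψ.range := fun α => ⟨1, Subtype.ext (by
          show (α : MulAut (QuaternionGroup (2 ^ 1))) ^ 3 ^ 1 = 1
          rw [show (3 : ℕ) ^ 1 = 3 from rfl]
          rcases helem α α.2 with h | ⟨-, h⟩
          · rw [h, one_pow]
          · exact h)⟩
        obtain ⟨j, hj⟩ := IsPGroup.iff_card.1 h3
        have hle : Nat.card ψ.range ≤ 24 :=
          (Subgroup.card_le_card_group _).trans card_mulAut_q8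
        have hj2 : j ≤ 2 := by
          by_contra h
          have := Nat.pow_le_pow_right (show 0 < 3 by norm_num) (show 3 ≤ j by omega)
          omega
        have key : ∀ u v : ψ.range, u * v = v * u := by
          rcases (show j ≤ 1 ∨ j = 2 by omega) with h | h
          · haveI : IsCyclic ψ.range := by
              rcases Nat.le_one_iff_eq_zero_or_eq_one.1 h with rfl | rfl
              · haveI : Subsingleton ψ.range :=
                  (Nat.card_eq_one_iff_unique.1 (by rw [hj, pow_zero])).1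
                infer_instance
              · exact isCyclic_of_prime_card (by rw [hj, pow_one])
            letI := IsCyclic.commGroup (α := ψ.range)
            exact mul_comm
          · exact IsPGroup.commutative_of_card_eq_prime_sq (by rw [hj, h])
        exact congrArg Subtype.val (key ⟨ψ c, c, rfl⟩ ⟨ψ d, d, rfl⟩)
      · have htriv : ∀ c, ψ c = 1 := fun c =>
          (helem (ψ c) ⟨c, rfl⟩).resolve_right fun h => hn h.1
        rw [htriv c]
        exact Commute.one_left _
    have h1 : ψ ⁅(⟨a, ha⟩ : A), ⟨b, hb⟩⁆ = 1 := by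
      rw [map_commutatorElement, commutatorElement_eq_one_iff_commute]
      exact hcomm _ _
    have h2 : P'.normalizerMonoidHom (Subgroup.inclusion hP ⁅(⟨a, ha⟩ : A), ⟨b, hb⟩⁆) = 1 :=
      (MulAut.congr (e₀.symm.trans e)).injective (h1.trans (map_one _).symm)
    have h3 := congrArg Subtype.val (DFunLike.congr_fun h2 (⟨u, hu⟩ : P'))
    change ⁅a, b⁆ * u * ⁅a, b⁆⁻¹ = u at h3
    exact (mul_inv_eq_iff_eq_mul.1 h3).symm

end Cfsg.Agent.H78.Zass
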