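import Cfsg.Agent.H78.Zass.Main
import Cfsg.Agent.H24.FPF
import Cfsg.Agent.Frobenius.Structure
import Cfsg.Agent.S3378

/-!
# Zassenhaus: perfect Frobenius complements
-/

set_option autoImplicit false
set_option linter.unusedSectionVars false
set_option linter.style.haveILetI false

namespace Cfsg.Agent.H78.Zass

open Subgroup

universe u v

open scoped IsMulCommutative in
theorem pqGroup_of_complement {G : Type u} [Group G] [Finite G] {L : Type v} [Group L] [Finite L]
    {H : Subgroup L} (hH : Cfsg.IsFrobeniusComplement H) (f : G →* H) (hf : Function.Injective f) :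
    PQGroup G := by
  refine ⟨fun S p q hp hq hcard => Frobenius.fpf_elim hH fun A _ φ hA hφ => ?_⟩
  haveI := hA
  have hfpf := hφ.comp (f := f.comp S.subtype) (hf.comp S.subtype_injective)
  rcases le_total p q with h | h
  · exact H24.isCyclic_of_card_mul_prime (φ.comp (f.comp S.subtype)) hfpf hp hq h hcard
  · exact H24.isCyclic_of_card_mul_prime (φ.comp (f.comp S.subtype)) hfpf hq hp h
      (hcard.trans (mul_comm p q))

theorem sylow_two_not_cyclic {G : Type u} [Group G] [Finite G] [Nontrivial G] (hG : PQGroup G)
    (hperf : commutator G = ⊤) (P : Sylow 2 G) : ¬ IsCyclic (P : Subgroup G) := by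
  haveI : Fact (Nat.Prime 2) := ⟨Nat.prime_two⟩
  intro hc
  obtain ⟨i', -, j', -, hq⟩ := hG.hasQPair_of_perfect hperf
  have hi' : IsPGroup 2 (zpowers i') :=
    IsPGroup.of_card (n := 2) (by rw [Nat.card_zpowers, hq.1]; rfl)
  have hj' : IsPGroup 2 (zpowers j') :=
    IsPGroup.of_card (n := 2) (by rw [Nat.card_zpowers, hq.orderOf_snd]; rfl)
  have hn : zpowers j' ≤ normalizer (zpowers i' : Set G) :=
    zpowers_le.2 (mem_normalizer_zpowers_iff.2 (hq.2.1.symm ▸ inv_mem (mem_zpowers i')))
  have hT : IsPGroup 2 ↥(zpowers i' ⊔ zpowers j') := IsPGroup.to_sup_of_normal_left' hi' hj' hn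
  obtain ⟨P', hP'⟩ := hT.exists_le_sylow
  exact hq.not_isCyclic (hP' (mem_sup_left (mem_zpowers _))) (hP' (mem_sup_right (mem_zpowers _)))
    ((P'.equiv P).isCyclic.2 hc)

theorem perfect_complement_aux {L : Type v} [Group L] [Finite L] {H : Subgroup L}
    (hH : Cfsg.IsFrobeniusComplement H) : ∀ (n : ℕ) (G : Type u) [Group G] [Finite G],
    Nat.card G = n → ∀ f : G →* H, Function.Injective f → commutator G = ⊤ → Nontrivial G →
      Nonempty (G ≃* Matrix.SpecialLinearGroup (Fin 2) (ZMod 5)) := by
  intro n
  induction n using Nat.strong_induction_on with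
  | _ n ih =>
    intro G _ _ hn f hf hperf hnt
    haveI : Fact (Nat.Prime 2) := ⟨Nat.prime_two⟩
    have hG := pqGroup_of_complement hH f hf
    have hIH : SubSL G := by
      intro S htop hbot hS
      have hlt : Nat.card S < n := by
        rw [← hn]
        refine lt_of_le_of_ne (Subgroup.card_le_card_group S) fun h => htop ?_
        exact Subgroup.eq_top_of_card_eq S h
      exact ih _ hlt S rfl (f.comp S.subtype) (hf.comp S.subtype_injective)
        (PQGroup.commutator_top_of_perfect hS) ((Subgroup.nontrivial_iff_ne_bot S).2 hbot)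
    obtain ⟨P⟩ : Nonempty (Sylow 2 G) := inferInstance
    have hnc := sylow_two_not_cyclic hG hperf P
    obtain ⟨a, x, k, hq⟩ := hG.exists_quat P.2 hnc
    obtain ⟨χ, hχ⟩ := exists_fpfChar hH f hf
    obtain ⟨hcard, hk⟩ := (Base.mk hG hperf hIH hq).card_eq hχ
    refine S3378.unique_part hcard ?_ fun P' => ?_
    · intro hs
      exact (Group.IsSolvable.commutator_lt_top_of_nontrivial G).ne hperf
    · rcases hG.cyclic_or_quaternion P.2 with hc | ⟨-, m, ⟨e⟩⟩
      · exact absurd hc hnc
      · have h8 : 4 * 2 ^ m = 8 := by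
          rw [← QuaternionGroup.card, ← Nat.card_eq_fintype_card, ← Nat.card_congr e.toEquiv,
            hq.card, hk]
          norm_num
        have hm : m = 1 := by
          rcases m with _ | _ | m
          · norm_num at h8
          · rfl
          · rw [pow_succ, pow_succ] at h8
            have := Nat.one_le_two_pow (n := m)
            omega
        subst hm
        exact ⟨(P'.equiv P).trans e⟩

/-- **Zassenhaus**: a nontrivial perfect group embedding in a Frobenius complement is `SL(2,5)`. -/
theorem perfect_complement_iso {G : Type u} [Group G] [Finite G] [Nontrivial G] {L : Type v}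
    [Group L] [Finite L] {H : Subgroup L} (hH : Cfsg.IsFrobeniusComplement H) (f : G →* H)
    (hf : Function.Injective f) (hperf : commutator G = ⊤) :
    Nonempty (G ≃* Matrix.SpecialLinearGroup (Fin 2) (ZMod 5)) :=
  perfect_complement_aux hH _ G rfl f hf hperf inferInstance

end Cfsg.Agent.H78.Zass
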